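/-
Tensor powers of an orthogonal space in odd characteristic: the form, slot isometries, signed reflections, and the
setting of a group containing the stabiliser.
-/
import Cfsg.Agent.Lib.Classical22.OrthOrthTensor.Invariant
import Cfsg.Agent.Lib.Classical22.SpOrthTensor.Base
import Cfsg.Agent.Lib.Classical22.TensorWreathMax.Pure
import Cfsg.Agent.Lib.Classical22.TensorPower.Power

set_option autoImplicit false
set_option linter.unusedSectionVars false
set_option linter.unusedSimpArgs false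

namespace CfsgLib.Classical22.OPow

open Matrix Kronecker CfsgLib.Transvec CfsgLib.Classical22.TensorMax CfsgLib.Classical22.TensorMax.SympO
open CfsgLib.Classical22.TensorMax.SpO (refl refl_mulVec refl_mul_self refl_iso refl_fix sym_dot sym_outer sym_eq
  sym_zero_left sym_zero_right sym_sub_left sym_sub_right sym_neg_left sym_quad_add sym_quad_smul unitOf)
open CfsgLib.Classical22.TensorMax.OO (eA eA_mulVec eA_iso eA_mul eA_mul_neg eA_zero sym_neg_right)
open CfsgLib.Classical22.TWMax (Idx pv tmat tmat_mulVec tmat_mul tmat_one mat_ext_pv single_eq_pv tGL tGL_apply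
  TWData IsTW emb emb_mulVec_pv slotEl slotEl_apply slotEl_val slotEl_mul slotEl_data twData_tGL)
open CfsgLib.Classical22.TPow (pG)
open scoped MatrixGroups

variable {F : Type*} [Field F] {T t k : ℕ} {f : (Fin k → F) → (Fin k → F) → F}

/-- The tensor power form. -/
noncomputable def bil (f : (Fin k → F) → (Fin k → F) → F) (x y : Idx T k → F) : F := (pG T f *ᵥ y) ⬝ᵥ x

/-- An isometry of the tensor power form. -/
def PIso (f : (Fin k → F) → (Fin k → F) → F) (g : GL (Idx T k) F) : Prop :=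
  ∀ x y, bil f (g.val *ᵥ x) (g.val *ᵥ y) = bil f x y

/-- The isometries of `f`. -/
def isoF (f : (Fin k → F) → (Fin k → F) → F) : Subgroup (GL (Fin k) F) where
  carrier := {A | ∀ x y, f (A.val *ᵥ x) (A.val *ᵥ y) = f x y}
  one_mem' x y := by rw [Units.val_one, one_mulVec, one_mulVec]
  mul_mem' {A B} hA hB x y := by rw [Units.val_mul, ← mulVec_mulVec, ← mulVec_mulVec, hA, hB]
  inv_mem' {A} hA x y := by rw [← hA, Transvec.mulVec_inv_cancel, Transvec.mulVec_inv_cancel]

lemma mem_isoF {A : GL (Fin k) F} : A ∈ isoF f ↔ ∀ x y, f (A.val *ᵥ x) (A.val *ᵥ y) = f x y := Iff.rfl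

/-- The subgroup generated by squares of isometries. -/
def isoSq (f : (Fin k → F) → (Fin k → F) → F) : Subgroup (GL (Fin k) F) :=
  Subgroup.closure {B | ∃ A ∈ isoF f, B = A * A}

lemma isoSq_le : isoSq f ≤ isoF f := (Subgroup.closure_le _).mpr (by
  rintro B ⟨A, hA, rfl⟩; exact (isoF f).mul_mem hA hA)

lemma sq_mem_isoSq {A : GL (Fin k) F} (hA : A ∈ isoF f) : A * A ∈ isoSq f :=
  Subgroup.subset_closure ⟨A, hA, rfl⟩

lemma comm_mem_isoSq {A B : GL (Fin k) F} (hA : A ∈ isoF f) (hB : B ∈ isoF f) :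
    A * B * A⁻¹ * B⁻¹ ∈ isoSq f := by
  rw [show A * B * A⁻¹ * B⁻¹ = (A * A) * ((A⁻¹ * B) * (A⁻¹ * B)) * (B⁻¹ * B⁻¹) by group]
  exact mul_mem (mul_mem (sq_mem_isoSq hA) (sq_mem_isoSq (mul_mem (inv_mem hA) hB))) (sq_mem_isoSq (inv_mem hB))

lemma isoSq_conj {A B : GL (Fin k) F} (hA : A ∈ isoF f) (hB : B ∈ isoSq f) : A * B * A⁻¹ ∈ isoSq f := by
  have := mul_mem (comm_mem_isoSq hA (isoSq_le hB)) hB
  rwa [inv_mul_cancel_right] at this

/-- An isometry of odd order is in the subgroup generated by squares. -/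
lemma isoSq_of_pow {A : GL (Fin k) F} (hA : A ∈ isoF f) {n : ℕ} (hn : Odd n) (h : A ^ n = 1) : A ∈ isoSq f := by
  obtain ⟨j, rfl⟩ := hn
  have e : A = A ^ (j + 1) * A ^ (j + 1) := by
    rw [← pow_add, show j + 1 + (j + 1) = (2 * j + 1) + 1 by ring, pow_succ, h, one_mul]
  rw [e]
  exact sq_mem_isoSq (pow_mem hA _)

section Sym
variable (hf : Cfsg.Geo.IsSymmetricForm f)
include hf

lemma form_smul_left (c : F) (x y : Fin k → F) : f (c • x) y = c * f x y := hf.bilinear.smul_left c x y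
lemma form_smul_right (c : F) (x y : Fin k → F) : f x (c • y) = c * f x y := hf.bilinear.smul_right c x y

lemma bil_pv (xs ys : Fin T → Fin k → F) : bil f (pv xs) (pv ys) = ∏ i, f (xs i) (ys i) := by
  rw [bil, pG, tmat_mulVec]
  simp only [dotProduct, pv, ← Finset.prod_mul_distrib]
  rw [(Fintype.prod_sum fun i j => (gram f *ᵥ ys i) j * xs i j).symm]
  exact Finset.prod_congr rfl fun i _ => (sym_dot hf _ _).symm

omit hf in
lemma bil_add_left (x y z : Idx T k → F) : bil f (x + y) z = bil f x z + bil f y z := dotProduct_add _ _ _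

omit hf in
lemma bil_smul_left (c : F) (x z : Idx T k → F) : bil f (c • x) z = c * bil f x z := by
  simp [bil, dotProduct_smul]

omit hf in
lemma bil_add_right (x y z : Idx T k → F) : bil f x (y + z) = bil f x y + bil f x z := by
  simp [bil, mulVec_add, add_dotProduct]

omit hf in
lemma bil_smul_right (c : F) (x z : Idx T k → F) : bil f x (c • z) = c * bil f x z := by
  simp [bil, mulVec_smul]

/-- Isometry can be tested on pure vectors. -/
lemma piso_of_pv {g : GL (Idx T k) F}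
    (h : ∀ xs ys, bil f (g.val *ᵥ pv xs) (g.val *ᵥ pv ys) = ∏ i, f (xs i) (ys i)) : PIso f g := by
  have e : ∀ x y, bil f (g.val *ᵥ x) (g.val *ᵥ y) = (((g.val)ᵀ * pG T f * g.val) *ᵥ y) ⬝ᵥ x := fun x y => by
    rw [bil, mul_assoc, ← mulVec_mulVec, ← mulVec_mulVec, mulVec_transpose, ← dotProduct_mulVec]
  intro x y
  rw [e]
  change _ = (pG T f *ᵥ y) ⬝ᵥ x
  congr 2
  refine Matrix.ext fun a b => ?_
  have h1 := h (fun i => Pi.single (a i) 1) (fun i => Pi.single (b i) 1)
  rw [e, ← bil_pv hf, ← single_eq_pv, ← single_eq_pv] at h1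
  simpa [bil] using h1

lemma piso_tGL {gs : Fin T → GL (Fin k) F} (h : ∀ i, gs i ∈ isoF f) : PIso f (tGL gs) :=
  piso_of_pv hf fun xs ys => by
    rw [tGL_apply, tGL_apply, bil_pv hf]
    exact Finset.prod_congr rfl fun i _ => h i _ _

lemma piso_slotEl (s : Fin (t + 1)) {B : GL (Fin k) F} (hB : B ∈ isoF f) : PIso f (slotEl s B) :=
  piso_tGL hf fun i => by
    by_cases hi : i = s
    · subst hi; simpa using hB
    · simp [hi, (isoF f).one_mem]

end Sym

lemma piso_mul {g h : GL (Idx T k) F} (hg : PIso f g) (hh : PIso f h) : PIso f (g * h) := fun x y => by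
  rw [Units.val_mul, ← mulVec_mulVec, ← mulVec_mulVec, hg, hh]

lemma piso_inv {g : GL (Idx T k) F} (hg : PIso f g) : PIso f g⁻¹ := fun x y => by
  rw [← hg, Transvec.mulVec_inv_cancel, Transvec.mulVec_inv_cancel]

/-- The reflection as a group element; the identity at a singular vector. -/
noncomputable def rG (hf : Cfsg.Geo.IsSymmetricForm f) (v : Fin k → F) : GL (Fin k) F :=
  haveI := Classical.propDecidable (f v v = 0)
  if h : f v v = 0 then 1 else unitOf (refl f v) (refl f v) (refl_mul_self hf h)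

/-- The signed reflection, of determinant one in odd dimension. -/
noncomputable def eG (hf : Cfsg.Geo.IsSymmetricForm f) (v : Fin k → F) : GL (Fin k) F := -rG hf v

section Refl
variable (hf : Cfsg.Geo.IsSymmetricForm f)
include hf

lemma rG_val {v : Fin k → F} (hv : f v v ≠ 0) : (rG hf v).val = refl f v := by
  rw [rG, dif_neg hv]; rfl

lemma rG_apply {v : Fin k → F} (hv : f v v ≠ 0) (x : Fin k → F) :
    (rG hf v).val *ᵥ x = x - (2 / f v v * f x v) • v := by rw [rG_val hf hv, refl_mulVec hf]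

lemma eG_apply {v : Fin k → F} (hv : f v v ≠ 0) (x : Fin k → F) :
    (eG hf v).val *ᵥ x = (2 / f v v * f x v) • v - x := by
  rw [eG, Units.val_neg, neg_mulVec, rG_apply hf hv, neg_sub]

lemma eG_self {v : Fin k → F} (hv : f v v ≠ 0) : (eG hf v).val *ᵥ v = v := by
  rw [eG_apply hf hv, div_mul_cancel₀ _ hv, two_smul, add_sub_cancel_right]

lemma eG_perp {v x : Fin k → F} (hv : f v v ≠ 0) (h : f x v = 0) : (eG hf v).val *ᵥ x = -x := by
  rw [eG_apply hf hv, h, mul_zero, zero_smul, zero_sub]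

lemma rG_iso (v : Fin k → F) : rG hf v ∈ isoF f := fun x y => by
  by_cases hv : f v v = 0
  · rw [rG, dif_pos hv, Units.val_one, one_mulVec, one_mulVec]
  · rw [rG_val hf hv]; exact refl_iso hf hv x y

lemma eG_iso (v : Fin k → F) : eG hf v ∈ isoF f := fun x y => by
  rw [eG, Units.val_neg, neg_mulVec, neg_mulVec, sym_neg_left hf, sym_neg_right hf, neg_neg]
  exact rG_iso hf v x y

lemma rG_mul_self (v : Fin k → F) : rG hf v * rG hf v = 1 := by
  by_cases hv : f v v = 0
  · rw [rG, dif_pos hv, one_mul]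
  · exact Units.ext (by rw [Units.val_mul, rG_val hf hv, refl_mul_self hf hv, Units.val_one])

lemma eG_mul_self (v : Fin k → F) : eG hf v * eG hf v = 1 := by rw [eG, neg_mul_neg, rG_mul_self]

lemma eG_inv (v : Fin k → F) : (eG hf v)⁻¹ = eG hf v := inv_eq_of_mul_eq_one_right (eG_mul_self hf v)

lemma eG_mul (v w : Fin k → F) : eG hf v * eG hf w = rG hf v * rG hf w := by rw [eG, eG, neg_mul_neg]

lemma rG_smul {c : F} (hc : c ≠ 0) (v : Fin k → F) : rG hf (c • v) = rG hf v := by
  by_cases hv : f v v = 0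
  · rw [rG, rG, dif_pos hv, dif_pos (by rw [sym_quad_smul hf, hv, mul_zero])]
  · have hv' : f (c • v) (c • v) ≠ 0 := by rw [sym_quad_smul hf]; exact mul_ne_zero (mul_ne_zero hc hc) hv
    refine Transvec.gl_ext fun x => ?_
    rw [rG_apply hf hv', rG_apply hf hv, sym_quad_smul hf, form_smul_right hf, smul_smul]
    congr 2
    field_simp

lemma eG_smul {c : F} (hc : c ≠ 0) (v : Fin k → F) : eG hf (c • v) = eG hf v := by rw [eG, eG, rG_smul hf hc]

lemma rG_conj {A : GL (Fin k) F} (hA : A ∈ isoF f) (v : Fin k → F) :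
    A * rG hf v * A⁻¹ = rG hf (A.val *ᵥ v) := by
  by_cases hv : f v v = 0
  · rw [rG, rG, dif_pos hv, dif_pos (by rw [hA, hv]), mul_one, mul_inv_cancel]
  · have hv' : f (A.val *ᵥ v) (A.val *ᵥ v) ≠ 0 := by rwa [hA]
    refine Transvec.gl_ext fun x => ?_
    rw [Transvec.mul_mulVec, Transvec.mul_mulVec, rG_apply hf hv, mulVec_sub, mulVec_smul,
      Transvec.mulVec_inv_cancel, rG_apply hf hv', hA v v, ← hA (A⁻¹.val *ᵥ x) v, Transvec.mulVec_inv_cancel]

lemma eG_conj {A : GL (Fin k) F} (hA : A ∈ isoF f) (v : Fin k → F) :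
    A * eG hf v * A⁻¹ = eG hf (A.val *ᵥ v) := by rw [eG, eG, mul_neg, neg_mul, rG_conj hf hA]

/-- Two reflections of one square class multiply to a product of squares. -/
lemma rG_mul_mem {v w : Fin k → F} (h2 : (2 : F) ≠ 0) (hv : f v v ≠ 0) (hw : f w w ≠ 0)
    (hsq : IsSquare (f v v * f w w)) : rG hf v * rG hf w ∈ isoSq f := by
  obtain ⟨r, hr⟩ := hsq
  obtain ⟨v', hv'⟩ : ∃ v', v' = (r / f v v) • v := ⟨_, rfl⟩
  have hr0 : r ≠ 0 := fun h => mul_ne_zero hv hw (by rw [hr, h, mul_zero])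
  have hq : f v' v' = f w w := by
    rw [hv', sym_quad_smul hf]; field_simp; linear_combination -hr
  obtain ⟨A, hA, hAw⟩ : ∃ A ∈ isoF f, A.val *ᵥ w = v' ∨ A.val *ᵥ w = -v' := by
    by_cases hd : f (w - v') (w - v') = 0
    · have hd' : f (w + v') (w + v') ≠ 0 := by
        intro h0
        rw [sym_quad_add hf] at h0
        simp only [sym_sub_left hf, sym_sub_right hf, hf.symm v' w] at hd
        have h4 : 2 * (2 * f w w) = 0 := by linear_combination h0 + hd - 2 * hq
        exact hw ((mul_eq_zero.mp ((mul_eq_zero.mp h4).resolve_left h2)).resolve_left h2)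
      refine ⟨_, rG_iso hf (w + v'), Or.inr ?_⟩
      rw [rG_apply hf hd']
      have e : 2 / f (w + v') (w + v') * f w (w + v') = 1 := by
        rw [div_mul_eq_mul_div, div_eq_one_iff_eq hd', sym_quad_add hf, hf.bilinear.add_right]
        linear_combination -hq
      rw [e, one_smul]; abel
    · refine ⟨_, rG_iso hf (w - v'), Or.inl ?_⟩
      rw [rG_apply hf hd]
      have e : 2 / f (w - v') (w - v') * f w (w - v') = 1 := by
        rw [div_mul_eq_mul_div, div_eq_one_iff_eq hd]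
        simp only [sym_sub_left hf, sym_sub_right hf, hf.symm v' w]
        linear_combination -hq
      rw [e, one_smul]; abel
  have hrv : rG hf v = A * rG hf w * A⁻¹ := by
    rw [rG_conj hf hA]
    rcases hAw with h | h
    · rw [h, hv', rG_smul hf (div_ne_zero hr0 hv)]
    · rw [h, hv', ← neg_smul, rG_smul hf (neg_ne_zero.mpr (div_ne_zero hr0 hv))]
  rw [hrv]
  have := comm_mem_isoSq hA (rG_iso hf w)
  rwa [show (rG hf w)⁻¹ = rG hf w from inv_eq_of_mul_eq_one_right (rG_mul_self hf w)] at this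

/-- The Eichler element as a group element; the identity unless it is defined. -/
noncomputable def eU (h2 : (2 : F) ≠ 0) (u w : Fin k → F) : GL (Fin k) F :=
  haveI := Classical.propDecidable (f u u = 0 ∧ f u w = 0)
  if h : f u u = 0 ∧ f u w = 0 then unitOf (eA f u w) (eA f u (-w)) (eA_mul_neg hf h2 h.1 h.2) else 1

lemma eU_val (h2 : (2 : F) ≠ 0) {u w : Fin k → F} (hu : f u u = 0) (huw : f u w = 0) :
    (eU hf h2 u w).val = eA f u w := by rw [eU, dif_pos ⟨hu, huw⟩]; rfl

lemma eU_iso (h2 : (2 : F) ≠ 0) (u w : Fin k → F) : eU hf h2 u w ∈ isoF f := fun x y => by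
  by_cases h : f u u = 0 ∧ f u w = 0
  · rw [eU_val hf h2 h.1 h.2]; exact eA_iso hf h2 h.1 h.2 x y
  · rw [eU, dif_neg h, Units.val_one, one_mulVec, one_mulVec]

lemma eU_mem (h2 : (2 : F) ≠ 0) (u w : Fin k → F) : eU hf h2 u w ∈ isoSq f := by
  by_cases h : f u u = 0 ∧ f u w = 0
  · have hh : f u ((2 : F)⁻¹ • w) = 0 := by rw [form_smul_right hf, h.2, mul_zero]
    have e : eU hf h2 u w = eU hf h2 u ((2 : F)⁻¹ • w) * eU hf h2 u ((2 : F)⁻¹ • w) := Units.ext (by
      rw [Units.val_mul, eU_val hf h2 h.1 hh, eA_mul hf h2 h.1 hh hh, eU_val hf h2 h.1 h.2, ← two_smul F ((2:F)⁻¹ • w),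
        smul_inv_smul₀ h2])
    rw [e]
    exact sq_mem_isoSq (eU_iso hf h2 _ _)
  · rw [eU, dif_neg h]; exact one_mem _

end Refl

/-- A similitude of multiplier `μ`. -/
def IsSim (f : (Fin k → F) → (Fin k → F) → F) (μ : F) (A : Matrix (Fin k) (Fin k) F) : Prop :=
  μ ≠ 0 ∧ ∀ x y, f (A *ᵥ x) (A *ᵥ y) = μ * f x y

section Sim
variable (hf : Cfsg.Geo.IsSymmetricForm f)
include hf

/-- A similitude in one slot and its inverse in another one form an isometry. -/
lemma piso_sim_pair {s l : Fin (t + 1)} (hsl : s ≠ l) {A : GL (Fin k) F} {μ : F} (hA : IsSim f μ A.val) :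
    PIso f (slotEl s A * slotEl l A⁻¹) := piso_of_pv hf fun xs ys => by
  have hA' : ∀ x y, f (A⁻¹.val *ᵥ x) (A⁻¹.val *ᵥ y) = μ⁻¹ * f x y := fun x y => by
    have h := hA.2 (A⁻¹.val *ᵥ x) (A⁻¹.val *ᵥ y)
    rw [Transvec.mulVec_inv_cancel, Transvec.mulVec_inv_cancel] at h
    rw [h, inv_mul_cancel_left₀ hA.1]
  simp only [Transvec.mul_mulVec, slotEl_apply, bil_pv hf, Function.update_of_ne hsl]
  rw [← Finset.mul_prod_erase _ _ (Finset.mem_univ s), ← Finset.mul_prod_erase _ _ (Finset.mem_univ s),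
    Function.update_self, Function.update_self, hA.2,
    ← Finset.mul_prod_erase (Finset.univ.erase s) _ (Finset.mem_erase.mpr ⟨hsl.symm, Finset.mem_univ l⟩),
    ← Finset.mul_prod_erase (Finset.univ.erase s) _ (Finset.mem_erase.mpr ⟨hsl.symm, Finset.mem_univ l⟩),
    Function.update_of_ne hsl.symm, Function.update_of_ne hsl.symm, Function.update_self, Function.update_self, hA']
  rw [Finset.prod_congr rfl fun m hm => by
    rw [Function.update_of_ne (Finset.ne_of_mem_erase (Finset.mem_of_mem_erase hm)),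
      Function.update_of_ne (Finset.ne_of_mem_erase hm), Function.update_of_ne
      (Finset.ne_of_mem_erase (Finset.mem_of_mem_erase hm)), Function.update_of_ne (Finset.ne_of_mem_erase hm)]]
  have := hA.1
  field_simp

/-- A similitude conjugates signed reflections to signed reflections. -/
lemma eG_conj_sim {A : GL (Fin k) F} {μ : F} (hA : IsSim f μ A.val) (v : Fin k → F) :
    A * eG hf v * A⁻¹ = eG hf (A.val *ᵥ v) := by
  rw [eG, eG, mul_neg, neg_mul, neg_inj]
  by_cases hv : f v v = 0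
  · rw [rG, rG, dif_pos hv, dif_pos (by rw [hA.2, hv, mul_zero]), mul_one, mul_inv_cancel]
  · have hv' : f (A.val *ᵥ v) (A.val *ᵥ v) ≠ 0 := by rw [hA.2]; exact mul_ne_zero hA.1 hv
    refine Transvec.gl_ext fun x => ?_
    rw [Transvec.mul_mulVec, Transvec.mul_mulVec, rG_apply hf hv, mulVec_sub, mulVec_smul,
      Transvec.mulVec_inv_cancel, rG_apply hf hv', hA.2]
    have h := hA.2 (A⁻¹.val *ᵥ x) v
    rw [Transvec.mulVec_inv_cancel] at h
    rw [h]
    congr 2
    have := hA.1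
    field_simp

end Sim

/-- The signed reflection at `v` in slot `s` lies in the group. -/
def Adm (hf : Cfsg.Geo.IsSymmetricForm f) (M : Subgroup (GL (Idx (t + 1) k) F)) (s : Fin (t + 1))
    (v : Fin k → F) : Prop :=
  f v v ≠ 0 ∧ slotEl s (eG hf v) ∈ M

/-- A group of isometries containing the elements of the stabiliser with trivial spinor class. -/
structure Ctx (f : (Fin k → F) → (Fin k → F) → F) (M : Subgroup (GL (Idx (t + 1) k) F)) : Prop where
  sym : Cfsg.Geo.IsSymmetricForm f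
  two : (2 : F) ≠ 0
  dim : 3 ≤ k
  four : k = 4 → ∀ x y : Fin k → F, x ≠ 0 → f x x = 0 → f y y = 0 → f x y = 0 → y ∈ Submodule.span F {x}
  small : k = 3 → 5 ≤ Nat.card F
  iso : ∀ g ∈ M, PIso f g
  sq : ∀ (s : Fin (t + 1)), ∀ B ∈ isoSq f, slotEl s B ∈ M
  pair : ∀ (v : Fin k → F) (s l : Fin (t + 1)), f v v ≠ 0 → s ≠ l →
    slotEl s (eG sym v) * slotEl l (eG sym v) ∈ M
  perm : ∀ σ : Equiv.Perm (Fin (t + 1)), (Odd k ∨ k = 4 ∨ Equiv.Perm.sign σ = 1) →
    ∃ g ∈ M, ∃ gs, (∀ l, gs l ∈ isoF f) ∧ TWData g σ gs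
  sim : Even k → ∀ (s l : Fin (t + 1)) (A : GL (Fin k) F) (μ : F), s ≠ l → IsSim f μ A.val →
    slotEl s A * slotEl l A⁻¹ ∈ M
  refl : Even k → ∀ (s : Fin (t + 1)) (v : Fin k → F), f v v ≠ 0 → slotEl s (eG sym v) ∈ M
  adm : ∃ c : F, c ≠ 0 ∧ ∀ (s : Fin (t + 1)) v, f v v ≠ 0 → IsSquare (c * f v v) → slotEl s (eG sym v) ∈ M

section CtxLemmas
variable {M : Subgroup (GL (Idx (t + 1) k) F)} (C : Ctx f M)
include C

lemma Ctx.eich_mem (s : Fin (t + 1)) (u w : Fin k → F) : slotEl s (eU C.sym C.two u w) ∈ M :=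
  C.sq s _ (eU_mem C.sym C.two u w)

lemma Ctx.rpair_mem {v w : Fin k → F} (hv : f v v ≠ 0) (hw : f w w ≠ 0) (hsq : IsSquare (f v v * f w w))
    (s : Fin (t + 1)) : slotEl s (eG C.sym v * eG C.sym w) ∈ M :=
  C.sq s _ (by rw [eG_mul]; exact rG_mul_mem C.sym C.two hv hw hsq)

/-- Signed reflections of one square class in two slots. -/
lemma Ctx.pair' {v w : Fin k → F} (hv : f v v ≠ 0) (hw : f w w ≠ 0) (hsq : IsSquare (f v v * f w w))
    {s l : Fin (t + 1)} (hsl : s ≠ l) : slotEl s (eG C.sym v) * slotEl l (eG C.sym w) ∈ M := by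
  have h := mul_mem (C.pair v s l hv hsl) (C.rpair_mem hv hw hsq l)
  rwa [mul_assoc, slotEl_mul, ← mul_assoc (eG C.sym v), eG_mul_self, one_mul] at h

lemma Ctx.adm_of_sq {v w : Fin k → F} {s : Fin (t + 1)} (hv : Adm C.sym M s v) (hw : f w w ≠ 0)
    (hsq : IsSquare (f v v * f w w)) (l : Fin (t + 1)) : Adm C.sym M l w := by
  refine ⟨hw, ?_⟩
  by_cases hsl : s = l
  · subst hsl
    have h := mul_mem hv.2 (C.rpair_mem hv.1 hw hsq s)
    rwa [slotEl_mul, ← mul_assoc, eG_mul_self, one_mul] at h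
  · have h := mul_mem hv.2 (C.pair' hv.1 hw hsq hsl)
    rwa [← mul_assoc, slotEl_mul, eG_mul_self, TWMax.slotEl, show Function.update (fun _ : Fin (t + 1) =>
      (1 : GL (Fin k) F)) s 1 = fun _ => 1 from Function.update_eq_self _ _, show tGL (fun _ : Fin (t + 1) =>
      (1 : GL (Fin k) F)) = 1 from Units.ext tmat_one, one_mul] at h

lemma Ctx.three_of_lt (h : ¬ 4 ≤ k) : k = 3 := by
  have := C.dim; omega

end CtxLemmas

end CfsgLib.Classical22.OPow
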