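/-
Multilinearity of pure vectors and the Eichler transformations of the tensor power form in a group.
-/
import Cfsg.Agent.Lib.Classical22.OrthPower.Base

set_option autoImplicit false
set_option linter.unusedSectionVars false
set_option linter.unusedSimpArgs false

namespace CfsgLib.Classical22.OPow

open Matrix CfsgLib.Transvec CfsgLib.Classical22.TensorMax
open CfsgLib.Classical22.TensorMax.SpO (sym_dot sym_zero_left sym_zero_right)
open CfsgLib.Classical22.TWMax (Idx pv single_eq_pv slotEl slotEl_apply)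
open scoped MatrixGroups

variable {F : Type*} [Field F] {T k : ℕ}

lemma pv_update (xs : Fin T → Fin k → F) (i : Fin T) (y : Fin k → F) (a : Idx T k) :
    pv (Function.update xs i y) a = y (a i) * ∏ j ∈ Finset.univ.erase i, xs j (a j) := by
  rw [pv, ← Finset.mul_prod_erase _ _ (Finset.mem_univ i), Function.update_self]
  congr 1
  exact Finset.prod_congr rfl fun j hj => by rw [Function.update_of_ne (Finset.ne_of_mem_erase hj)]

lemma pv_add (xs : Fin T → Fin k → F) (i : Fin T) (a b : Fin k → F) :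
    pv (Function.update xs i (a + b)) = pv (Function.update xs i a) + pv (Function.update xs i b) :=
  funext fun x => by simp [pv_update, add_mul]

lemma pv_smul (xs : Fin T → Fin k → F) (i : Fin T) (c : F) (a : Fin k → F) :
    pv (Function.update xs i (c • a)) = c • pv (Function.update xs i a) :=
  funext fun x => by simp [pv_update, mul_assoc]

lemma pv_sub (xs : Fin T → Fin k → F) (i : Fin T) (a b : Fin k → F) :
    pv (Function.update xs i (a - b)) = pv (Function.update xs i a) - pv (Function.update xs i b) :=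
  funext fun x => by simp [pv_update, sub_mul]

lemma pv_self (xs : Fin T → Fin k → F) (i : Fin T) : pv (Function.update xs i (xs i)) = pv xs := by
  rw [Function.update_eq_self]

/-- A property closed under sums holds for every vector if it holds for pure vectors with factors in a spanning
set closed under scaling. -/
theorem pv_induction {G : Set (Fin k → F)} (hG : ∀ x : Fin k → F, ∃ a ∈ G, ∃ b ∈ G, ∃ c ∈ G, x = a + b + c)
    {P : (Idx T k → F) → Prop} (h0 : P 0) (hadd : ∀ v w, P v → P w → P (v + w))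
    (hsmul : ∀ (c : F) v, P v → P (c • v)) (h : ∀ xs : Fin T → Fin k → F, (∀ i, xs i ∈ G) → P (pv xs))
    (v : Idx T k → F) : P v := by
  classical
  have key : ∀ (S : Finset (Fin T)) (xs : Fin T → Fin k → F), (∀ i, i ∉ S → xs i ∈ G) → P (pv xs) := by
    intro S
    induction S using Finset.induction_on with
    | empty => exact fun xs hx => h xs fun i => hx i (Finset.notMem_empty i)
    | insert i S hi ih =>
      intro xs hx
      obtain ⟨a, ha, b, hb, c, hc, e⟩ := hG (xs i)
      have hne : ∀ y ∈ G, P (pv (Function.update xs i y)) := fun y hy => ih _ fun j hj => by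
        by_cases hji : j = i
        · subst hji; rwa [Function.update_self]
        · rw [Function.update_of_ne hji]; exact hx j (by simp [hji, hj])
      rw [← pv_self xs i, e, pv_add, pv_add]
      exact hadd _ _ (hadd _ _ (hne a ha) (hne b hb)) (hne c hc)
  have hv : v = ∑ x : Idx T k, v x • (Pi.single x (1 : F) : Idx T k → F) := pi_eq_sum_univ' v
  rw [hv]
  exact Finset.sum_induction _ P hadd h0 fun x _ => hsmul _ _ (by
    rw [single_eq_pv]; exact key Finset.univ _ fun i hi => absurd (Finset.mem_univ i) hi)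

variable {f : (Fin k → F) → (Fin k → F) → F}

section Bil
variable (hf : Cfsg.Geo.IsSymmetricForm f)

lemma bil_zero_left (y : Idx T k → F) : bil f 0 y = 0 := dotProduct_zero _
lemma bil_zero_right (x : Idx T k → F) : bil f x 0 = 0 := by simp [bil]
lemma bil_neg_left (x y : Idx T k → F) : bil f (-x) y = -bil f x y := dotProduct_neg _ _
lemma bil_neg_right (x y : Idx T k → F) : bil f x (-y) = -bil f x y := by simp [bil, mulVec_neg]

lemma bil_sub_left (x y z : Idx T k → F) : bil f (x - y) z = bil f x z - bil f y z := dotProduct_sub _ _ _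

lemma bil_sub_right (x y z : Idx T k → F) : bil f x (y - z) = bil f x y - bil f x z := by
  simp [bil, mulVec_sub, sub_dotProduct]

include hf

lemma bil_comm (x y : Idx T k → F) : bil f x y = bil f y x := by
  have hu : ∀ z : Fin k → F, ∃ a ∈ (Set.univ : Set (Fin k → F)), ∃ b ∈ (Set.univ : Set (Fin k → F)),
      ∃ c ∈ (Set.univ : Set (Fin k → F)), z = a + b + c :=
    fun z => ⟨z, trivial, 0, trivial, 0, trivial, by simp⟩
  refine pv_induction hu (P := fun v => ∀ w, bil f v w = bil f w v) (fun w => by rw [bil_zero_left, bil_zero_right])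
    (fun v w hv hw u => by rw [bil_add_left, bil_add_right, hv, hw])
    (fun c v hv u => by rw [bil_smul_left, bil_smul_right, hv]) (fun xs _ => ?_) x y
  refine pv_induction hu (P := fun w => bil f (pv xs) w = bil f w (pv xs)) ?_ ?_ ?_ ?_
  · rw [bil_zero_left, bil_zero_right]
  · intro v w hv hw; rw [bil_add_left, bil_add_right, hv, hw]
  · intro c v hv; rw [bil_smul_left, bil_smul_right, hv]
  · intro ys _
    rw [bil_pv hf, bil_pv hf]
    exact Finset.prod_congr rfl fun i _ => hf.symm _ _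

end Bil

variable {t : ℕ} {M : Subgroup (GL (Idx (t + 1) k) F)}

/-- The group contains the Eichler transformation at `P` and `W`. -/
def EI (f : (Fin k → F) → (Fin k → F) → F) (M : Subgroup (GL (Idx (t + 1) k) F)) (P W : Idx (t + 1) k → F) : Prop :=
  ∃ g ∈ M, ∀ v, g.val *ᵥ v = v + bil f v P • W - bil f v W • P - (bil f W W / 2 * bil f v P) • P

/-- The group contains the Eichler transformations at `P` and all multiples of `W`. -/
def ES (f : (Fin k → F) → (Fin k → F) → F) (M : Subgroup (GL (Idx (t + 1) k) F)) (P W : Idx (t + 1) k → F) : Prop :=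
  ∀ c : F, EI f M P (c • W)

variable (C : Ctx f M)
include C

lemma Ctx.ei_zero (P : Idx (t + 1) k → F) : EI f M P 0 :=
  ⟨1, M.one_mem, fun v => by simp [bil_zero_right, bil_zero_left]⟩

lemma Ctx.ei_add {P W W' : Idx (t + 1) k → F} (hP : bil f P P = 0) (hW : bil f P W = 0) (hW' : bil f P W' = 0)
    (h : EI f M P W) (h' : EI f M P W') : EI f M P (W + W') := by
  have h2 := C.two
  obtain ⟨g, hg, hgv⟩ := h
  obtain ⟨g', hg', hg'v⟩ := h'
  refine ⟨g * g', M.mul_mem hg hg', fun v => ?_⟩
  rw [Units.val_mul, ← mulVec_mulVec, hgv, hg'v]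
  simp only [bil_sub_left, bil_add_left, bil_add_right, bil_smul_left, hP, hW, hW', bil_comm C.sym W' P,
    bil_comm C.sym W P, bil_comm C.sym W' W]
  match_scalars <;> field_simp <;> ring

lemma Ctx.ei_smul_left (c : F) {P W : Idx (t + 1) k → F} (h : EI f M P (c • W)) : EI f M (c • P) W := by
  obtain ⟨g, hg, hgv⟩ := h
  refine ⟨g, hg, fun v => ?_⟩
  rw [hgv]
  simp only [bil_smul_left, bil_smul_right]
  module

lemma Ctx.ei_smul_left' (c : F) {P W : Idx (t + 1) k → F} (h : EI f M (c • P) W) : EI f M P (c • W) := by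
  obtain ⟨g, hg, hgv⟩ := h
  refine ⟨g, hg, fun v => ?_⟩
  rw [hgv]
  simp only [bil_smul_left, bil_smul_right]
  module

lemma Ctx.ei_neg {P W : Idx (t + 1) k → F} (hP : bil f P P = 0) (hW : bil f P W = 0) (h : EI f M P W) :
    EI f M P (-W) := by
  have h2 := C.two
  obtain ⟨g, hg, hgv⟩ := h
  refine ⟨g⁻¹, M.inv_mem hg, fun v => mulVec_injective g ?_⟩
  simp only
  rw [Transvec.mulVec_inv_cancel, hgv]
  rw [← neg_one_smul F W]
  simp only [bil_sub_left, bil_add_left, bil_smul_left, bil_smul_right, hP, hW, bil_comm C.sym W P]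
  match_scalars <;> field_simp <;> ring

lemma Ctx.ei_swap {P W : Idx (t + 1) k → F} (hP : bil f P P = 0) (hW : bil f W W = 0) (h : EI f M P W) :
    EI f M W (-P) := by
  obtain ⟨g, hg, hgv⟩ := h
  refine ⟨g, hg, fun v => ?_⟩
  rw [hgv, ← neg_one_smul F P]
  simp only [bil_smul_left, bil_smul_right, hP, hW]
  match_scalars <;> ring

lemma Ctx.ei_conj {g : GL (Idx (t + 1) k) F} (hg : g ∈ M) {P W P' W' : Idx (t + 1) k → F} (hP : g.val *ᵥ P = P')
    (hW : g.val *ᵥ W = W') (h : EI f M P W) : EI f M P' W' := by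
  obtain ⟨k', hk, hkv⟩ := h
  refine ⟨g * k' * g⁻¹, M.mul_mem (M.mul_mem hg hk) (M.inv_mem hg), fun v => ?_⟩
  obtain ⟨p, rfl⟩ : ∃ p, v = g.val *ᵥ p := ⟨g⁻¹.val *ᵥ v, (Transvec.mulVec_inv_cancel g v).symm⟩
  rw [Units.val_mul, Units.val_mul, ← mulVec_mulVec, ← mulVec_mulVec, Transvec.inv_mulVec_cancel, hkv, ← hP, ← hW,
    C.iso g hg, C.iso g hg, C.iso g hg]
  simp only [mulVec_sub, mulVec_add, mulVec_smul]

lemma Ctx.es_conj {g : GL (Idx (t + 1) k) F} (hg : g ∈ M) {P W P' W' : Idx (t + 1) k → F} (hP : g.val *ᵥ P = P')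
    (hW : g.val *ᵥ W = W') (h : ES f M P W) : ES f M P' W' := fun c =>
  C.ei_conj hg hP (by rw [mulVec_smul, hW]) (h c)

lemma Ctx.es_smul {P W : Idx (t + 1) k → F} (c : F) (h : ES f M P W) : ES f M P (c • W) := fun d => by
  rw [smul_smul]; exact h _

lemma Ctx.es_smul_left {P W : Idx (t + 1) k → F} (c : F) (h : ES f M P W) : ES f M (c • P) W := fun d =>
  C.ei_smul_left c (by rw [smul_smul]; exact h _)

lemma Ctx.es_swap {P W : Idx (t + 1) k → F} (hP : bil f P P = 0) (hW : bil f W W = 0) (h : ES f M P W) :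
    ES f M W P := fun c => by
  refine C.ei_smul_left' c ?_
  have h1 := C.ei_swap hP (by rw [bil_smul_left, bil_smul_right, hW, mul_zero, mul_zero]) (h (-c))
  rw [neg_smul, ← neg_one_smul F (c • W), ← neg_one_smul F P] at h1
  simpa using C.ei_smul_left' (-1) h1

lemma Ctx.es_add {P W W' : Idx (t + 1) k → F} (hP : bil f P P = 0) (hW : bil f P W = 0) (hW' : bil f P W' = 0)
    (h : ES f M P W) (h' : ES f M P W') : ES f M P (W + W') := fun c => by
  rw [smul_add]
  exact C.ei_add hP (by rw [bil_smul_right, hW, mul_zero]) (by rw [bil_smul_right, hW', mul_zero]) (h c) (h' c)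

lemma Ctx.es_sub {P W W' : Idx (t + 1) k → F} (hP : bil f P P = 0) (hW : bil f P W = 0) (hW' : bil f P W' = 0)
    (h : ES f M P W) (h' : ES f M P W') : ES f M P (W - W') := by
  rw [sub_eq_add_neg, ← neg_one_smul F W']
  exact C.es_add hP hW (by rw [bil_smul_right, hW', mul_zero]) h (C.es_smul _ h')

/-- The commutator of two Eichler transformations at singular vectors joined by a non-orthogonal pair. -/
theorem Ctx.es_comm {P Q Q' R : Idx (t + 1) k → F} (hP : bil f P P = 0) (hQ : bil f Q Q = 0)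
    (hQ' : bil f Q' Q' = 0) (hR : bil f R R = 0) (hPQ : bil f P Q = 0) (hQR' : bil f Q' R = 0)
    (hne : bil f Q Q' ≠ 0) (hPQ' : bil f P Q' = 0) (hPR : bil f P R = 0) (hQR : bil f Q R = 0)
    (h : ES f M P Q) (h' : ES f M Q' R) : ES f M P R := by
  obtain ⟨Q₁, hQ₁⟩ : ∃ Q₁, Q₁ = (bil f Q Q')⁻¹ • Q := ⟨_, rfl⟩
  have hQQ : bil f Q₁ Q' = 1 := by rw [hQ₁, bil_smul_left, inv_mul_cancel₀ hne]
  obtain ⟨g, hg, hgv⟩ : EI f M P Q₁ := hQ₁ ▸ h _
  intro c
  obtain ⟨R₁, hR₁⟩ : ∃ R₁, R₁ = c • R := ⟨_, rfl⟩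
  rw [← hR₁]
  have h1 : EI f M Q' R₁ := hR₁ ▸ h' c
  have hR₁R : bil f R₁ R₁ = 0 := by rw [hR₁, bil_smul_left, bil_smul_right, hR, mul_zero, mul_zero]
  have hQ₁Q : bil f Q₁ Q₁ = 0 := by rw [hQ₁, bil_smul_left, bil_smul_right, hQ, mul_zero, mul_zero]
  have e1 : g.val *ᵥ Q' = Q' - P := by
    rw [hgv, bil_comm C.sym Q' P, hPQ', bil_comm C.sym Q' Q₁, hQQ, hQ₁Q]; module
  have e2 : g.val *ᵥ R₁ = R₁ := by
    rw [hgv, bil_comm C.sym R₁ P, bil_comm C.sym R₁ Q₁, hR₁, bil_smul_right, bil_smul_right, hQ₁, bil_smul_left,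
      hPR, hQR]
    simp
  have hRQ' : bil f R₁ Q' = 0 := by rw [bil_comm C.sym, hR₁, bil_smul_right, hQR', mul_zero]
  have hRP : bil f R₁ P = 0 := by rw [bil_comm C.sym, hR₁, bil_smul_right, hPR, mul_zero]
  have hQP : bil f (Q' - P) (Q' - P) = 0 := by
    rw [bil_sub_left, bil_sub_right, bil_sub_right, hQ', hP, hPQ', bil_comm C.sym Q' P, hPQ']; ring
  have h2 : EI f M R₁ (-(Q' - P)) := C.ei_swap hQP hR₁R (C.ei_conj hg e1 e2 h1)
  have h3 : EI f M R₁ Q' := by
    have := C.ei_neg hR₁R (by rw [bil_neg_right, hRQ', neg_zero]) (C.ei_swap hQ' hR₁R h1)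
    rwa [neg_neg] at this
  have h4 : EI f M R₁ P := by
    have := C.ei_add hR₁R (by rw [bil_neg_right, bil_sub_right, hRQ', hRP, sub_zero, neg_zero]) hRQ' h2 h3
    rwa [show -(Q' - P) + Q' = P by abel] at this
  have := C.ei_neg hP (by rw [bil_neg_right, bil_comm C.sym, hRP, neg_zero]) (C.ei_swap hR₁R hP h4)
  rwa [neg_neg] at this

end CfsgLib.Classical22.OPow
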