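/-
A single Eichler seed at a pure singular vector gives all Eichler transformations at that vector.
-/
import Cfsg.Agent.Lib.Classical22.OrthPower.Pv
import Cfsg.Agent.Lib.Classical22.OrthOrthTensor.Space

set_option autoImplicit false
set_option linter.unusedSectionVars false
set_option linter.unusedSimpArgs false

namespace CfsgLib.Classical22.OPow

open Matrix CfsgLib.Transvec CfsgLib.Classical22.TensorMax CfsgLib.Classical22.TensorMax.SympO
open CfsgLib.Classical22.TensorMax.SpO (sym_eq sym_zero_left sym_zero_right sym_sub_left sym_sub_right sym_quad_add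
  sym_quad_smul sym_neg_left exists_singular_sym)
open CfsgLib.Classical22.TensorMax.OO (eA eA_mulVec sym_neg_right exists_partner_sym exists_aniso_pairW mem_pairW)
open CfsgLib.Classical22.TWMax (Idx pv slotEl slotEl_apply slotEl_mul tGL tGL_apply)
open scoped MatrixGroups

variable {F : Type*} [Field F] {t k : ℕ} {f : (Fin k → F) → (Fin k → F) → F}
  {M : Subgroup (GL (Idx (t + 1) k) F)}

/-- A hyperbolic pair with an element exchanging its lines in every slot. -/
structure Fr (C : Ctx f M) (e e' : Fin k → F) (c : F) : Prop where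
  ee : f e e = 0
  ee'' : f e' e' = 0
  pair : f e e' = 1
  c_ne : c ≠ 0
  flip : ∀ s, Adm C.sym M s (e - c • e')

section Basic
variable {C : Ctx f M} {e e' : Fin k → F} {c : F} (H : Fr C e e' c)
include H

lemma Fr.pair' : f e' e = 1 := by rw [C.sym.symm, H.pair]

lemma Fr.e_ne : e ≠ 0 := fun h => one_ne_zero (α := F) (by rw [← H.pair, h, sym_zero_left C.sym])

lemma Fr.e'_ne : e' ≠ 0 := fun h => one_ne_zero (α := F) (by rw [← H.pair, h, sym_zero_right C.sym])

/-- The three parts of a vector. -/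
lemma Fr.dec (x : Fin k → F) : ∃ r, f e r = 0 ∧ f e' r = 0 ∧ x = f x e' • e + f x e • e' + r := by
  refine ⟨x - f x e' • e - f x e • e', ?_, ?_, by abel⟩
  · rw [sym_sub_right C.sym, sym_sub_right C.sym, C.sym.bilinear.smul_right, C.sym.bilinear.smul_right, H.ee, H.pair,
      C.sym.symm e x]; ring
  · rw [sym_sub_right C.sym, sym_sub_right C.sym, C.sym.bilinear.smul_right, C.sym.bilinear.smul_right, H.ee'',
      H.pair', C.sym.symm e' x]; ring

/-- The exchanging element. -/
lemma Fr.fl_e : (eG C.sym (e - c • e')).val *ᵥ e = -c • e' := by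
  have hv : f (e - c • e') (e - c • e') = -(2 * c) := by
    simp only [sym_sub_left C.sym, sym_sub_right C.sym, C.sym.bilinear.smul_left, C.sym.bilinear.smul_right, H.ee,
      H.ee'', H.pair, H.pair']
    ring
  have h1 : f e (e - c • e') = -c := by
    rw [sym_sub_right C.sym, C.sym.bilinear.smul_right, H.ee, H.pair]; ring
  rw [eG_apply C.sym (by rw [hv]; exact neg_ne_zero.mpr (mul_ne_zero C.two H.c_ne)), hv, h1]
  have := H.c_ne
  have := C.two
  match_scalars <;> field_simp <;> ring

lemma Fr.fl_e' : (eG C.sym (e - c • e')).val *ᵥ e' = -c⁻¹ • e := by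
  have hv : f (e - c • e') (e - c • e') = -(2 * c) := by
    simp only [sym_sub_left C.sym, sym_sub_right C.sym, C.sym.bilinear.smul_left, C.sym.bilinear.smul_right, H.ee,
      H.ee'', H.pair, H.pair']
    ring
  have h1 : f e' (e - c • e') = 1 := by
    rw [sym_sub_right C.sym, C.sym.bilinear.smul_right, H.ee'', H.pair']; ring
  rw [eG_apply C.sym (by rw [hv]; exact neg_ne_zero.mpr (mul_ne_zero C.two H.c_ne)), hv, h1]
  have := H.c_ne
  have := C.two
  match_scalars <;> field_simp <;> ring

lemma Fr.fl_perp {r : Fin k → F} (h : f e r = 0) (h' : f e' r = 0) :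
    (eG C.sym (e - c • e')).val *ᵥ r = -r := by
  refine eG_perp C.sym (H.flip 0).1 ?_
  rw [sym_sub_right C.sym, C.sym.bilinear.smul_right, C.sym.symm r e, C.sym.symm r e', h, h']; ring

/-- A torus element of one slot. -/
lemma Fr.exists_torus {a : F} (ha : a ≠ 0) : ∃ B ∈ isoSq f, B.val *ᵥ e = (a * a) • e ∧
    B.val *ᵥ e' = (a * a)⁻¹ • e' ∧ ∀ r, f e r = 0 → f e' r = 0 → B.val *ᵥ r = r := by
  have hf := C.sym
  have key : ∀ d : F, d ≠ 0 → (rG hf (e - d • e')).val *ᵥ e = d • e' ∧
      (rG hf (e - d • e')).val *ᵥ e' = d⁻¹ • e ∧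
      ∀ r, f e r = 0 → f e' r = 0 → (rG hf (e - d • e')).val *ᵥ r = r := by
    intro d hd
    have hv : f (e - d • e') (e - d • e') = -(2 * d) := by
      simp only [sym_sub_left hf, sym_sub_right hf, hf.bilinear.smul_left, hf.bilinear.smul_right, H.ee,
        H.ee'', H.pair, H.pair']
      ring
    have hv0 : f (e - d • e') (e - d • e') ≠ 0 := by rw [hv]; exact neg_ne_zero.mpr (mul_ne_zero C.two hd)
    have := C.two
    refine ⟨?_, ?_, fun r hr hr' => ?_⟩
    · rw [rG_apply hf hv0, hv, sym_sub_right hf, hf.bilinear.smul_right, H.ee, H.pair]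
      match_scalars <;> field_simp <;> ring
    · rw [rG_apply hf hv0, hv, sym_sub_right hf, hf.bilinear.smul_right, H.ee'', H.pair']
      match_scalars <;> field_simp <;> ring
    · rw [rG_apply hf hv0, show f r (e - d • e') = 0 by
        rw [sym_sub_right hf, hf.bilinear.smul_right, hf.symm r e, hf.symm r e', hr, hr']; ring]
      simp
  obtain ⟨k1, k1', k1r⟩ := key 1 one_ne_zero
  obtain ⟨ka, ka', kar⟩ := key a⁻¹ (inv_ne_zero ha)
  obtain ⟨A, hA⟩ : ∃ A, A = rG hf (e - a⁻¹ • e') * rG hf (e - (1 : F) • e') := ⟨_, rfl⟩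
  have hAe : A.val *ᵥ e = a • e := by
    rw [hA, Transvec.mul_mulVec, k1, mulVec_smul, ka', inv_inv, one_smul]
  have hAe' : A.val *ᵥ e' = a⁻¹ • e' := by
    rw [hA, Transvec.mul_mulVec, k1', mulVec_smul, ka, inv_one, one_smul]
  refine ⟨A * A, sq_mem_isoSq (hA ▸ (isoF f).mul_mem (rG_iso hf _) (rG_iso hf _)), ?_, ?_, fun r hr hr' => ?_⟩
  · rw [Transvec.mul_mulVec, hAe, mulVec_smul, hAe, smul_smul]
  · rw [Transvec.mul_mulVec, hAe', mulVec_smul, hAe', smul_smul, mul_inv]
  · have : A.val *ᵥ r = r := by rw [hA, Transvec.mul_mulVec, k1r r hr hr', kar r hr hr']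
    rw [Transvec.mul_mulVec, this, this]

/-- The frame with the two vectors exchanged. -/
lemma Fr.swap : Fr C e' e c⁻¹ where
  ee := H.ee''
  ee'' := H.ee
  pair := H.pair'
  c_ne := inv_ne_zero H.c_ne
  flip s := by
    have he : eG C.sym (e' - c⁻¹ • e) = eG C.sym (e - c • e') := by
      rw [show e' - c⁻¹ • e = (-c⁻¹) • (e - c • e') by
        rw [smul_sub, smul_smul, neg_mul, inv_mul_cancel₀ H.c_ne]; module]
      exact eG_smul C.sym (neg_ne_zero.mpr (inv_ne_zero H.c_ne)) _
    refine ⟨?_, he ▸ (H.flip s).2⟩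
    rw [show e' - c⁻¹ • e = (-c⁻¹) • (e - c • e') by
      rw [smul_sub, smul_smul, neg_mul, inv_mul_cancel₀ H.c_ne]; module, sym_quad_smul C.sym]
    exact mul_ne_zero (mul_ne_zero (neg_ne_zero.mpr (inv_ne_zero H.c_ne)) (neg_ne_zero.mpr (inv_ne_zero H.c_ne)))
      (H.flip s).1

end Basic

variable [Fintype F] (C : Ctx f M)
include C

/-- Hyperbolic pairs with exchanging elements exist. -/
theorem Ctx.exists_fr {e e' : Fin k → F} (h1 : f e e = 0) (h2 : f e' e' = 0) (h3 : f e e' = 1) :
    ∃ c, Fr C e e' c := by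
  obtain ⟨c₀, hc₀, hc⟩ := C.adm
  have h := C.two
  refine ⟨-c₀ / 2, h1, h2, h3, div_ne_zero (neg_ne_zero.mpr hc₀) h, fun s => ?_⟩
  have hv : f (e - (-c₀ / 2) • e') (e - (-c₀ / 2) • e') = c₀ := by
    simp only [sym_sub_left C.sym, sym_sub_right C.sym, C.sym.bilinear.smul_left, C.sym.bilinear.smul_right, h1, h2,
      h3, C.sym.symm e' e]
    field_simp
    ring
  have hv0 : f (e - (-c₀ / 2) • e') (e - (-c₀ / 2) • e') ≠ 0 := by rwa [hv]
  exact ⟨hv0, hc s _ hv0 (by rw [hv]; exact ⟨c₀, rfl⟩)⟩

variable {e e' : Fin k → F} {c : F} (H : Fr C e e' c)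
include H

local notation "E" => pv (fun _ : Fin (t + 1) => e)

lemma Fr.bil_E (xs : Fin (t + 1) → Fin k → F) {j : Fin (t + 1)} (h : f e (xs j) = 0) : bil f E (pv xs) = 0 := by
  rw [bil_pv C.sym]
  exact Finset.prod_eq_zero (Finset.mem_univ j) h

lemma Fr.bil_EE : bil f E E = 0 := H.bil_E C _ (j := 0) H.ee

lemma Fr.bil_sing {xs : Fin (t + 1) → Fin k → F} (i : Fin (t + 1)) (h : f (xs i) (xs i) = 0) :
    bil f (pv xs) (pv xs) = 0 := by
  rw [bil_pv C.sym]
  exact Finset.prod_eq_zero (Finset.mem_univ i) h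

/-- All multiples from one seed. -/
theorem Fr.es_of_ei (ht : 1 ≤ t) {i : Fin (t + 1)} {r : Fin k → F} (hr : f e r = 0) (hr' : f e' r = 0)
    (h : EI f M E (pv (Function.update (fun _ => e) i r))) : ES f M E (pv (Function.update (fun _ => e) i r)) := by
  obtain ⟨Q, hQ⟩ : ∃ Q, Q = pv (Function.update (fun _ : Fin (t + 1) => e) i r) := ⟨_, rfl⟩
  rw [← hQ] at h ⊢
  have hEQ : bil f E Q = 0 := hQ ▸ H.bil_E C _ (j := i) (by rw [Function.update_self]; exact hr)
  have hsq : ∀ a : F, EI f M E ((a * a) • Q) := fun a => by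
    by_cases ha : a = 0
    · rw [ha, mul_zero, zero_smul]; exact C.ei_zero _
    obtain ⟨B, hB, hBe, -, hBr⟩ := H.exists_torus ha
    refine C.ei_smul_left' _ (C.ei_conj (C.sq i B hB) ?_ ?_ h)
    · rw [slotEl_apply, hBe, pv_smul, pv_self]
    · rw [hQ, slotEl_apply, Function.update_self, hBr r hr hr', Function.update_idem]
  intro d
  have h2 := C.two
  rw [show d = (d + 1) / 2 * ((d + 1) / 2) + -((d - 1) / 2 * ((d - 1) / 2)) by field_simp; ring, add_smul, neg_smul]
  exact C.ei_add H.bil_EE (by rw [bil_smul_right, hEQ, mul_zero])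
    (by rw [bil_neg_right, bil_smul_right, hEQ, mul_zero, neg_zero]) (hsq _)
    (C.ei_neg H.bil_EE (by rw [bil_smul_right, hEQ, mul_zero]) (hsq _))

/-- Lowering a factor from `e'`. -/
theorem Fr.lower {xs : Fin (t + 1) → Fin k → F} {j l : Fin (t + 1)} (hjl : j ≠ l) (hj : xs j = e')
    (hl : f e (xs l) = 0) (h : ES f M E (pv xs)) {y : Fin k → F} (hy : f e y = 0) (hy' : f e' y = 0) :
    ES f M E (pv (Function.update xs j y)) ∧ (f y y ≠ 0 → ES f M E (pv (Function.update xs j e))) := by
  have h2 := C.two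
  have hperp : ∀ z, bil f E (pv (Function.update xs j z)) = 0 := fun z =>
    H.bil_E C _ (j := l) (by rw [Function.update_of_ne hjl.symm]; exact hl)
  have key : ∀ w, f e w = 0 → f e' w = 0 → ES f M E (pv (Function.update xs j (e' + w - (f w w / 2) • e))) := by
    intro w hw hw'
    refine C.es_conj (C.eich_mem j e w) ?_ ?_ h
    · rw [slotEl_apply, eU_val C.sym C.two H.ee hw, OO.eA_self C.sym H.ee hw, Function.update_eq_self]
    · rw [slotEl_apply, hj, eU_val C.sym C.two H.ee hw, eA_mulVec C.sym, H.pair', hw']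
      congr 1
      congr 1
      module
  have hy2 : f e (-y) = 0 ∧ f e' (-y) = 0 := by simp [sym_neg_right C.sym, hy, hy']
  have k1 := key y hy hy'
  have k2 := key (-y) hy2.1 hy2.2
  refine ⟨?_, fun hyy => ?_⟩
  · have h3 := C.es_smul (2 : F)⁻¹ (C.es_sub H.bil_EE (hperp _) (hperp _) k1 k2)
    rw [← pv_sub, ← pv_smul] at h3
    convert h3 using 5
    rw [sym_neg_left C.sym, sym_neg_right C.sym, neg_neg]
    match_scalars <;> field_simp <;> ring
  · have h4 : ES f M E (pv (Function.update xs j e')) := by rw [← hj, pv_self]; exact h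
    have h3 := C.es_smul (-(f y y)⁻¹) (C.es_sub H.bil_EE (by rw [bil_add_right, hperp, hperp, add_zero])
      (by rw [bil_add_right, hperp, add_zero]) (C.es_add H.bil_EE (hperp _) (hperp _) k1 k2)
      (C.es_add H.bil_EE (hperp _) (hperp _) h4 h4))
    rw [← pv_add, ← pv_add, ← pv_sub, ← pv_smul] at h3
    convert h3 using 5
    rw [sym_neg_left C.sym, sym_neg_right C.sym, neg_neg]
    match_scalars <;> field_simp <;> ring

/-- The element exchanging the two lines in a set of slots. -/
theorem Fr.exists_flips (S : Finset (Fin (t + 1))) : ∃ g ∈ M, ∀ xs : Fin (t + 1) → Fin k → F,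
    g.val *ᵥ pv xs = pv fun i => if i ∈ S then (eG C.sym (e - c • e')).val *ᵥ xs i else xs i := by
  classical
  induction S using Finset.induction_on with
  | empty => exact ⟨1, M.one_mem, fun xs => by simp⟩
  | insert j S hj ih =>
    obtain ⟨g, hg, hgv⟩ := ih
    refine ⟨slotEl j (eG C.sym (e - c • e')) * g, M.mul_mem (H.flip j).2 hg, fun xs => ?_⟩
    rw [Transvec.mul_mulVec, hgv, slotEl_apply]
    congr 1
    funext i
    by_cases hi : i = j
    · subst hi; simp [hj]
    · simp [hi]

/-- Patterns with `e` in one fixed slot. -/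
theorem Fr.pattern_e (ht : 1 ≤ t) {i₀ : Fin (t + 1)} {r₀ : Fin k → F} (hr : f e r₀ = 0) (hr' : f e' r₀ = 0)
    (hrr : f r₀ r₀ ≠ 0) (h : ES f M E (pv (Function.update (fun _ => e) i₀ r₀)))
    {xs : Fin (t + 1) → Fin k → F} (hxi : xs i₀ = e)
    (hxs : ∀ l, xs l = e ∨ xs l = e' ∨ f e (xs l) = 0 ∧ f e' (xs l) = 0) : ES f M E (pv xs) := by
  classical
  obtain ⟨Y, hY⟩ : ∃ Y : Fin (t + 1) → Fin k → F, Y = Function.update (fun _ => e') i₀ e := ⟨_, rfl⟩
  obtain ⟨Q, hQ⟩ : ∃ Q, Q = pv (Function.update (fun _ : Fin (t + 1) => e) i₀ r₀) := ⟨_, rfl⟩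
  obtain ⟨Q', hQ'⟩ : ∃ Q', Q' = pv (Function.update (fun _ : Fin (t + 1) => e') i₀ r₀) := ⟨_, rfl⟩
  obtain ⟨j₀, hj₀⟩ : ∃ j : Fin (t + 1), j ≠ i₀ := by
    haveI : Nontrivial (Fin (t + 1)) := Fin.nontrivial_iff_two_le.mpr (by omega)
    exact exists_ne i₀
  have hY0 : ES f M E (pv Y) := by
    have h' : ES f M Q' (pv Y) := by
      obtain ⟨g, hg, hgv⟩ := H.exists_flips C (Finset.univ.erase i₀)
      obtain ⟨d, hd⟩ : ∃ d : F, d = ∏ _l ∈ Finset.univ.erase i₀, (-c) := ⟨_, rfl⟩
      have hd0 : d ≠ 0 := hd ▸ Finset.prod_ne_zero_iff.mpr fun _ _ => neg_ne_zero.mpr H.c_ne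
      have hg' : ∀ x, g.val *ᵥ pv (Function.update (fun _ : Fin (t + 1) => e) i₀ x) =
          d • pv (Function.update (fun _ : Fin (t + 1) => e') i₀ x) := fun x => by
        rw [hgv]
        funext a
        rw [Pi.smul_apply, smul_eq_mul, pv_update, pv, ← Finset.mul_prod_erase _ _ (Finset.mem_univ i₀), hd,
          mul_left_comm, ← Finset.prod_mul_distrib]
        simp only [Finset.mem_erase, ne_eq, not_true_eq_false, false_and, if_false, Function.update_self]
        congr 1
        refine Finset.prod_congr rfl fun l hl => ?_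
        rw [if_pos ⟨Finset.ne_of_mem_erase hl, Finset.mem_univ l⟩, Function.update_of_ne (Finset.ne_of_mem_erase hl),
          H.fl_e]
        simp
      have h1 := C.es_conj hg (by rw [show E = pv (Function.update (fun _ : Fin (t + 1) => e) i₀ e) by
        rw [Function.update_eq_self], hg']) (hg' r₀) h
      have h2 := C.es_smul d⁻¹ (C.es_smul_left d⁻¹ h1)
      rw [inv_smul_smul₀ hd0, inv_smul_smul₀ hd0, ← hY, ← hQ'] at h2
      exact C.es_swap (hY ▸ H.bil_sing C i₀ (by rw [Function.update_self, H.ee]))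
        (hQ' ▸ H.bil_sing C j₀ (by rw [Function.update_of_ne hj₀, H.ee''])) h2
    refine C.es_comm H.bil_EE (hQ ▸ H.bil_sing C j₀ (by rw [Function.update_of_ne hj₀, H.ee]))
      (hQ' ▸ H.bil_sing C j₀ (by rw [Function.update_of_ne hj₀, H.ee'']))
      (hY ▸ H.bil_sing C i₀ (by rw [Function.update_self, H.ee]))
      (hQ ▸ H.bil_E C _ (j := i₀) (by rw [Function.update_self, hr])) ?_ ?_
      (hQ' ▸ H.bil_E C _ (j := i₀) (by rw [Function.update_self, hr]))
      (hY ▸ H.bil_E C _ (j := i₀) (by rw [Function.update_self, H.ee])) ?_ (hQ ▸ h) h'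
    · rw [hQ', hY, bil_pv C.sym]
      refine Finset.prod_eq_zero (Finset.mem_univ i₀) ?_
      rw [Function.update_self, Function.update_self, C.sym.symm, hr]
    · rw [hQ, hQ', bil_pv C.sym]
      refine Finset.prod_ne_zero_iff.mpr fun l _ => ?_
      by_cases hl : l = i₀
      · subst hl; rwa [Function.update_self, Function.update_self]
      · rw [Function.update_of_ne hl, Function.update_of_ne hl, H.pair]; exact one_ne_zero
    · rw [hQ, hY, bil_pv C.sym]
      refine Finset.prod_eq_zero (Finset.mem_univ i₀) ?_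
      rw [Function.update_self, Function.update_self, C.sym.symm, hr]
  have key : ∀ S : Finset (Fin (t + 1)), i₀ ∉ S →
      ES f M E (pv fun l => if l ∈ S then xs l else Y l) := by
    intro S
    induction S using Finset.induction_on with
    | empty => intro _; simpa using hY0
    | insert j S hjS ih =>
      intro hi
      have hji : j ≠ i₀ := fun h => hi (by simp [h])
      have h1 := ih fun h => hi (Finset.mem_insert_of_mem h)
      have he : (fun l => if l ∈ insert j S then xs l else Y l) =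
          Function.update (fun l => if l ∈ S then xs l else Y l) j (xs j) := by
        funext l
        by_cases hl : l = j
        · subst hl; simp
        · simp [hl]
      rw [he]
      have hcur : (fun l => if l ∈ S then xs l else Y l) j = e' := by simp [hjS, hY, hji]
      have hi0 : f e ((fun l => if l ∈ S then xs l else Y l) i₀) = 0 := by
        simp only [if_neg fun h => hi (Finset.mem_insert_of_mem h), hY, Function.update_self, H.ee]
      rcases hxs j with h0 | h0 | ⟨h0, h0'⟩
      · rw [h0]; exact (H.lower C hji hcur hi0 h1 hr hr').2 hrr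
      · rw [h0, ← hcur, Function.update_eq_self]; exact h1
      · exact (H.lower C hji hcur hi0 h1 h0 h0').1
  have h := key (Finset.univ.erase i₀) (by simp)
  convert h using 2
  congr 1
  funext l
  by_cases hl : l = i₀
  · subst hl; simp [hY, hxi]
  · simp [hl]

/-- All patterns other than the opposite one. -/
theorem Fr.pattern_all (ht : 1 ≤ t) {i₀ : Fin (t + 1)} {r₀ : Fin k → F} (hr : f e r₀ = 0) (hr' : f e' r₀ = 0)
    (hrr : f r₀ r₀ ≠ 0) (h : ES f M E (pv (Function.update (fun _ => e) i₀ r₀))) :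
    ∀ xs : Fin (t + 1) → Fin k → F, (∀ l, xs l = e ∨ xs l = e' ∨ f e (xs l) = 0 ∧ f e' (xs l) = 0) →
      (∃ l, f e (xs l) = 0) → ES f M E (pv xs) := by
  classical
  -- seeds in all slots
  have seed : ∀ j, ES f M E (pv (Function.update (fun _ => e) j r₀)) := fun j => by
    by_cases hj : j = i₀
    · subst hj; exact h
    refine H.pattern_e C ht hr hr' hrr h (by rw [Function.update_of_ne (Ne.symm hj)]) fun l => ?_
    by_cases hl : l = j
    · subst hl; exact Or.inr (Or.inr (by rw [Function.update_self]; exact ⟨hr, hr'⟩))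
    · exact Or.inl (by rw [Function.update_of_ne hl])
  have withE : ∀ xs : Fin (t + 1) → Fin k → F, (∀ l, xs l = e ∨ xs l = e' ∨ f e (xs l) = 0 ∧ f e' (xs l) = 0) →
      ∀ j, xs j = e → ES f M E (pv xs) := fun xs hxs j hj => H.pattern_e C ht hr hr' hrr (seed j) hj hxs
  -- a slot with `e'` and a perpendicular slot
  have withE' : ∀ xs : Fin (t + 1) → Fin k → F, (∀ l, xs l = e ∨ xs l = e' ∨ f e (xs l) = 0 ∧ f e' (xs l) = 0) →
      ∀ i j, xs i = e' → f e (xs j) = 0 → f e' (xs j) = 0 → ES f M E (pv xs) := by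
    intro xs hxs i j hi hj hj'
    by_cases hxe : ∃ l, xs l = e
    · obtain ⟨l, hl⟩ := hxe; exact withE xs hxs l hl
    push Not at hxe
    obtain ⟨l₀, hl₀⟩ : ∃ l : Fin (t + 1), l ≠ i := by
      haveI : Nontrivial (Fin (t + 1)) := Fin.nontrivial_iff_two_le.mpr (by omega)
      exact exists_ne i
    obtain ⟨Q, hQ⟩ : ∃ Q, Q = pv (Function.update (fun _ : Fin (t + 1) => e') i e) := ⟨_, rfl⟩
    obtain ⟨Q', hQ'⟩ : ∃ Q', Q' = pv (Function.update (fun _ : Fin (t + 1) => e) i e') := ⟨_, rfl⟩
    have hEQ : ES f M E Q := hQ ▸ withE _ (fun l => by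
      by_cases hl : l = i
      · subst hl; simp
      · simp [hl]) i (by simp)
    have hQR : ES f M Q' (pv xs) := by
      obtain ⟨g, hg, hgv⟩ := H.exists_flips C {i}
      obtain ⟨zs, hzs⟩ : ∃ zs, zs = Function.update xs i e := ⟨_, rfl⟩
      have h1 : ES f M E (pv zs) := withE zs (fun l => by
        rw [hzs]
        by_cases hl : l = i
        · subst hl; simp
        · simpa [hl] using hxs l) i (by simp [hzs])
      have e1 : g.val *ᵥ E = (-c) • Q' := by
        rw [hgv, hQ', ← pv_smul]
        congr 1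
        funext l
        by_cases hl : l = i
        · subst hl; simp [H.fl_e]
        · simp [hl]
      have e2 : g.val *ᵥ pv zs = (-c) • pv xs := by
        conv_rhs => rw [← pv_self xs i, hi, ← pv_smul]
        rw [hgv, hzs]
        congr 1
        funext l
        by_cases hl : l = i
        · subst hl; simp [H.fl_e]
        · simp [hl]
      have h3 := C.es_smul (-c)⁻¹ (C.es_smul_left (-c)⁻¹ (C.es_conj hg e1 e2 h1))
      rwa [inv_smul_smul₀ (neg_ne_zero.mpr H.c_ne), inv_smul_smul₀ (neg_ne_zero.mpr H.c_ne)] at h3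
    have hji : j ≠ i := fun h0 => one_ne_zero (α := F) (by rw [← H.pair, ← hi, ← h0]; exact hj)
    refine C.es_comm H.bil_EE (hQ ▸ H.bil_sing C i (by rw [Function.update_self, H.ee]))
      (hQ' ▸ H.bil_sing C i (by rw [Function.update_self, H.ee''])) (H.bil_sing C i (by rw [hi, H.ee'']))
      (hQ ▸ H.bil_E C _ (j := i) (by rw [Function.update_self, H.ee])) ?_ ?_
      (hQ' ▸ H.bil_E C _ (j := l₀) (by rw [Function.update_of_ne hl₀, H.ee]))
      (H.bil_E C _ (j := j) hj) ?_ hEQ hQR
    · rw [hQ', bil_pv C.sym]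
      refine Finset.prod_eq_zero (Finset.mem_univ i) ?_
      rw [Function.update_self, hi, H.ee'']
    · rw [hQ, hQ', bil_pv C.sym]
      refine Finset.prod_ne_zero_iff.mpr fun l _ => ?_
      by_cases hl : l = i
      · subst hl; rw [Function.update_self, Function.update_self, H.pair]; exact one_ne_zero
      · rw [Function.update_of_ne hl, Function.update_of_ne hl, H.pair']; exact one_ne_zero
    · rw [hQ, bil_pv C.sym]
      refine Finset.prod_eq_zero (Finset.mem_univ j) ?_
      rw [Function.update_of_ne hji, hj']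
  intro xs hxs hxp
  by_cases hxe : ∃ l, xs l = e
  · obtain ⟨l, hl⟩ := hxe; exact withE xs hxs l hl
  push Not at hxe
  obtain ⟨j, hj⟩ := hxp
  have hj' : f e' (xs j) = 0 := by
    rcases hxs j with h0 | h0 | h0
    · exact absurd h0 (hxe j)
    · rw [h0, H.pair] at hj; exact absurd hj one_ne_zero
    · exact h0.2
  obtain ⟨i, hij⟩ : ∃ i : Fin (t + 1), i ≠ j := by
    haveI : Nontrivial (Fin (t + 1)) := Fin.nontrivial_iff_two_le.mpr (by omega)
    exact exists_ne j
  rcases hxs i with h0 | h0 | ⟨h0, h0'⟩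
  · exact absurd h0 (hxe i)
  · exact withE' xs hxs i j h0 hj hj'
  · have h1 : ES f M E (pv (Function.update xs i e')) := withE' _ (fun l => by
      by_cases hl : l = i
      · subst hl; simp
      · simpa [hl] using hxs l) i j (by simp) (by rwa [Function.update_of_ne hij.symm])
        (by rwa [Function.update_of_ne hij.symm])
    have h2 := (H.lower C hij (l := j) (by simp) (by rwa [Function.update_of_ne hij.symm]) h1 h0 h0').1
    rwa [Function.update_idem, Function.update_eq_self] at h2

/-- All Eichler transformations at the pure vector, from one seed. -/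
theorem Fr.full_of_seed (ht : 1 ≤ t) {i : Fin (t + 1)} {r : Fin k → F} (hr : f e r = 0) (hr' : f e' r = 0)
    (hrr : f r r ≠ 0) (h : EI f M E (pv (Function.update (fun _ => e) i r)))
    {W : Idx (t + 1) k → F} (hW : bil f E W = 0) : EI f M E W := by
  classical
  have hall := H.pattern_all C ht hr hr' hrr (H.es_of_ei C ht hr hr' h)
  obtain ⟨E', hE'⟩ : ∃ E', E' = pv (fun _ : Fin (t + 1) => e') := ⟨_, rfl⟩
  have hEE' : bil f E E' = 1 := by
    rw [hE', bil_pv C.sym]; exact Finset.prod_eq_one fun _ _ => H.pair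
  have hperp : ∀ v, bil f E (v - bil f E v • E') = 0 := fun v => by
    rw [bil_sub_right, bil_smul_right, hEE', mul_one, sub_self]
  have key : ∀ v : Idx (t + 1) k → F, ES f M E (v - bil f E v • E') := by
    intro v
    obtain ⟨G, hG⟩ : ∃ G : Set (Fin k → F),
        G = {x | ∃ a : F, x = a • e ∨ x = a • e'} ∪ {x | f e x = 0 ∧ f e' x = 0} := ⟨_, rfl⟩
    refine pv_induction (G := G) (fun x => ?_) (P := fun v => ES f M E (v - bil f E v • E')) ?_ ?_ ?_ ?_ v
    · obtain ⟨r, h1, h2, h3⟩ := H.dec x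
      exact ⟨_, hG ▸ Or.inl ⟨_, Or.inl rfl⟩, _, hG ▸ Or.inl ⟨_, Or.inr rfl⟩, r, hG ▸ Or.inr ⟨h1, h2⟩, h3⟩
    · intro d
      rw [bil_zero_right, zero_smul, sub_zero, smul_zero]
      exact C.ei_zero _
    · intro v w hv hw
      rw [bil_add_right, add_smul, show v + w - (bil f E v • E' + bil f E w • E') =
        (v - bil f E v • E') + (w - bil f E w • E') by abel]
      exact C.es_add H.bil_EE (hperp v) (hperp w) hv hw
    · intro a v hv
      rw [bil_smul_right, ← smul_smul, ← smul_sub]
      exact C.es_smul a hv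
    · intro xs hxs
      have hex : ∀ l, ∃ a : F, ∃ z, xs l = a • z ∧ (z = e ∨ z = e' ∨ f e z = 0 ∧ f e' z = 0) := fun l => by
        rcases hG ▸ hxs l with ⟨a, h0 | h0⟩ | h0
        · exact ⟨a, e, h0, Or.inl rfl⟩
        · exact ⟨a, e', h0, Or.inr (Or.inl rfl)⟩
        · exact ⟨1, xs l, (one_smul F _).symm, Or.inr (Or.inr h0)⟩
      choose a z hz hzt using hex
      have e1 : pv xs = (∏ l, a l) • pv z := by
        funext x
        simp [pv, hz, Finset.prod_mul_distrib]
      rw [e1, bil_smul_right, ← smul_smul, ← smul_sub]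
      refine C.es_smul _ ?_
      by_cases hzp : ∃ l, f e (z l) = 0
      · obtain ⟨l, hl⟩ := hzp
        rw [H.bil_E C z hl, zero_smul, sub_zero]
        exact hall z hzt ⟨l, hl⟩
      · push Not at hzp
        have hze : z = fun _ => e' := funext fun l => by
          rcases hzt l with h0 | h0 | h0
          · exact absurd (by rw [h0, H.ee]) (hzp l)
          · exact h0
          · exact absurd h0.1 (hzp l)
        rw [hze, ← hE', hEE', one_smul, sub_self]
        intro d
        rw [smul_zero]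
        exact C.ei_zero _
  have h1 := key W 1
  rwa [one_smul, hW, zero_smul, sub_zero] at h1

end CfsgLib.Classical22.OPow
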