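/-
Linear maps applied in one slot of a matrix on a tensor power, and the small matrices attached to a hyperbolic pair.
-/
import Cfsg.Agent.Lib.Classical22.OrthPower.Grow
import Cfsg.Agent.Lib.Classical22.SpOrthTensor.Sym
import Cfsg.Agent.Lib.Classical22.TensorWreathMax.Alg

set_option autoImplicit false
set_option linter.unusedSectionVars false
set_option linter.unusedSimpArgs false

namespace CfsgLib.Classical22.OPow

open Matrix CfsgLib.Transvec CfsgLib.Classical22.TensorMax CfsgLib.Classical22.TensorMax.SympO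
open CfsgLib.Classical22.TensorMax.SpO (sym_outer sym_eq sym_dot sym_zero_left sym_zero_right sym_sub_left
  sym_sub_right sym_neg_left sym_quad_add sym_adj_spec sym_adj_adj sym_adj_eq sym_adj_mul nd_span)
open CfsgLib.Classical22.TensorMax.OO (eA eA_mulVec eA_iso eA_mul eA_mul_neg eA_zero sym_neg_right skew_fixed
  sym_fixed pairW mem_pairW nd_pairW exists_aniso_pairW)
open CfsgLib.Classical22.TWMax (Idx pv tmat emb)
open scoped MatrixGroups

variable {F : Type*} [Field F] {T k : ℕ}

/-- The block of a matrix in slot `l` at given outer coordinates. -/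
def blk (l : Fin T) (x y : Idx T k) (X : Matrix (Idx T k) (Idx T k) F) : Matrix (Fin k) (Fin k) F :=
  fun i j => X (Function.update x l i) (Function.update y l j)

/-- A linear map applied in slot `l`. -/
def slotMap (l : Fin T) (φ : Matrix (Fin k) (Fin k) F →ₗ[F] Matrix (Fin k) (Fin k) F) :
    Matrix (Idx T k) (Idx T k) F →ₗ[F] Matrix (Idx T k) (Idx T k) F where
  toFun X := fun x y => φ (blk l x y X) (x l) (y l)
  map_add' X Y := by
    ext x y
    change φ (blk l x y (X + Y)) (x l) (y l) = _
    rw [show blk l x y (X + Y) = blk l x y X + blk l x y Y from rfl, map_add]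
    rfl
  map_smul' c X := by
    ext x y
    change φ (blk l x y (c • X)) (x l) (y l) = _
    rw [show blk l x y (c • X) = c • blk l x y X from rfl, map_smul]
    rfl

lemma blk_same (l : Fin T) (x y : Idx T k) (X : Matrix (Idx T k) (Idx T k) F) :
    blk l x y X (x l) (y l) = X x y := by rw [blk, Function.update_eq_self, Function.update_eq_self]

lemma blk_slotMap_same (l : Fin T) (φ : Matrix (Fin k) (Fin k) F →ₗ[F] Matrix (Fin k) (Fin k) F) (x y : Idx T k)
    (X : Matrix (Idx T k) (Idx T k) F) : blk l x y (slotMap l φ X) = φ (blk l x y X) := by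
  ext i j
  change φ (blk l (Function.update x l i) (Function.update y l j) X) ((Function.update x l i) l)
    ((Function.update y l j) l) = _
  rw [Function.update_self, Function.update_self,
    show blk l (Function.update x l i) (Function.update y l j) X = blk l x y X from by ext a b; simp [blk]]

lemma slotMap_slotMap (l : Fin T) (φ ψ : Matrix (Fin k) (Fin k) F →ₗ[F] Matrix (Fin k) (Fin k) F)
    (X : Matrix (Idx T k) (Idx T k) F) : slotMap l φ (slotMap l ψ X) = slotMap l (φ.comp ψ) X := by
  ext x y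
  change φ (blk l x y (slotMap l ψ X)) (x l) (y l) = _
  rw [blk_slotMap_same]
  rfl

lemma slotMap_add (l : Fin T) (φ ψ : Matrix (Fin k) (Fin k) F →ₗ[F] Matrix (Fin k) (Fin k) F)
    (X : Matrix (Idx T k) (Idx T k) F) : slotMap l (φ + ψ) X = slotMap l φ X + slotMap l ψ X := rfl

lemma slotMap_sub (l : Fin T) (φ ψ : Matrix (Fin k) (Fin k) F →ₗ[F] Matrix (Fin k) (Fin k) F)
    (X : Matrix (Idx T k) (Idx T k) F) : slotMap l (φ - ψ) X = slotMap l φ X - slotMap l ψ X := rfl

lemma slotMap_id (l : Fin T) (X : Matrix (Idx T k) (Idx T k) F) : slotMap l LinearMap.id X = X := by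
  ext x y
  exact blk_same l x y X

lemma slotMap_smul_id (l : Fin T) {φ : Matrix (Fin k) (Fin k) F →ₗ[F] Matrix (Fin k) (Fin k) F} {c : F}
    {X : Matrix (Idx T k) (Idx T k) F} (h : ∀ x y, φ (blk l x y X) = c • blk l x y X) : slotMap l φ X = c • X := by
  ext x y
  change φ (blk l x y X) (x l) (y l) = _
  rw [h, Matrix.smul_apply, blk_same, Matrix.smul_apply]

lemma linear_entry (φ : Matrix (Fin k) (Fin k) F →ₗ[F] Matrix (Fin k) (Fin k) F) (B : Matrix (Fin k) (Fin k) F) :
    φ B = ∑ i, ∑ j, B i j • φ (Matrix.single i j 1) := by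
  conv_lhs => rw [Matrix.matrix_eq_sum_single B]
  simp only [map_sum]
  exact Finset.sum_congr rfl fun i _ => Finset.sum_congr rfl fun j _ => by
    rw [← map_smul, Matrix.smul_single, smul_eq_mul, mul_one]

/-- Blocks in another slot of a slot map are combinations of blocks. -/
lemma blk_slotMap_mem {l m : Fin T} (hml : m ≠ l) (φ : Matrix (Fin k) (Fin k) F →ₗ[F] Matrix (Fin k) (Fin k) F)
    {S : Submodule F (Matrix (Fin k) (Fin k) F)} {X : Matrix (Idx T k) (Idx T k) F}
    (h : ∀ x y, blk m x y X ∈ S) (x y : Idx T k) : blk m x y (slotMap l φ X) ∈ S := by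
  have e : blk m x y (slotMap l φ X) = ∑ i, ∑ j, (φ (Matrix.single i j 1) (x l) (y l)) •
      blk m (Function.update x l i) (Function.update y l j) X := by
    ext a b
    change φ (blk l (Function.update x m a) (Function.update y m b) X) ((Function.update x m a) l)
      ((Function.update y m b) l) = _
    rw [Function.update_of_ne hml.symm, Function.update_of_ne hml.symm, linear_entry φ]
    simp only [Matrix.sum_apply, Matrix.smul_apply, smul_eq_mul]
    refine Finset.sum_congr rfl fun i _ => Finset.sum_congr rfl fun j _ => ?_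
    rw [mul_comm]
    congr 1
    simp only [blk, Function.update_comm hml]
  rw [e]
  exact S.sum_mem fun i _ => S.sum_mem fun j _ => S.smul_mem _ (h _ _)

lemma blk_tmat (l : Fin T) (G : Fin T → Matrix (Fin k) (Fin k) F) (x y : Idx T k) :
    blk l x y (tmat G) = (∏ m ∈ Finset.univ.erase l, G m (x m) (y m)) • G l := by
  ext i j
  rw [Matrix.smul_apply, smul_eq_mul, mul_comm, blk, tmat, ← Finset.mul_prod_erase _ _ (Finset.mem_univ l)]
  simp only [Function.update_self]
  congr 1
  exact Finset.prod_congr rfl fun m hm => by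
    rw [Function.update_of_ne (Finset.ne_of_mem_erase hm), Function.update_of_ne (Finset.ne_of_mem_erase hm)]

lemma slotMap_tmat (l : Fin T) (φ : Matrix (Fin k) (Fin k) F →ₗ[F] Matrix (Fin k) (Fin k) F)
    (G : Fin T → Matrix (Fin k) (Fin k) F) : slotMap l φ (tmat G) = tmat (Function.update G l (φ (G l))) := by
  ext x y
  change φ (blk l x y (tmat G)) (x l) (y l) = _
  rw [blk_tmat, map_smul, Matrix.smul_apply, smul_eq_mul, mul_comm, tmat,
    ← Finset.mul_prod_erase _ _ (Finset.mem_univ l), Function.update_self]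
  congr 1
  exact Finset.prod_congr rfl fun m hm => by rw [Function.update_of_ne (Finset.ne_of_mem_erase hm)]

/-- Left and right multiplication as a linear map. -/
def sandL (A B : Matrix (Fin k) (Fin k) F) : Matrix (Fin k) (Fin k) F →ₗ[F] Matrix (Fin k) (Fin k) F where
  toFun X := A * X * B
  map_add' X Y := by rw [mul_add, add_mul]
  map_smul' c X := by simp

lemma sandL_apply (A B X : Matrix (Fin k) (Fin k) F) : sandL A B X = A * X * B := rfl

lemma emb_sand (l : Fin T) (A B : Matrix (Fin k) (Fin k) F) (X : Matrix (Idx T k) (Idx T k) F) :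
    emb l A * X * emb l B = slotMap l (sandL A B) X := by
  ext x y
  change _ = (A * blk l x y X * B) (x l) (y l)
  have e1 : ∀ (Y : Matrix (Idx T k) (Idx T k) F) u v,
      (emb l A * Y) u v = ∑ i, A (u l) i * Y (Function.update u l i) v := fun Y u v => TWMax.emb_mul_apply l A Y u v
  have e2 : ∀ (Y : Matrix (Idx T k) (Idx T k) F) u v,
      (Y * emb l B) u v = ∑ j, Y u (Function.update v l j) * B j (v l) := fun Y u v => by
    rw [Matrix.mul_apply]
    obtain ⟨ι, hι⟩ : ∃ ι : Fin k → Idx T k, ∀ j, ι j = Function.update v l j := ⟨_, fun j => rfl⟩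
    have hinj : Function.Injective ι := fun a b h => by simpa [hι] using congrFun h l
    rw [← Finset.sum_subset (Finset.subset_univ (Finset.univ.image ι)) fun w _ hw => ?_,
      Finset.sum_image fun a _ b _ h => hinj h]
    · refine Finset.sum_congr rfl fun j _ => ?_
      rw [hι]
      congr 1
      simp [emb, Function.update_idem]
    · rw [emb]
      split_ifs with h
      · refine absurd (Finset.mem_image.mpr ⟨w l, Finset.mem_univ _, ?_⟩) hw
        rw [hι]
        funext m
        by_cases hm : m = l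
        · subst hm; simp
        · have := congrFun h m
          simp [hm] at this
          simp [hm, this]
      · rw [mul_zero]
  rw [e2, Matrix.mul_apply]
  refine Finset.sum_congr rfl fun j _ => ?_
  rw [e1, Matrix.mul_apply]
  rfl

/-! ### Small matrices -/

variable {f : (Fin k → F) → (Fin k → F) → F}

/-- The wedge of two vectors. -/
def wd (f : (Fin k → F) → (Fin k → F) → F) (e v : Fin k → F) : Matrix (Fin k) (Fin k) F :=
  outer f v e - outer f e v

section
variable (hf : Cfsg.Geo.IsSymmetricForm f)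
include hf

lemma wd_mulVec (e v x : Fin k → F) : wd f e v *ᵥ x = f x e • v - f x v • e := by
  rw [wd, sub_mulVec, sym_outer hf, sym_outer hf]

lemma outer_smul_left (c : F) (a b : Fin k → F) : outer f (c • a) b = c • outer f a b :=
  Matrix.ext_iff_mulVec.mpr fun x => by simp [sym_outer hf, smul_mulVec, smul_comm c]

lemma outer_smul_right (c : F) (a b : Fin k → F) : outer f a (c • b) = c • outer f a b :=
  Matrix.ext_iff_mulVec.mpr fun x => by
    simp [sym_outer hf, smul_mulVec, hf.bilinear.smul_right, smul_smul]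

lemma conj_outer {A : GL (Fin k) F} (hA : A ∈ isoF f) (a b : Fin k → F) :
    A.val * outer f a b * A⁻¹.val = outer f (A.val *ᵥ a) (A.val *ᵥ b) :=
  Matrix.ext_iff_mulVec.mpr fun x => by
    rw [← mulVec_mulVec, ← mulVec_mulVec, sym_outer hf, sym_outer hf, mulVec_smul, ← hA (A⁻¹.val *ᵥ x) b,
      Transvec.mulVec_inv_cancel]

lemma conj_wd {A : GL (Fin k) F} (hA : A ∈ isoF f) (a b : Fin k → F) :
    A.val * wd f a b * A⁻¹.val = wd f (A.val *ᵥ a) (A.val *ᵥ b) := by
  rw [wd, mul_sub, sub_mul, conj_outer hf hA, conj_outer hf hA, wd]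

lemma eA_eq (u w : Fin k → F) :
    eA f u w = 1 + wd f u w + (-(f w w / 2)) • outer f u u :=
  Matrix.ext_iff_mulVec.mpr fun x => by
    rw [eA_mulVec hf, add_mulVec, add_mulVec, one_mulVec, wd_mulVec hf, smul_mulVec, sym_outer hf]
    module

lemma wd_smul_left (a : F) (e v : Fin k → F) : wd f (a • e) v = a • wd f e v :=
  Matrix.ext_iff_mulVec.mpr fun x => by
    simp only [smul_mulVec, wd_mulVec hf, hf.bilinear.smul_right, smul_sub, smul_smul]
    module

lemma wd_outer {e v : Fin k → F} (hee : f e e = 0) (hev : f e v = 0) :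
    wd f e v * outer f e e = 0 ∧ outer f e e * wd f e v = 0 ∧ outer f e e * outer f e e = 0 := by
  refine ⟨?_, ?_, ?_⟩ <;> refine Matrix.ext_iff_mulVec.mpr fun x => ?_ <;> rw [← mulVec_mulVec, zero_mulVec]
  · rw [sym_outer hf, mulVec_smul, wd_mulVec hf, hee, hev]; simp
  · rw [sym_outer hf, wd_mulVec hf]; simp [sym_sub_left hf, hf.bilinear.smul_left, hee, hf.symm v e, hev]
  · rw [sym_outer hf, sym_outer hf, hf.bilinear.smul_left, hee]; simp

lemma wd_wd {e v w : Fin k → F} (hee : f e e = 0) (hev : f e v = 0) (hew : f e w = 0) :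
    wd f e v * wd f e w = (-(f v w)) • outer f e e := by
  refine Matrix.ext_iff_mulVec.mpr fun x => ?_
  rw [← mulVec_mulVec, smul_mulVec, sym_outer hf, wd_mulVec hf e w x, mulVec_sub, mulVec_smul, mulVec_smul, wd_mulVec hf,
    wd_mulVec hf, hee, hev, hf.symm w e, hew, hf.symm w v]
  module

end

/-- A vector of the orthogonal complement killed by all anisotropic vectors there is zero. -/
lemma perp_zero (hf : Cfsg.Geo.IsSymmetricForm f) (h2 : (2 : F) ≠ 0) {e e' v : Fin k → F} (hee : f e e = 0)
    (he' : f e' e' = 0) (hp : f e e' = 1) (hv : f e v = 0) (hv' : f e' v = 0)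
    (h : ∀ r, f e r = 0 → f e' r = 0 → f r r ≠ 0 → f v r = 0) : v = 0 := by
  have hnd := nd_pairW hf hee he' hp
  have hmem : ∀ r, r ∈ pairW f e e' ↔ f e r = 0 ∧ f e' r = 0 := fun r => by
    rw [mem_pairW hf, hf.symm r e, hf.symm r e']
  obtain ⟨S, hS⟩ : ∃ S : Submodule F (Fin k → F), ∀ r, r ∈ S ↔ f v r = 0 :=
    ⟨{ carrier := {r | f v r = 0}
       zero_mem' := sym_zero_right hf v
       add_mem' := fun {a b} ha hb => by
        change f v (a + b) = 0
        rw [hf.bilinear.add_right, show f v a = 0 from ha, show f v b = 0 from hb, add_zero]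
       smul_mem' := fun c a ha => by
        change f v (c • a) = 0
        rw [hf.bilinear.smul_right, show f v a = 0 from ha, mul_zero] }, fun r => Iff.rfl⟩
  have hall : pairW f e e' ≤ S := nd_span hf h2 hnd fun r hr hrr =>
    (hS r).mpr (h r ((hmem r).mp hr).1 ((hmem r).mp hr).2 hrr)
  refine sym_eq hf fun x => ?_
  obtain ⟨r, hr, hr', hx⟩ : ∃ r, f e r = 0 ∧ f e' r = 0 ∧ x = f x e' • e + f x e • e' + r := by
    refine ⟨x - f x e' • e - f x e • e', ?_, ?_, by abel⟩
    · rw [sym_sub_right hf, sym_sub_right hf, hf.bilinear.smul_right, hf.bilinear.smul_right, hee, hp,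
        hf.symm e x]; ring
    · rw [sym_sub_right hf, sym_sub_right hf, hf.bilinear.smul_right, hf.bilinear.smul_right, he', hf.symm e' e, hp,
        hf.symm e' x]; ring
  rw [hx, hf.bilinear.add_right, hf.bilinear.add_right, hf.bilinear.smul_right, hf.bilinear.smul_right,
    hf.symm v e, hf.symm v e', hv, hv', (hS r).mp (hall ((hmem r).mpr ⟨hr, hr'⟩)), sym_zero_left hf]
  ring

variable [Fintype F]

/-- The matrices commuting with all Eichler matrices at a singular vector. -/
theorem commutant_root (hf : Cfsg.Geo.IsSymmetricForm f) (h2 : (2 : F) ≠ 0) (hk : 3 ≤ k)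
    (hq : k = 3 → 3 < Fintype.card F) {e e' : Fin k → F} (hee : f e e = 0)
    (he' : f e' e' = 0) (hp : f e e' = 1) {A : Matrix (Fin k) (Fin k) F}
    (h : ∀ y, f e y = 0 → eA f e y * A = A * eA f e y) :
    ∃ l m : F, ∃ v, f e v = 0 ∧ f e' v = 0 ∧ A = l • 1 + m • outer f e e + wd f e v := by
  have hadj : ∀ y, f e y = 0 → eA f e y * adj f A = adj f A * eA f e y := by
    intro y hy
    have hy' : f e (-y) = 0 := by rw [sym_neg_right hf, hy, neg_zero]
    have hE : adj f (eA f e (-y)) = eA f e y := sym_adj_eq hf fun p q => by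
      conv_rhs => rw [← eA_iso hf h2 hee hy' p (eA f e y *ᵥ q)]
      rw [mulVec_mulVec, eA_mul hf h2 hee hy' hy, neg_add_cancel, eA_zero hf, one_mulVec]
    have := congrArg (adj f) (h (-y) hy')
    rw [sym_adj_mul hf, sym_adj_mul hf, hE] at this
    exact this.symm
  obtain ⟨S, hS⟩ : ∃ S, S = (2 : F)⁻¹ • (A - adj f A) := ⟨_, rfl⟩
  obtain ⟨K, hK⟩ : ∃ K, K = (2 : F)⁻¹ • (A + adj f A) := ⟨_, rfl⟩
  have hSskew : ∀ p q, f (S *ᵥ p) q = -f p (S *ᵥ q) := fun p q => by
    rw [hS, smul_mulVec, smul_mulVec, sub_mulVec, sub_mulVec, hf.bilinear.smul_left, hf.bilinear.smul_right,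
      sym_sub_left hf, sym_sub_right hf, sym_adj_spec hf, sym_adj_spec hf, sym_adj_adj hf]
    ring
  have hKsym : ∀ p q, f (K *ᵥ p) q = f p (K *ᵥ q) := fun p q => by
    rw [hK, smul_mulVec, smul_mulVec, add_mulVec, add_mulVec, hf.bilinear.smul_left, hf.bilinear.smul_right,
      hf.bilinear.add_left, hf.bilinear.add_right, sym_adj_spec hf, sym_adj_spec hf, sym_adj_adj hf]
    ring
  obtain ⟨v, hve, hve', hSv⟩ := skew_fixed hf h2 hk hee he' hp hSskew fun y hy => by
    rw [hS, Matrix.mul_smul, Matrix.smul_mul, mul_sub, sub_mul, h y hy, hadj y hy]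
  obtain ⟨l, m, hKv⟩ := sym_fixed hf h2 hk hq hee he' hp hKsym fun y hy => ⟨0, by
    rw [zero_smul, add_zero, hK, Matrix.mul_smul, Matrix.smul_mul, mul_add, add_mul, h y hy, hadj y hy]⟩
  refine ⟨l, m, v, by rw [hf.symm, hve], by rw [hf.symm, hve'], Matrix.ext_iff_mulVec.mpr fun z => ?_⟩
  have hA : A = S + K := by
    rw [hS, hK, ← smul_add, show A - adj f A + (A + adj f A) = (2 : F) • A by rw [two_smul]; abel, inv_smul_smul₀ h2]
  rw [hA, add_mulVec, hSv, hKv, add_mulVec, add_mulVec, smul_mulVec, one_mulVec, smul_mulVec, sym_outer hf,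
    wd_mulVec hf, smul_smul]
  abel

end CfsgLib.Classical22.OPow
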