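/-
An invariant group of matrices on a tensor power contains a monomial of small matrices at a hyperbolic pair.
-/
import Cfsg.Agent.Lib.Classical22.OrthPower.Slot
import Cfsg.Agent.Lib.Classical22.TensorPower.Power

set_option autoImplicit false
set_option linter.unusedSectionVars false
set_option linter.unusedSimpArgs false
set_option maxHeartbeats 800000

namespace CfsgLib.Classical22.OPow

open Matrix CfsgLib.Transvec CfsgLib.Classical22.TensorMax CfsgLib.Classical22.TensorMax.SympO
open CfsgLib.Classical22.TensorMax.SpO (sym_outer sym_zero_left sym_zero_right sym_sub_left sym_sub_right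
  sym_neg_left sym_quad_add exists_value exists_aniso perpIn mem_perpIn finrank_perpIn nd_perpIn)
open CfsgLib.Classical22.TensorMax.OO (eA eA_mulVec eA_mul eA_mul_neg eA_zero sym_neg_right exists_fixed_point
  pairW mem_pairW nd_pairW finrank_pairW exists_aniso_pairW)
open CfsgLib.Classical22.TWMax (Idx pv tmat tmat_mul tmat_one emb slotEl)
open CfsgLib.Classical22.TPow (emb_eq_tmat)
open scoped MatrixGroups

variable {F : Type*} [Field F] {t k : ℕ} {f : (Fin k → F) → (Fin k → F) → F}

lemma tmat_single (x y : Idx t k) :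
    tmat (fun l => Matrix.single (x l) (y l) (1 : F)) = Matrix.single x y 1 := by
  ext a b
  by_cases h : x = a ∧ y = b
  · obtain ⟨rfl, rfl⟩ := h
    simp [tmat, Matrix.single]
  · rw [Matrix.single_apply_of_ne (h := h), tmat]
    obtain ⟨l, hl⟩ : ∃ l, ¬ (x l = a l ∧ y l = b l) := by
      by_contra hc
      push Not at hc
      exact h ⟨funext fun l => (hc l).1, funext fun l => (hc l).2⟩
    exact Finset.prod_eq_zero (Finset.mem_univ l) (Matrix.single_apply_of_ne (h := hl) ..)

/-- A matrix with all blocks on given lines is a multiple of one monomial. -/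
theorem exists_smul_tmat (b : Fin t → Matrix (Fin k) (Fin k) F) (hb : ∀ l, b l ≠ 0)
    {X : Matrix (Idx t k) (Idx t k) F} (h : ∀ l x y, blk l x y X ∈ Submodule.span F {b l}) :
    ∃ c : F, X = c • tmat b := by
  classical
  have key : ∀ S : Finset (Fin t), X ∈ Submodule.span F {Y | ∃ G, (∀ l ∈ S, G l = b l) ∧ Y = tmat G} := by
    intro S
    induction S using Finset.induction_on with
    | empty =>
      rw [Matrix.matrix_eq_sum_single X]
      refine Submodule.sum_mem _ fun x _ => Submodule.sum_mem _ fun y _ => ?_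
      rw [show Matrix.single x y (X x y) = X x y • Matrix.single x y (1 : F) by
        rw [Matrix.smul_single, smul_eq_mul, mul_one], ← tmat_single]
      exact Submodule.smul_mem _ _ (Submodule.subset_span ⟨_, fun l hl => absurd hl (Finset.notMem_empty l), rfl⟩)
    | insert l S hl ih =>
      obtain ⟨i, hi⟩ := Function.ne_iff.mp (hb l)
      obtain ⟨j, hij⟩ := Function.ne_iff.mp hi
      obtain ⟨π, hπ⟩ : ∃ π : Matrix (Fin k) (Fin k) F →ₗ[F] Matrix (Fin k) (Fin k) F,
          ∀ A, π A = (A i j / b l i j) • b l :=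
        ⟨{ toFun := fun A => (A i j / b l i j) • b l
           map_add' := fun A B => by rw [Matrix.add_apply, add_div, add_smul]
           map_smul' := fun c A => by simp [mul_div_assoc, smul_smul] }, fun A => rfl⟩
      have hX : slotMap l π X = X := by
        rw [slotMap_smul_id l (c := 1) fun x y => ?_, one_smul]
        obtain ⟨c, hc⟩ := Submodule.mem_span_singleton.mp (h l x y)
        rw [← hc, hπ, one_smul, Matrix.smul_apply, smul_eq_mul, mul_div_assoc,
          div_self (by simpa using hij), mul_one]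
      have hmap := Submodule.apply_mem_span_image_of_mem_span (slotMap l π) ih
      rw [hX] at hmap
      refine Submodule.span_le.mpr ?_ hmap
      rintro _ ⟨_, ⟨G, hG, rfl⟩, rfl⟩
      rw [slotMap_tmat, hπ]
      rw [show tmat (Function.update G l ((G l i j / b l i j) • b l)) =
        (G l i j / b l i j) • tmat (Function.update G l (b l)) from ?_]
      · refine Submodule.smul_mem _ _ (Submodule.subset_span ⟨_, fun m hm => ?_, rfl⟩)
        rcases Finset.mem_insert.mp hm with rfl | hm
        · rw [Function.update_self]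
        · rw [Function.update_of_ne (ne_of_mem_of_not_mem hm hl)]; exact hG m hm
      · ext x y
        simp only [tmat, Matrix.smul_apply, smul_eq_mul]
        rw [← Finset.mul_prod_erase _ _ (Finset.mem_univ l), ← Finset.mul_prod_erase _ _ (Finset.mem_univ l),
          Function.update_self, Function.update_self, Matrix.smul_apply, smul_eq_mul, mul_assoc]
        congr 1; congr 1
        exact Finset.prod_congr rfl fun m hm => by
          rw [Function.update_of_ne (Finset.ne_of_mem_erase hm), Function.update_of_ne (Finset.ne_of_mem_erase hm)]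
  have h1 := key Finset.univ
  rw [show {Y | ∃ G, (∀ l ∈ (Finset.univ : Finset (Fin t)), G l = b l) ∧ Y = tmat G} = {tmat b} from
    Set.ext fun Y => ⟨fun ⟨G, hG, e⟩ => by rw [e, show G = b from funext fun l => hG l (Finset.mem_univ l)]; rfl,
      fun e => ⟨b, fun l _ => rfl, e⟩⟩] at h1
  obtain ⟨c, hc⟩ := Submodule.mem_span_singleton.mp h1
  exact ⟨c, hc.symm⟩

variable {M : Subgroup (GL (Idx (t + 1) k) F)}

lemma eU_inv_val (C : Ctx f M) {u w : Fin k → F} (hu : f u u = 0) (huw : f u w = 0) :
    (eU C.sym C.two u w)⁻¹.val = eA f u (-w) := by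
  rw [eU, dif_pos ⟨hu, huw⟩]; rfl

variable {C : Ctx f M} {e e' : Fin k → F} {c : F} (H : Fr C e e' c)
include H

/-- The second difference along an Eichler matrix. -/
noncomputable def Fr.dd (_H : Fr C e e' c) (y : Fin k → F) :
    Matrix (Fin k) (Fin k) F →ₗ[F] Matrix (Fin k) (Fin k) F :=
  sandL (eA f e y) (eA f e (-y)) + sandL (eA f e (-y)) (eA f e y) - LinearMap.id - LinearMap.id

lemma Fr.sand_outer {y : Fin k → F} (hy : f e y = 0) (a b : Fin k → F) :
    sandL (eA f e y) (eA f e (-y)) (outer f a b) = outer f (eA f e y *ᵥ a) (eA f e y *ᵥ b) := by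
  rw [sandL_apply, ← eU_val C.sym C.two H.ee hy, ← eU_inv_val C H.ee hy, conj_outer C.sym (eU_iso C.sym C.two e y)]

lemma Fr.sand_outer' {y : Fin k → F} (hy : f e y = 0) (a b : Fin k → F) :
    sandL (eA f e (-y)) (eA f e y) (outer f a b) = outer f (eA f e (-y) *ᵥ a) (eA f e (-y) *ᵥ b) := by
  have h := H.sand_outer (y := -y) (by rw [sym_neg_right C.sym, hy, neg_zero]) a b
  rwa [neg_neg] at h

lemma Fr.dd_ee {y : Fin k → F} (hy : f e y = 0) : H.dd y (outer f e e) = 0 := by
  simp only [Fr.dd, LinearMap.sub_apply, LinearMap.add_apply, LinearMap.id_apply, H.sand_outer hy, H.sand_outer' hy,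
    OO.eA_self C.sym H.ee hy, OO.eA_self C.sym H.ee (show f e (-y) = 0 by rw [sym_neg_right C.sym, hy, neg_zero])]
  abel

lemma Fr.dd_e'e' {y : Fin k → F} (hy : f e y = 0) (hy' : f e' y = 0) :
    H.dd y (outer f e' e') = (2 : F) • outer f y y - (f y y) • (outer f e e' + outer f e' e) +
      (f y y * f y y / 2) • outer f e e := by
  have h2 := C.two
  simp only [Fr.dd, LinearMap.sub_apply, LinearMap.add_apply, LinearMap.id_apply, H.sand_outer hy, H.sand_outer' hy]
  refine Matrix.ext_iff_mulVec.mpr fun x => ?_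
  simp only [sub_mulVec, add_mulVec, smul_mulVec, sym_outer C.sym, eA_mulVec C.sym, H.pair', hy',
    sym_neg_right C.sym, sym_neg_left C.sym, sym_sub_right C.sym, sym_quad_add C.sym, C.sym.bilinear.add_right,
    C.sym.bilinear.smul_right, neg_zero, neg_neg]
  match_scalars <;> field_simp <;> ring

lemma Fr.dd_cross {y : Fin k → F} (hy : f e y = 0) (hy' : f e' y = 0) :
    H.dd y (outer f e e' + outer f e' e) = (-(2 * f y y)) • outer f e e := by
  have h2 := C.two
  have hyn : f e (-y) = 0 := by rw [sym_neg_right C.sym, hy, neg_zero]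
  simp only [Fr.dd, LinearMap.sub_apply, LinearMap.add_apply, LinearMap.id_apply, map_add, H.sand_outer hy,
    H.sand_outer' hy]
  refine Matrix.ext_iff_mulVec.mpr fun x => ?_
  simp only [sub_mulVec, add_mulVec, smul_mulVec, sym_outer C.sym, eA_mulVec C.sym, H.pair', H.ee, hy, hyn, hy',
    sym_neg_right C.sym, sym_neg_left C.sym, sym_sub_right C.sym, C.sym.bilinear.add_right,
    C.sym.bilinear.smul_right, neg_zero, neg_neg]
  match_scalars <;> field_simp <;> ring

lemma Fr.dd_yy {y z : Fin k → F} (hz : f e z = 0) (hy : f e y = 0) :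
    H.dd z (outer f y y) = (2 * (f y z * f y z)) • outer f e e := by
  have hye : f y e = 0 := by rw [C.sym.symm, hy]
  simp only [Fr.dd, LinearMap.sub_apply, LinearMap.add_apply, LinearMap.id_apply, H.sand_outer hz, H.sand_outer' hz]
  refine Matrix.ext_iff_mulVec.mpr fun x => ?_
  simp only [sub_mulVec, add_mulVec, smul_mulVec, sym_outer C.sym, eA_mulVec C.sym, hye, hy, H.ee,
    sym_neg_right C.sym, sym_neg_left C.sym, sym_sub_right C.sym, C.sym.bilinear.add_right,
    C.sym.bilinear.smul_right]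
  match_scalars <;> ring

/-- A group of matrices invariant under the slot stabilisers of a frame. -/
structure Inv (_H : Fr C e e' c) (P : AddSubgroup (Matrix (Idx (t + 1) k) (Idx (t + 1) k) F)) (s : Fin (t + 1))
    (b : Matrix (Fin k) (Fin k) F) (r₀ : Fin k → F) : Prop where
  ne : b ≠ 0
  perp : f e r₀ = 0 ∧ f e' r₀ = 0 ∧ f r₀ r₀ ≠ 0
  block : ∀ Z ∈ P, ∀ x y, blk s x y Z ∈ Submodule.span F {b}
  sq : ∀ l, l ≠ s → ∀ B ∈ isoSq f, ∀ Z ∈ P, slotMap l (sandL B.val B⁻¹.val) Z ∈ P
  pr : ∀ l, l ≠ s → ∀ v, f v v ≠ 0 → (4 ≤ k ∨ IsSquare (f v v * f r₀ r₀)) → ∀ Z ∈ P,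
    slotMap l (sandL (eG C.sym v).val (eG C.sym v)⁻¹.val) Z ∈ P

variable [Fintype F] {P : AddSubgroup (Matrix (Idx (t + 1) k) (Idx (t + 1) k) F)} {s : Fin (t + 1)}
  {b : Matrix (Fin k) (Fin k) F} {r₀ : Fin k → F}

/-- An operation killing the identity and moving the singular square onto itself. -/
theorem Fr.exists_eeOp (hI : Inv H P s b r₀) {l : Fin (t + 1)} (hl : l ≠ s) :
    ∃ φ : Matrix (Fin k) (Fin k) F →ₗ[F] Matrix (Fin k) (Fin k) F, φ 1 = 0 ∧
      (∃ μ : F, μ ≠ 0 ∧ φ (outer f e e) = μ • outer f e e) ∧ ∀ Z ∈ P, slotMap l φ Z ∈ P := by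
  classical
  have hf := C.sym
  have h2 := C.two
  obtain ⟨hr, hr', hrr⟩ := hI.perp
  obtain ⟨γ, hγ⟩ : ∃ γ, γ = f r₀ r₀ / 2 := ⟨_, rfl⟩
  have hγ0 : γ ≠ 0 := hγ ▸ div_ne_zero hrr h2
  obtain ⟨v, hv⟩ : ∃ v, v = e + γ • e' := ⟨_, rfl⟩
  have hvv : f v v = f r₀ r₀ := by
    rw [hv, sym_quad_add hf, hf.bilinear.smul_left, hf.bilinear.smul_right, hf.bilinear.smul_right, H.ee, H.ee'',
      H.pair, hγ]
    field_simp; ring
  have hne : (eG hf v).val *ᵥ e = γ • e' := by
    rw [eG_apply hf (by rw [hvv]; exact hrr), hvv, hv, hf.bilinear.add_right, hf.bilinear.smul_right, H.ee, H.pair,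
      hγ]
    match_scalars <;> field_simp <;> ring
  have hdd : ∀ y, f e y = 0 → ∀ Z ∈ P, slotMap l (H.dd y) Z ∈ P := fun y hy Z hZ => by
    have h1 := hI.sq l hl _ (eU_mem hf h2 e y) Z hZ
    have hyn : f e (-y) = 0 := by rw [sym_neg_right hf, hy, neg_zero]
    have h3 := hI.sq l hl _ (eU_mem hf h2 e (-y)) Z hZ
    rw [eU_val hf h2 H.ee hy, eU_inv_val C H.ee hy] at h1
    rw [eU_val hf h2 H.ee hyn, eU_inv_val C H.ee hyn, neg_neg] at h3
    rw [Fr.dd, slotMap_sub, slotMap_sub, slotMap_add, slotMap_id]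
    exact P.sub_mem (P.sub_mem (P.add_mem h1 h3) hZ) hZ
  obtain ⟨δ, hδ⟩ : ∃ δ, δ = sandL (eG hf v).val (eG hf v)⁻¹.val - LinearMap.id := ⟨_, rfl⟩
  have hδP : ∀ Z ∈ P, slotMap l δ Z ∈ P := fun Z hZ => by
    rw [hδ, slotMap_sub, slotMap_id]
    exact P.sub_mem (hI.pr l hl v (by rw [hvv]; exact hrr) (Or.inr (by rw [hvv]; exact ⟨_, rfl⟩)) Z hZ) hZ
  have hδ1 : δ 1 = 0 := by
    rw [hδ, LinearMap.sub_apply, sandL_apply, mul_one, LinearMap.id_apply, Units.mul_inv, sub_self]
  have hδe : δ (outer f e e) = (γ * γ) • outer f e' e' - outer f e e := by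
    rw [hδ, LinearMap.sub_apply, sandL_apply, LinearMap.id_apply, conj_outer hf (eG_iso hf v), hne,
      outer_smul_left hf, outer_smul_right hf, smul_smul]
  -- it suffices to treat the square of the partner
  suffices h : ∃ ψ : Matrix (Fin k) (Fin k) F →ₗ[F] Matrix (Fin k) (Fin k) F, ψ (outer f e e) = 0 ∧
      (∃ μ : F, μ ≠ 0 ∧ ψ (outer f e' e') = μ • outer f e e) ∧ ∀ Z ∈ P, slotMap l ψ Z ∈ P by
    obtain ⟨ψ, h0, ⟨μ, hμ, h1⟩, hP⟩ := h
    refine ⟨ψ.comp δ, by rw [LinearMap.comp_apply, hδ1, map_zero],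
      ⟨γ * γ * μ, mul_ne_zero (mul_ne_zero hγ0 hγ0) hμ, ?_⟩, fun Z hZ => ?_⟩
    · rw [LinearMap.comp_apply, hδe, map_sub, map_smul, h0, h1, sub_zero, smul_smul]
    · rw [← slotMap_slotMap]; exact hP _ (hδP Z hZ)
  have two_step : ∀ y z, f e y = 0 → f e' y = 0 → f e z = 0 → f e' z = 0 →
      4 * (f y z * f y z) + 2 * (f y y * f z z) ≠ 0 →
      ∃ ψ : Matrix (Fin k) (Fin k) F →ₗ[F] Matrix (Fin k) (Fin k) F, ψ (outer f e e) = 0 ∧
        (∃ μ : F, μ ≠ 0 ∧ ψ (outer f e' e') = μ • outer f e e) ∧ ∀ Z ∈ P, slotMap l ψ Z ∈ P := by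
    intro y z hy hy' hz hz' hne
    refine ⟨(H.dd z).comp (H.dd y), by rw [LinearMap.comp_apply, H.dd_ee hy, map_zero], ⟨_, hne, ?_⟩,
      fun Z hZ => ?_⟩
    · rw [LinearMap.comp_apply, H.dd_e'e' hy hy', map_add, map_sub, map_smul, map_smul, map_smul, H.dd_yy hz hy,
        H.dd_cross hz hz', H.dd_ee hz, smul_zero, add_zero, smul_smul, smul_smul, ← sub_smul]
      congr 1; ring
    · rw [← slotMap_slotMap]; exact hdd z hz _ (hdd y hy Z hZ)
  by_cases h5 : 4 ≤ k
  · -- two orthogonal vectors
    have hnd := nd_pairW hf H.ee H.ee'' H.pair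
    have hmem : r₀ ∈ pairW f e e' := (mem_pairW hf).mpr ⟨by rw [hf.symm, hr], by rw [hf.symm, hr']⟩
    obtain ⟨z, hz, hzz⟩ := exists_aniso hf h2 (nd_perpIn hf hnd hmem hrr) (by
      have := finrank_pairW hf e e'
      have := finrank_perpIn hf (pairW f e e') r₀
      omega)
    obtain ⟨hz1, hz0⟩ := (mem_perpIn hf).mp hz
    obtain ⟨hze, hze'⟩ := (mem_pairW hf).mp hz1
    refine two_step r₀ z hr hr' (by rw [hf.symm, hze]) (by rw [hf.symm, hze']) ?_
    rw [hf.symm r₀ z, hz0, mul_zero, mul_zero, zero_add]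
    exact mul_ne_zero h2 (mul_ne_zero hrr hzz)
  have hk3 : k = 3 := C.three_of_lt (by omega)
  by_cases h3 : (3 : F) = 0
  · -- a sum of two squares that is a square
    have h5q : 5 ≤ Fintype.card F := by rw [← Nat.card_eq_fintype_card]; exact C.small hk3
    obtain ⟨u, hu0, hu4⟩ : ∃ u : F, u ≠ 0 ∧ u ^ 4 ≠ 1 := by
      by_contra hc
      push Not at hc
      have hle : Fintype.card F ≤ 5 := by
        obtain ⟨φ, hφ⟩ : ∃ φ : Polynomial F, φ = Polynomial.X ^ 5 - Polynomial.X := ⟨_, rfl⟩
        have hdeg : φ.natDegree = 5 := by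
          rw [hφ, Polynomial.natDegree_sub_eq_left_of_natDegree_lt] <;> simp
        by_contra hlt
        have h0 : φ = 0 := Polynomial.eq_zero_of_natDegree_lt_card_of_eval_eq_zero' φ Finset.univ (fun a _ => by
          rw [hφ, Polynomial.eval_sub, Polynomial.eval_pow, Polynomial.eval_X]
          by_cases ha : a = 0
          · rw [ha]; simp
          · rw [pow_succ, hc a ha, one_mul, sub_self]) (by rw [hdeg, Finset.card_univ]; omega)
        rw [h0, Polynomial.natDegree_zero] at hdeg
        omega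
      have h55 : Fintype.card F = 5 := by omega
      have hc5 : ((5 : ℕ) : F) = 0 := h55 ▸ Nat.cast_card_eq_zero F
      have : (2 : F) = 0 := by push_cast at hc5; linear_combination hc5 - h3
      exact h2 this
    obtain ⟨x, hx⟩ : ∃ x, x = 1 - u * u := ⟨_, rfl⟩
    obtain ⟨w, hw⟩ : ∃ w, w = 2 * u := ⟨_, rfl⟩
    obtain ⟨z, hz⟩ : ∃ z, z = 1 + u * u := ⟨_, rfl⟩
    have hsq : z * z = x * x + w * w := by rw [hx, hw, hz]; ring
    have hx0 : x ≠ 0 := fun h => hu4 (by rw [hx, sub_eq_zero] at h; linear_combination -(u * u + 1) * h)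
    have hw0 : w ≠ 0 := hw ▸ mul_ne_zero h2 hu0
    have hperp : ∀ a : F, f e (a • r₀) = 0 ∧ f e' (a • r₀) = 0 := fun a => by
      rw [hf.bilinear.smul_right, hf.bilinear.smul_right, hr, hr', mul_zero]; exact ⟨rfl, rfl⟩
    refine ⟨H.dd (z • r₀) - H.dd (x • r₀) - H.dd (w • r₀), by simp [H.dd_ee (hperp _).1],
      ⟨(x * x) * (w * w) * (f r₀ r₀ * f r₀ r₀),
        mul_ne_zero (mul_ne_zero (mul_ne_zero hx0 hx0) (mul_ne_zero hw0 hw0)) (mul_ne_zero hrr hrr), ?_⟩,
      fun Z hZ => ?_⟩
    · simp only [LinearMap.sub_apply, H.dd_e'e' (hperp _).1 (hperp _).2, outer_smul_left hf, outer_smul_right hf,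
        hf.bilinear.smul_left, hf.bilinear.smul_right, smul_smul]
      match_scalars <;> field_simp <;> grind
    · rw [slotMap_sub, slotMap_sub]
      exact P.sub_mem (P.sub_mem (hdd _ (hperp _).1 Z hZ) (hdd _ (hperp _).1 Z hZ)) (hdd _ (hperp _).1 Z hZ)
  · refine two_step r₀ r₀ hr hr' hr hr' fun h => ?_
    have : (2 * 3) * (f r₀ r₀ * f r₀ r₀) = 0 := by linear_combination h
    exact mul_ne_zero (mul_ne_zero h2 h3) (mul_ne_zero hrr hrr) this

/-- The shapes of the factors of a monomial. -/
def Fr.Shape (_H : Fr C e e' c) (G : Matrix (Fin k) (Fin k) F) : Prop :=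
  G = 1 ∨ G = outer f e e ∨ ∃ v, f e v = 0 ∧ f e' v = 0 ∧ f v v ≠ 0 ∧ G = wd f e v

omit [Fintype F] in
lemma Fr.Shape.ne_zero {G : Matrix (Fin k) (Fin k) F} (h : H.Shape G) : G ≠ 0 := by
  intro h0
  have hk0 : 0 < k := by have := C.dim; omega
  rcases h with rfl | rfl | ⟨v, hv, hv', hvv, rfl⟩
  · have := congrFun (congrFun h0 ⟨0, hk0⟩) ⟨0, hk0⟩
    simp at this
  · have := congrArg (· *ᵥ e') h0
    simp only [sym_outer C.sym, zero_mulVec, H.pair', one_smul] at this
    exact H.e_ne this
  · have := congrArg (fun A => f (A *ᵥ e') v) h0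
    simp only [wd_mulVec C.sym, zero_mulVec, H.pair', sym_sub_left C.sym, C.sym.bilinear.smul_left, hv, hv', hvv,
      sym_zero_left C.sym, one_mul, mul_zero, sub_zero] at this

/-- The commutant of the root group. -/
def Fr.cmt (_H : Fr C e e' c) : Submodule F (Matrix (Fin k) (Fin k) F) where
  carrier := {A | ∀ y, f e y = 0 → eA f e y * A = A * eA f e y}
  zero_mem' y _ := by simp
  add_mem' {A B} hA hB y hy := by rw [mul_add, add_mul, hA y hy, hB y hy]
  smul_mem' a A hA y hy := by rw [Matrix.mul_smul, Matrix.smul_mul, hA y hy]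

/-- A non-zero member with all blocks in the commutant gives a monomial, keeping the slots already on a line. -/
theorem Fr.exists_monomial_keep (hI : Inv H P s b r₀) {Z : Matrix (Idx (t + 1) k) (Idx (t + 1) k) F}
    (hZ : Z ∈ P) (hZ0 : Z ≠ 0) (hblk : ∀ l, l ≠ s → ∀ x y, blk l x y Z ∈ H.cmt)
    (S₀ : Finset (Fin (t + 1))) (G₀ : Fin (t + 1) → Matrix (Fin k) (Fin k) F)
    (h₀ : ∀ l ∈ S₀, l ≠ s ∧ H.Shape (G₀ l) ∧ ∀ x y, blk l x y Z ∈ Submodule.span F {G₀ l}) :
    ∃ (d : F) (G : Fin (t + 1) → Matrix (Fin k) (Fin k) F), d ≠ 0 ∧ d • tmat G ∈ P ∧ G s = b ∧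
      (∀ l, l ≠ s → H.Shape (G l)) ∧ ∀ l ∈ S₀, G l = G₀ l := by
  classical
  have hf := C.sym
  have h2 := C.two
  have hq : k = 3 → 3 < Fintype.card F := fun h => by
    have := C.small h
    rw [Nat.card_eq_fintype_card] at this
    omega
  have key : ∀ S : Finset (Fin (t + 1)), s ∉ S → (∀ l ∈ S, l ∉ S₀) → ∃ Y ∈ P, Y ≠ 0 ∧
      (∀ l ∈ S, ∃ G, H.Shape G ∧ ∀ x y, blk l x y Y ∈ Submodule.span F {G}) ∧
      (∀ l ∈ S₀, ∀ x y, blk l x y Y ∈ Submodule.span F {G₀ l}) ∧
      ∀ l, l ≠ s → ∀ x y, blk l x y Y ∈ H.cmt := by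
    intro S
    induction S using Finset.induction_on with
    | empty => exact fun _ _ => ⟨Z, hZ, hZ0, fun l hl => absurd hl (Finset.notMem_empty l),
        fun l hl => (h₀ l hl).2.2, hblk⟩
    | insert l S hlS ih =>
      intro hs hS₀
      have hls : l ≠ s := fun h => hs (by simp [h])
      obtain ⟨Y, hY, hY0, hYS, hY0', hYc⟩ := ih (fun h => hs (Finset.mem_insert_of_mem h))
        fun m hm => hS₀ m (Finset.mem_insert_of_mem hm)
      have dec : ∀ x y, ∃ a m : F, ∃ v, f e v = 0 ∧ f e' v = 0 ∧
          blk l x y Y = a • 1 + m • outer f e e + wd f e v := fun x y =>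
        commutant_root hf h2 C.dim hq H.ee H.ee'' H.pair (hYc l hls x y)
      -- moving on with an operation
      have finish : ∀ (φ : Matrix (Fin k) (Fin k) F →ₗ[F] Matrix (Fin k) (Fin k) F) (G : Matrix (Fin k) (Fin k) F),
          H.Shape G → slotMap l φ Y ∈ P → slotMap l φ Y ≠ 0 →
          (∀ x y, φ (blk l x y Y) ∈ Submodule.span F {G}) → (G ∈ H.cmt) →
          ∃ Y ∈ P, Y ≠ 0 ∧ (∀ l' ∈ insert l S, ∃ G, H.Shape G ∧ ∀ x y, blk l' x y Y ∈ Submodule.span F {G}) ∧
            (∀ l' ∈ S₀, ∀ x y, blk l' x y Y ∈ Submodule.span F {G₀ l'}) ∧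
            ∀ l', l' ≠ s → ∀ x y, blk l' x y Y ∈ H.cmt := by
        intro φ G hG hP h0 hb hGc
        refine ⟨_, hP, h0, fun l' hl' => ?_, fun l' hl' x y =>
          blk_slotMap_mem (m := l') (fun e => hS₀ l (Finset.mem_insert_self l S) (by rw [← e]; exact hl')) φ (hY0' l' hl') x y,
          fun l' hl' x y => ?_⟩
        · rcases Finset.mem_insert.mp hl' with rfl | hl'
          · exact ⟨G, hG, fun x y => by rw [blk_slotMap_same]; exact hb x y⟩
          · obtain ⟨G', hG', hb'⟩ := hYS l' hl'
            exact ⟨G', hG', fun x y => blk_slotMap_mem (ne_of_mem_of_not_mem hl' hlS) φ hb' x y⟩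
        · by_cases hll : l' = l
          · subst hll
            rw [blk_slotMap_same]
            obtain ⟨a, ha⟩ := Submodule.mem_span_singleton.mp (hb x y)
            rw [← ha]; exact H.cmt.smul_mem _ hGc
          · exact blk_slotMap_mem hll φ (hYc l' hl') x y
      have hone : (1 : Matrix (Fin k) (Fin k) F) ∈ H.cmt := fun y _ => by rw [mul_one, one_mul]
      have hcee : outer f e e ∈ H.cmt := fun y hy => by
        obtain ⟨h1, h1', h1''⟩ := wd_outer hf H.ee hy
        rw [eA_eq hf, add_mul, add_mul, one_mul, h1, Matrix.smul_mul, h1'', mul_add, mul_add, mul_one, h1',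
          Matrix.mul_smul, h1'']
      by_cases hex : ∃ r, f e r = 0 ∧ f e' r = 0 ∧ f r r ≠ 0 ∧
          slotMap l (LinearMap.id - sandL (eG hf r).val (eG hf r)⁻¹.val) Y ≠ 0
      · obtain ⟨r, hr, hr', hrr, hne⟩ := hex
        have hcw : wd f e r ∈ H.cmt := fun y hy => by
          obtain ⟨h1, h1', -⟩ := wd_outer hf H.ee hr
          rw [eA_eq hf, add_mul, add_mul, one_mul, wd_wd hf H.ee hy hr, Matrix.smul_mul, h1', mul_add, mul_add,
            mul_one, wd_wd hf H.ee hr hy, Matrix.mul_smul, h1, hf.symm r y]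
        refine finish _ (wd f e r) (Or.inr (Or.inr ⟨r, hr, hr', hrr, rfl⟩)) ?_ hne (fun x y => ?_) hcw
        · rw [slotMap_sub, slotMap_id]
          refine P.sub_mem hY (hI.pr l hls r hrr ?_ Y hY)
          by_cases h5 : 4 ≤ k
          · exact Or.inl h5
          · have hk3 : k = 3 := C.three_of_lt (by omega)
            obtain ⟨hr0, hr0', hr00⟩ := hI.perp
            -- the orthogonal complement is a line
            have hmem : ∀ w, f e w = 0 → f e' w = 0 → w ∈ pairW f e e' := fun w h h' =>
              (mem_pairW hf).mpr ⟨by rw [hf.symm, h], by rw [hf.symm, h']⟩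
            obtain ⟨w, hw⟩ : ∃ w, w = r - (f r r₀ / f r₀ r₀) • r₀ := ⟨_, rfl⟩
            have hw0 : w = 0 := by
              refine perp_zero hf h2 H.ee H.ee'' H.pair (by rw [hw, sym_sub_right hf, hf.bilinear.smul_right, hr, hr0]; ring)
                (by rw [hw, sym_sub_right hf, hf.bilinear.smul_right, hr', hr0']; ring) fun z hz hz' hzz => ?_
              by_contra hwz
              have hwr : f w r₀ = 0 := by
                rw [hw, sym_sub_left hf, hf.bilinear.smul_left, div_mul_cancel₀ _ hr00, sub_self]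
              have hwp : w ∈ perpIn f (pairW f e e') r₀ := (mem_perpIn hf).mpr ⟨hmem w
                (by rw [hw, sym_sub_right hf, hf.bilinear.smul_right, hr, hr0]; ring)
                (by rw [hw, sym_sub_right hf, hf.bilinear.smul_right, hr', hr0']; ring), hwr⟩
              have hbot : perpIn f (pairW f e e') r₀ = ⊥ := by
                rw [← Submodule.finrank_eq_zero]
                obtain ⟨S, hS⟩ : ∃ S, S = perpIn f (pairW f e e') r₀ := ⟨_, rfl⟩
                have hle : S ≤ pairW f e e' := hS ▸ fun v hv => ((mem_perpIn hf).mp hv).1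
                have hne : S ≠ pairW f e e' := fun h => hr00 ((mem_perpIn hf).mp
                  (hS ▸ h ▸ hmem r₀ hr0 hr0' : r₀ ∈ perpIn f (pairW f e e') r₀)).2
                have hlt := Submodule.finrank_lt_finrank_of_lt (lt_of_le_of_ne hle hne)
                have hW : Module.finrank F (pairW f e e') ≤ 1 := by
                  have hsup : Module.finrank F (pairW f e e') + 2 ≤ 3 := by
                    have hd : Disjoint (pairW f e e') (Submodule.span F ({e, e'} : Set (Fin k → F))) := by
                      rw [Submodule.disjoint_def]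
                      intro v hv hv'
                      obtain ⟨a, a', rfl⟩ := Submodule.mem_span_pair.mp hv'
                      obtain ⟨q1, q2⟩ := (mem_pairW hf).mp hv
                      rw [hf.bilinear.add_left, hf.bilinear.smul_left, hf.bilinear.smul_left, H.ee, H.pair'] at q1
                      rw [hf.bilinear.add_left, hf.bilinear.smul_left, hf.bilinear.smul_left, H.ee'', H.pair] at q2
                      rw [show a = 0 by linear_combination q2, show a' = 0 by linear_combination q1, zero_smul,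
                        zero_smul, add_zero]
                    have h2' : 2 ≤ Module.finrank F (Submodule.span F ({e, e'} : Set (Fin k → F))) := by
                      have hlt : Submodule.span F {e} < Submodule.span F ({e, e'} : Set (Fin k → F)) := by
                        refine lt_of_le_of_ne (Submodule.span_mono (by simp)) fun h => ?_
                        obtain ⟨a, ha⟩ := Submodule.mem_span_singleton.mp
                          (h ▸ Submodule.subset_span (by simp) : e' ∈ Submodule.span F {e})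
                        have := H.pair
                        rw [← ha, hf.bilinear.smul_right, H.ee, mul_zero] at this
                        exact zero_ne_one this
                      have := Submodule.finrank_lt_finrank_of_lt hlt
                      rw [finrank_span_singleton H.e_ne] at this
                      omega
                    have := Submodule.finrank_add_finrank_le_of_disjoint hd
                    rw [Module.finrank_fin_fun] at this
                    omega
                  omega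
                subst hS
                omega
              rw [hbot, Submodule.mem_bot] at hwp
              rw [hwp, sym_zero_left hf] at hwz
              exact hwz rfl
            refine Or.inr ?_
            have hr2 : r = (f r r₀ / f r₀ r₀) • r₀ := sub_eq_zero.mp (by rw [← hw, hw0])
            rw [hr2, hf.bilinear.smul_left, hf.bilinear.smul_right]
            exact ⟨(f r r₀ / f r₀ r₀) * f r₀ r₀, by ring⟩
        · obtain ⟨a, m, v, hv, hv', hd⟩ := dec x y
          refine Submodule.mem_span_singleton.mpr ⟨2 * f v r / f r r, ?_⟩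
          have he1 : (eG hf r).val *ᵥ e = -e := eG_perp hf hrr hr
          rw [hd, LinearMap.sub_apply, LinearMap.id_apply, sandL_apply, mul_add, mul_add, add_mul, add_mul,
            Matrix.mul_smul, Matrix.mul_smul, Matrix.smul_mul, Matrix.smul_mul, mul_one, Units.mul_inv,
            conj_outer hf (eG_iso hf r), conj_wd hf (eG_iso hf r), he1, eG_apply hf hrr]
          refine Matrix.ext_iff_mulVec.mpr fun z => ?_
          simp only [smul_mulVec, sub_mulVec, add_mulVec, one_mulVec, wd_mulVec hf, sym_outer hf, sym_neg_right hf,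
            sym_sub_right hf, hf.bilinear.smul_right]
          match_scalars <;> field_simp <;> ring
      push Not at hex
      -- no wedge component
      have hdec : ∀ x y, ∃ a m : F, blk l x y Y = a • 1 + m • outer f e e := fun x y => by
        obtain ⟨a, m, v, hv, hv', hd⟩ := dec x y
        refine ⟨a, m, ?_⟩
        have hv0 : v = 0 := perp_zero hf h2 H.ee H.ee'' H.pair hv hv' fun r hr hr' hrr => by
          have h0 := congrArg (blk l x y) (hex r hr hr' hrr)
          rw [blk_slotMap_same, show blk l x y (0 : Matrix (Idx (t + 1) k) (Idx (t + 1) k) F) = 0 from rfl, hd,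
            LinearMap.sub_apply, LinearMap.id_apply, sandL_apply, mul_add, mul_add, add_mul, add_mul,
            Matrix.mul_smul, Matrix.mul_smul, Matrix.smul_mul, Matrix.smul_mul, mul_one, Units.mul_inv,
            conj_outer hf (eG_iso hf r), conj_wd hf (eG_iso hf r), eG_perp hf hrr hr, eG_apply hf hrr] at h0
          have h1 := congrArg (fun A => f (A *ᵥ e') r) h0
          simp only [smul_mulVec, sub_mulVec, add_mulVec, one_mulVec, wd_mulVec hf, sym_outer hf, sym_neg_right hf,
            sym_sub_right hf, zero_mulVec, sym_zero_left hf, hf.bilinear.add_left, sym_sub_left hf,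
            hf.bilinear.smul_left, hf.bilinear.smul_right, sym_neg_left hf, H.pair', hr, hr', hv'] at h1
          field_simp at h1
          have h3 : 2 * f v r * f r r = 0 := by linear_combination h1
          exact (mul_eq_zero.mp ((mul_eq_zero.mp h3).resolve_right hrr)).resolve_left h2
        rw [hd, hv0, wd, show outer f (0 : Fin k → F) e = 0 from Matrix.ext_iff_mulVec.mpr fun z => by
          simp [sym_outer hf], show outer f e (0 : Fin k → F) = 0 from Matrix.ext_iff_mulVec.mpr fun z => by
          simp [sym_outer hf, sym_zero_right hf], sub_zero, add_zero]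
      obtain ⟨φ, hφ1, ⟨μ, hμ, hφe⟩, hφP⟩ := H.exists_eeOp hI hls
      have hφd : ∀ x y a m, blk l x y Y = a • 1 + m • outer f e e → φ (blk l x y Y) = (m * μ) • outer f e e :=
        fun x y a m hd => by rw [hd, map_add, map_smul, map_smul, hφ1, hφe, smul_zero, zero_add, smul_smul]
      by_cases hne : slotMap l φ Y = 0
      · refine finish LinearMap.id 1 (Or.inl rfl) (by rw [slotMap_id]; exact hY) (by rw [slotMap_id]; exact hY0)
          (fun x y => ?_) hone
        obtain ⟨a, m, hd⟩ := hdec x y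
        have h0 := congrArg (blk l x y) hne
        rw [blk_slotMap_same, hφd x y a m hd, show blk l x y (0 : Matrix (Idx (t + 1) k) (Idx (t + 1) k) F) = 0
          from rfl, smul_eq_zero] at h0
        have hm : m = 0 := (mul_eq_zero.mp (h0.resolve_right ((Fr.Shape.ne_zero H) (Or.inr (Or.inl rfl))))).resolve_right hμ
        rw [LinearMap.id_apply, hd, hm, zero_smul, add_zero]
        exact Submodule.smul_mem _ _ (Submodule.mem_span_singleton_self _)
      · refine finish φ _ (Or.inr (Or.inl rfl)) (hφP Y hY) hne (fun x y => ?_) hcee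
        obtain ⟨a, m, hd⟩ := hdec x y
        rw [hφd x y a m hd]
        exact Submodule.smul_mem _ _ (Submodule.mem_span_singleton_self _)
  obtain ⟨Y, hY, hY0, hYS, hY0', -⟩ := key ((Finset.univ.erase s) \ S₀) (by simp)
    (fun l hl => (Finset.mem_sdiff.mp hl).2)
  obtain ⟨G'', hG''⟩ : ∃ G'' : ∀ l, l ≠ s → Matrix (Fin k) (Fin k) F, ∀ l (hl : l ≠ s),
      (H.Shape (G'' l hl) ∧ ∀ x y, blk l x y Y ∈ Submodule.span F {G'' l hl}) ∧ (l ∈ S₀ → G'' l hl = G₀ l) := by
    refine ⟨fun l hl => if h : l ∈ S₀ then G₀ l else (hYS l (by simp [hl, h])).choose, fun l hl => ?_⟩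
    by_cases h : l ∈ S₀
    · dsimp only; rw [dif_pos h]; exact ⟨⟨(h₀ l h).2.1, hY0' l h⟩, fun _ => rfl⟩
    · dsimp only; rw [dif_neg h]; exact ⟨(hYS l (by simp [hl, h])).choose_spec, fun h' => absurd h' h⟩
  obtain ⟨G', hG', hGb, hGk⟩ : ∃ G' : ∀ l, l ≠ s → Matrix (Fin k) (Fin k) F, (∀ l hl, H.Shape (G' l hl)) ∧
      (∀ l hl, ∀ x y, blk l x y Y ∈ Submodule.span F {G' l hl}) ∧ ∀ l hl, l ∈ S₀ → G' l hl = G₀ l :=
    ⟨G'', fun l hl => (hG'' l hl).1.1, fun l hl => (hG'' l hl).1.2, fun l hl => (hG'' l hl).2⟩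
  obtain ⟨G, hG⟩ : ∃ G : Fin (t + 1) → Matrix (Fin k) (Fin k) F, G = fun l => if h : l = s then b else G' l h :=
    ⟨_, rfl⟩
  obtain ⟨d, hd⟩ := exists_smul_tmat G (fun l => by
    rw [hG]; dsimp only; split_ifs with h
    · exact hI.ne
    · exact Fr.Shape.ne_zero H (hG' l h)) (X := Y) fun l x y => by
    rw [hG]; dsimp only; split_ifs with h
    · subst h; exact hI.block Y hY x y
    · exact hGb l h x y
  refine ⟨d, G, fun h0 => hY0 (by rw [hd, h0, zero_smul]), hd ▸ hY, by rw [hG]; simp, fun l hl => ?_,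
    fun l hl => ?_⟩
  · rw [hG]; dsimp only; rw [dif_neg hl]; exact hG' l hl
  · have hls := (h₀ l hl).1
    rw [hG]; dsimp only; rw [dif_neg hls]; exact hGk l hls hl

/-- A non-zero member with all blocks in the commutant gives a monomial. -/
theorem Fr.exists_monomial_of_cmt (hI : Inv H P s b r₀) {Z : Matrix (Idx (t + 1) k) (Idx (t + 1) k) F}
    (hZ : Z ∈ P) (hZ0 : Z ≠ 0) (hblk : ∀ l, l ≠ s → ∀ x y, blk l x y Z ∈ H.cmt) :
    ∃ (d : F) (G : Fin (t + 1) → Matrix (Fin k) (Fin k) F), d ≠ 0 ∧ d • tmat G ∈ P ∧ G s = b ∧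
      ∀ l, l ≠ s → H.Shape (G l) := by
  obtain ⟨d, G, h1, h2, h3, h4, -⟩ := H.exists_monomial_keep hI hZ hZ0 hblk ∅ (fun _ => 1)
    fun l hl => absurd hl (Finset.notMem_empty l)
  exact ⟨d, G, h1, h2, h3, h4⟩

/-- A non-trivial invariant group contains a monomial. -/
theorem Fr.exists_monomial (hI : Inv H P s b r₀) (hP : P ≠ ⊥) :
    ∃ (d : F) (G : Fin (t + 1) → Matrix (Fin k) (Fin k) F), d ≠ 0 ∧ d • tmat G ∈ P ∧ G s = b ∧
      ∀ l, l ≠ s → H.Shape (G l) := by
  classical
  have hf := C.sym
  have h2 := C.two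
  obtain ⟨p, hp⟩ := CharP.exists F
  haveI : Fact p.Prime := ⟨CharP.char_is_prime F p⟩
  haveI : Finite (Matrix (Idx (t + 1) k) (Idx (t + 1) k) F) :=
    inferInstanceAs (Finite (Idx (t + 1) k → Idx (t + 1) k → F))
  obtain ⟨W, hW⟩ : ∃ W : Submodule F (Fin k → F), ∀ y, y ∈ W ↔ f e y = 0 :=
    ⟨{ carrier := {y | f e y = 0}
       zero_mem' := sym_zero_right hf e
       add_mem' := fun {a b} ha hb => by
        change f e (a + b) = 0
        rw [hf.bilinear.add_right, show f e a = 0 from ha, show f e b = 0 from hb, add_zero]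
       smul_mem' := fun c a ha => by
        change f e (c • a) = 0
        rw [hf.bilinear.smul_right, show f e a = 0 from ha, mul_zero] }, fun y => Iff.rfl⟩
  haveI : Finite W := Finite.of_injective _ Subtype.val_injective
  obtain ⟨gm, hgm⟩ : ∃ gm : (Fin (t + 1) → W) → Matrix (Idx (t + 1) k) (Idx (t + 1) k) F,
      ∀ w, gm w = tmat fun l => if l = s then 1 else eA f e (w l).1 := ⟨_, fun w => rfl⟩
  have hgmul : ∀ w w', gm w * gm w' = gm (w + w') := fun w w' => by
    rw [hgm, hgm, hgm, tmat_mul]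
    congr 1
    funext l
    by_cases hl : l = s
    · simp [hl]
    · simp only [hl, if_false, Pi.add_apply, Submodule.coe_add]
      exact eA_mul hf h2 H.ee ((hW _).mp (w l).2) ((hW _).mp (w' l).2)
  have hg0 : gm 0 = 1 := by
    rw [hgm, ← tmat_one]
    congr 1
    funext l
    simp [eA_zero hf]
  have hsingle : ∀ l, l ≠ s → ∀ y : W, gm (Pi.single l y) = emb l (eA f e y.1) := fun l hl y => by
    rw [hgm, emb_eq_tmat]
    congr 1
    funext m
    by_cases hm : m = l
    · subst hm; simp [hl]
    · by_cases hms : m = s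
      · subst hms; simp [hm]
      · simp [hm, hms, eA_zero hf]
  have hmemP : ∀ w, ∀ Z ∈ P, gm w * Z * gm (-w) ∈ P := by
    intro w
    suffices h : ∀ S : Finset (Fin (t + 1)), ∀ Z ∈ P,
        gm (∑ l ∈ S, Pi.single l (w l)) * Z * gm (-∑ l ∈ S, Pi.single l (w l)) ∈ P by
      have := h Finset.univ
      rwa [Finset.univ_sum_single w] at this
    intro S
    induction S using Finset.induction_on with
    | empty => intro Z hZ; simpa [hg0] using hZ
    | insert l S hl ih =>
      intro Z hZ
      rw [Finset.sum_insert hl, neg_add_rev, ← hgmul, ← hgmul, ← mul_assoc, mul_assoc (gm (Pi.single l (w l))),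
        mul_assoc (gm (Pi.single l (w l)))]
      by_cases hls : l = s
      · have e0 : gm (Pi.single l (w l)) = 1 ∧ gm (-Pi.single l (w l)) = 1 := by
          constructor <;> rw [hgm, ← tmat_one] <;> congr 1 <;> funext m <;> by_cases hm : m = s <;>
            simp [hm, hls, eA_zero hf]
        rw [e0.1, e0.2, one_mul, mul_one, mul_assoc]
        simpa [mul_assoc] using ih Z hZ
      · have h1 := hI.sq l hls _ (eU_mem hf h2 e (w l).1) _ (ih Z hZ)
        rw [eU_val hf h2 H.ee ((hW _).mp (w l).2), eU_inv_val C H.ee ((hW _).mp (w l).2), ← emb_sand] at h1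
        rw [show -Pi.single (M := fun _ => W) l (w l) = Pi.single l (-w l) from by
          funext m
          by_cases hm : m = l
          · subst hm; simp
          · simp [hm],
          hsingle l hls, hsingle l hls]
        simpa [mul_assoc] using h1
  have hpow : ∀ {A : Type _} [AddCommGroup A] [Module F A] (x : A), p • x = 0 := fun x => by
    rw [← Nat.cast_smul_eq_nsmul F, CharP.cast_eq_zero, zero_smul]
  obtain ⟨Z, hZ, hZ0, hfix⟩ := exists_fixed_point (p := p) (fun x => hpow x) (W := Fin (t + 1) → W)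
    (fun x => hpow x) hP (fun w Z => gm w * Z * gm (-w)) (fun Z => by simp [hg0])
    (fun w w' Z _ => by rw [← hgmul, neg_add_rev, ← hgmul]; simp only [mul_assoc])
    (fun w => by simp) hmemP
  refine H.exists_monomial_of_cmt hI hZ hZ0 fun l hl x y z hz => ?_
  have h := hfix (Pi.single l (⟨z, (hW z).mpr hz⟩ : W))
  have h1 : emb l (eA f e z) * Z = Z * emb l (eA f e z) := by
    have h' : gm (Pi.single l (⟨z, (hW z).mpr hz⟩ : W)) * Z = Z * gm (Pi.single l (⟨z, (hW z).mpr hz⟩ : W)) := by
      conv_rhs => rw [← h]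
      rw [mul_assoc, hgmul, neg_add_cancel, hg0, mul_one]
    rwa [hsingle l hl] at h'
  have e1 : slotMap l (sandL (eA f e z) 1) Z = slotMap l (sandL 1 (eA f e z)) Z := by
    rw [← emb_sand, ← emb_sand, TWMax.emb_one, one_mul, mul_one, h1]
  have := congrArg (blk l x y) e1
  rwa [blk_slotMap_same, blk_slotMap_same, sandL_apply, sandL_apply, mul_one, one_mul] at this

end CfsgLib.Classical22.OPow
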