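/-
The additive groups of shears at a singular vector in one slot.
-/
import Cfsg.Agent.Lib.Classical22.OrthPower.Mono

set_option autoImplicit false
set_option linter.unusedSectionVars false
set_option linter.unusedSimpArgs false

namespace CfsgLib.Classical22.OPow

open Matrix CfsgLib.Transvec CfsgLib.Classical22.TensorMax CfsgLib.Classical22.TensorMax.SympO
open CfsgLib.Classical22.TensorMax.SpO (sym_outer sym_zero_left sym_zero_right exists_value)
open CfsgLib.Classical22.TensorMax.OO (pairW mem_pairW nd_pairW finrank_pairW)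
open CfsgLib.Classical22.TWMax (Idx pv tmat tmat_mul emb emb_mul emb_one slotEl slotEl_val tGL TWData mat_ext_pv
  tmat_mulVec)
open scoped MatrixGroups

variable {F : Type*} [Field F] {t k : ℕ} {f : (Fin k → F) → (Fin k → F) → F}
  {M : Subgroup (GL (Idx (t + 1) k) F)}

/-- `1 + Z` lies in the group. -/
def Mem (M : Subgroup (GL (Idx (t + 1) k) F)) (Z : Matrix (Idx (t + 1) k) (Idx (t + 1) k) F) : Prop :=
  ∃ g ∈ M, g.val = 1 + Z

lemma mem_conj {g : GL (Idx (t + 1) k) F} (hg : g ∈ M) {Z : Matrix (Idx (t + 1) k) (Idx (t + 1) k) F}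
    (h : Mem M Z) : Mem M (g.val * Z * g⁻¹.val) := by
  obtain ⟨x, hx, hxv⟩ := h
  refine ⟨g * x * g⁻¹, M.mul_mem (M.mul_mem hg hx) (M.inv_mem hg), ?_⟩
  rw [Units.val_mul, Units.val_mul, hxv, mul_add, add_mul, mul_one, Units.mul_inv]

lemma mem_slot_conj {m : Fin (t + 1)} {B : GL (Fin k) F} (hB : slotEl m B ∈ M)
    {Z : Matrix (Idx (t + 1) k) (Idx (t + 1) k) F} (h : Mem M Z) : Mem M (slotMap m (sandL B.val B⁻¹.val) Z) := by
  have h1 := mem_conj hB h
  have e : (slotEl m B)⁻¹.val = emb m B⁻¹.val := by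
    refine left_inv_eq_right_inv (b := (slotEl m B)⁻¹.val) (a := (slotEl m B).val) (Units.inv_mul _) ?_
    rw [slotEl_val, ← emb_mul, Units.mul_inv, emb_one]
  rwa [e, slotEl_val, emb_sand] at h1

/-- Conjugation of a monomial by an element of the tensor wreath group. -/
lemma conj_tmat {g : GL (Idx (t + 1) k) F} {σ : Equiv.Perm (Fin (t + 1))} {gs : Fin (t + 1) → GL (Fin k) F}
    (hg : TWData g σ gs) (G : Fin (t + 1) → Matrix (Fin k) (Fin k) F) :
    g.val * tmat G * g⁻¹.val = tmat fun m => (gs m).val * G (σ m) * (gs m)⁻¹.val := by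
  refine mat_ext_pv fun xs => ?_
  rw [← mulVec_mulVec, ← mulVec_mulVec, hg.inv xs, tmat_mulVec, hg, tmat_mulVec]
  simp [mulVec_mulVec, mul_assoc]

/-- The group commutator of two square-zero elements. -/
lemma mem_comm {A B : Matrix (Idx (t + 1) k) (Idx (t + 1) k) F} (hA : Mem M A) (hB : Mem M B) (hA2 : A * A = 0)
    (hB2 : B * B = 0) (hABA : A * B * A = 0) (hBAB : B * A * B = 0) : Mem M (A * B - B * A) := by
  obtain ⟨g, hg, hgv⟩ := hA
  obtain ⟨h, hh, hhv⟩ := hB
  refine ⟨g * h * g⁻¹ * h⁻¹, M.mul_mem (M.mul_mem (M.mul_mem hg hh) (M.inv_mem hg)) (M.inv_mem hh), ?_⟩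
  have eg : g⁻¹.val = 1 - A := left_inv_eq_right_inv (Units.inv_mul g)
    (by rw [hgv, add_mul, one_mul, mul_sub, mul_one, hA2]; abel)
  have eh : h⁻¹.val = 1 - B := left_inv_eq_right_inv (Units.inv_mul h)
    (by rw [hhv, add_mul, one_mul, mul_sub, mul_one, hB2]; abel)
  rw [Units.val_mul, Units.val_mul, Units.val_mul, hgv, hhv, eg, eh]
  simp only [mul_add, add_mul, mul_sub, sub_mul, mul_one, one_mul]
  have e1 : A * B * A * B = 0 := by rw [hABA, zero_mul]
  have e2 : A * B * B = 0 := by rw [mul_assoc, hB2, mul_zero]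
  simp only [hA2, hB2, hABA, hBAB, e1, e2, zero_mul, sub_zero, add_zero, zero_add, zero_sub]
  abel

variable {C : Ctx f M} {e e' : Fin k → F} {c : F} (H : Fr C e e' c)
include H

lemma Fr.ee_mul : outer f e e * outer f e' e' * outer f e e = outer f e e :=
  Matrix.ext_iff_mulVec.mpr fun x => by
    simp [← mulVec_mulVec, sym_outer C.sym, mulVec_smul, H.pair, H.pair']

lemma Fr.outer_ne : outer f e e ≠ 0 := Fr.Shape.ne_zero H (Or.inr (Or.inl rfl))

/-- Matrices with all blocks at slot `l` on the singular square multiply to zero. -/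
lemma Fr.shear_mul {l : Fin (t + 1)} {Z Z' : Matrix (Idx (t + 1) k) (Idx (t + 1) k) F}
    (hZ : ∀ x y, blk l x y Z ∈ Submodule.span F {outer f e e})
    (hZ' : ∀ x y, blk l x y Z' ∈ Submodule.span F {outer f e e}) : Z * Z' = 0 := by
  have e1 : slotMap l (sandL (outer f e e * outer f e' e') 1) Z' = Z' := by
    rw [slotMap_smul_id l (c := 1) (fun x y => ?_), one_smul]
    obtain ⟨a, ha⟩ := Submodule.mem_span_singleton.mp (hZ' x y)
    rw [← ha, map_smul, sandL_apply, mul_one, H.ee_mul, one_smul]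
  have e2 : slotMap l (sandL 1 (outer f e' e' * outer f e e)) Z = Z := by
    rw [slotMap_smul_id l (c := 1) (fun x y => ?_), one_smul]
    obtain ⟨a, ha⟩ := Submodule.mem_span_singleton.mp (hZ x y)
    rw [← ha, map_smul, sandL_apply, one_mul, ← mul_assoc, H.ee_mul, one_smul]
  have h0 : outer f e' e' * outer f e e * (outer f e e * outer f e' e') = 0 := by
    rw [mul_assoc (outer f e' e'), ← mul_assoc (outer f e e) (outer f e e),
      (wd_outer C.sym H.ee (show f e e = 0 from H.ee)).2.2, zero_mul, mul_zero]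
  rw [← e1, ← e2, ← emb_sand, ← emb_sand, emb_one, one_mul, mul_one, mul_assoc,
    ← mul_assoc (emb l _) (emb l _), ← emb_mul, h0, show emb l (0 : Matrix (Fin k) (Fin k) F) = 0 by
      ext x y; simp [emb], zero_mul, mul_zero]

/-- The shears at the singular vector in slot `l`. -/
def Fr.PS (l : Fin (t + 1)) : AddSubgroup (Matrix (Idx (t + 1) k) (Idx (t + 1) k) F) where
  carrier := {Z | Mem M Z ∧ ∀ x y, blk l x y Z ∈ Submodule.span F {outer f e e}}
  zero_mem' := ⟨⟨1, M.one_mem, by simp⟩, fun x y => Submodule.zero_mem _⟩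
  add_mem' {Z Z'} := by
    rintro ⟨⟨g, hg, hgv⟩, hb⟩ ⟨⟨g', hg', hgv'⟩, hb'⟩
    refine ⟨⟨g * g', M.mul_mem hg hg', ?_⟩, fun x y => ?_⟩
    · rw [Units.val_mul, hgv, hgv', add_mul, one_mul, mul_add, mul_one, H.shear_mul hb hb']
      abel
    · exact Submodule.add_mem _ (hb x y) (hb' x y)
  neg_mem' {Z} := by
    rintro ⟨⟨g, hg, hgv⟩, hb⟩
    refine ⟨⟨g⁻¹, M.inv_mem hg, ?_⟩, fun x y => Submodule.neg_mem _ (hb x y)⟩
    exact left_inv_eq_right_inv (Units.inv_mul g)
      (by rw [hgv, add_mul, one_mul, mul_add, mul_one, mul_neg, H.shear_mul hb hb]; abel)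

variable [Fintype F]

/-- A vector of the complement in a given square class. -/
lemma Fr.exists_comp (hk : 4 ≤ k) {d : F} (hd : d ≠ 0) : ∃ w, f e w = 0 ∧ f e' w = 0 ∧ f w w = d := by
  obtain ⟨w, hw, hwd⟩ := exists_value C.sym C.two (nd_pairW C.sym H.ee H.ee'' H.pair)
    (by have := finrank_pairW C.sym e e'; omega) d
  obtain ⟨h1, h1'⟩ := (mem_pairW C.sym).mp hw
  exact ⟨w, by rw [C.sym.symm, h1], by rw [C.sym.symm, h1'], hwd⟩

lemma Fr.inv_PS (l : Fin (t + 1)) {r₀ : Fin k → F} (hr : f e r₀ = 0 ∧ f e' r₀ = 0 ∧ f r₀ r₀ ≠ 0) :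
    Inv H (H.PS l) l (outer f e e) r₀ where
  ne := H.outer_ne
  perp := hr
  block Z hZ := hZ.2
  sq m hm B hB Z hZ := ⟨mem_slot_conj (C.sq m B hB) hZ.1, fun x y => blk_slotMap_mem hm.symm _ hZ.2 x y⟩
  pr m hm v hv hcl Z hZ := by
    obtain ⟨w, hw, -, hww, hsq⟩ : ∃ w, f e w = 0 ∧ f e' w = 0 ∧ f w w ≠ 0 ∧ IsSquare (f w w * f v v) := by
      rcases hcl with h5 | h
      · obtain ⟨w, hw, hw', hwv⟩ := H.exists_comp h5 hv
        exact ⟨w, hw, hw', by rwa [hwv], by rw [hwv]; exact ⟨_, rfl⟩⟩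
      · exact ⟨r₀, hr.1, hr.2.1, hr.2.2, by rwa [mul_comm]⟩
    have hg := C.pair' hww hv hsq hm.symm
    refine ⟨?_, fun x y => blk_slotMap_mem hm.symm _ hZ.2 x y⟩
    have hb : ∀ x y, blk l x y (slotMap m (sandL (eG C.sym v).val (eG C.sym v)⁻¹.val) Z) ∈
        Submodule.span F {outer f e e} := fun x y => blk_slotMap_mem hm.symm _ hZ.2 x y
    have h1 := mem_conj hg hZ.1
    have e1 : ∀ (i : Fin (t + 1)) (B : GL (Fin k) F), (slotEl i B)⁻¹.val = emb i B⁻¹.val := fun i B => by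
      refine left_inv_eq_right_inv (b := (slotEl i B)⁻¹.val) (a := (slotEl i B).val) (Units.inv_mul _) ?_
      rw [slotEl_val, ← emb_mul, Units.mul_inv, emb_one]
    rw [_root_.mul_inv_rev, Units.val_mul, Units.val_mul, e1, e1, slotEl_val, slotEl_val] at h1
    have assoc : ∀ A B Z' B' A' : Matrix (Idx (t + 1) k) (Idx (t + 1) k) F,
        A * B * Z' * (B' * A') = A * (B * Z' * B') * A' := fun A B Z' B' A' => by simp only [mul_assoc]
    rw [assoc, emb_sand, emb_sand] at h1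
    rwa [slotMap_smul_id l (c := 1) (fun x y => ?_), one_smul] at h1
    obtain ⟨a, ha⟩ := Submodule.mem_span_singleton.mp (hb x y)
    rw [← ha, map_smul, sandL_apply, conj_outer C.sym (eG_iso C.sym w), eG_perp C.sym hww hw, one_smul,
      ← neg_one_smul F e, outer_smul_left C.sym, outer_smul_right C.sym]
    module

end CfsgLib.Classical22.OPow
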