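/-
A monomial shear yields an Eichler transformation at a pure vector, and then all of them.
-/
import Cfsg.Agent.Lib.Classical22.OrthPower.Shear
import Cfsg.Agent.Lib.Classical22.TensorPower.Cliff

set_option autoImplicit false
set_option linter.unusedSectionVars false
set_option linter.unusedSimpArgs false
set_option maxHeartbeats 800000

namespace CfsgLib.Classical22.OPow

open Matrix CfsgLib.Transvec CfsgLib.Classical22.TensorMax CfsgLib.Classical22.TensorMax.SympO
open CfsgLib.Classical22.TensorMax.SpO (sym_outer sym_zero_left sym_zero_right sym_sub_left sym_sub_right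
  sym_neg_left sym_quad_add)
open CfsgLib.Classical22.TensorMax.OO (eA eA_mulVec sym_neg_right exists_aniso_pairW mem_pairW)
open CfsgLib.Classical22.TWMax (Idx pv tmat tmat_mul slotEl slotEl_data tGL TWData mat_ext_pv tmat_mulVec)
open CfsgLib.Classical22.TPow (tmat_update_add tmat_update_smul tmat_smul)
open scoped MatrixGroups

variable {F : Type*} [Field F] {t k : ℕ} {f : (Fin k → F) → (Fin k → F) → F}
  {M : Subgroup (GL (Idx (t + 1) k) F)}

lemma tmat_zero_at {T : ℕ} {G : Fin T → Matrix (Fin k) (Fin k) F} (l : Fin T) (h : G l = 0) : tmat G = 0 := by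
  ext x y
  exact Finset.prod_eq_zero (Finset.mem_univ l) (by rw [h]; rfl)

/-- The group contains all Eichler transformations at two non-orthogonal singular vectors. -/
def Big (f : (Fin k → F) → (Fin k → F) → F) (M : Subgroup (GL (Idx (t + 1) k) F)) : Prop :=
  ∃ P P', bil f P P = 0 ∧ bil f P' P' = 0 ∧ bil f P P' ≠ 0 ∧ (∀ W, bil f P W = 0 → EI f M P W) ∧
    ∀ W, bil f P' W = 0 → EI f M P' W

variable {C : Ctx f M} {e e' : Fin k → F} {c : F} (H : Fr C e e' c)
include H

/-- The pattern of a seed: one wedge slot, singular squares on `T`. -/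
def Fr.pat (_H : Fr C e e' c) (T : Finset (Fin (t + 1))) (i : Fin (t + 1)) (v : Fin k → F) :
    Fin (t + 1) → Matrix (Fin k) (Fin k) F :=
  fun m => if m = i then wd f e v else if m ∈ T then outer f e e else 1

/-- A seed in the group. -/
def Fr.Pat (H : Fr C e e' c) (T : Finset (Fin (t + 1))) (i : Fin (t + 1)) : Prop :=
  i ∉ T ∧ ∃ d : F, d ≠ 0 ∧ ∃ v, f e v = 0 ∧ f e' v = 0 ∧ f v v ≠ 0 ∧ Mem M (d • tmat (H.pat T i v))

lemma Fr.outer_cross : outer f e e * outer f e' e' = outer f e e' :=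
  Matrix.ext_iff_mulVec.mpr fun x => by
    simp [← mulVec_mulVec, sym_outer C.sym, mulVec_smul, C.sym.bilinear.smul_left, H.pair']

lemma Fr.wd_cross {v w : Fin k → F} (hv : f e v = 0) (hv' : f e' v = 0) (hw : f e w = 0) (hw' : f e' w = 0) :
    wd f e v * wd f e' w = (-(f v w)) • outer f e e' - outer f v w :=
  Matrix.ext_iff_mulVec.mpr fun x => by
    rw [← mulVec_mulVec, sub_mulVec, smul_mulVec, sym_outer C.sym, sym_outer C.sym, wd_mulVec C.sym e' w x,
      mulVec_sub, mulVec_smul, mulVec_smul, wd_mulVec C.sym e v w, wd_mulVec C.sym e v e', C.sym.symm w e, hw,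
      H.pair', hv', C.sym.symm w v]
    module

lemma Fr.wd_cube {v : Fin k → F} (hv : f e v = 0) : wd f e v * wd f e v * wd f e v = 0 := by
  rw [wd_wd C.sym H.ee hv hv, Matrix.smul_mul, (wd_outer C.sym H.ee hv).2.1, smul_zero]

lemma Fr.ee_sq : outer f e e * outer f e e = 0 := (wd_outer C.sym H.ee (show f e e = 0 from H.ee)).2.2

lemma Fr.dd_one {y : Fin k → F} (hy : f e y = 0) (hy' : f e' y = 0) :
    H.dd y (outer f e e') = (-(f y y)) • outer f e e ∧ H.dd y (outer f e' e) = (-(f y y)) • outer f e e := by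
  have h2 := C.two
  have hyn : f e (-y) = 0 := by rw [sym_neg_right C.sym, hy, neg_zero]
  constructor <;>
  · simp only [Fr.dd, LinearMap.sub_apply, LinearMap.add_apply, LinearMap.id_apply, H.sand_outer hy,
      H.sand_outer' hy]
    refine Matrix.ext_iff_mulVec.mpr fun x => ?_
    simp only [sub_mulVec, add_mulVec, smul_mulVec, sym_outer C.sym, eA_mulVec C.sym, H.pair', H.ee, hy, hyn, hy',
      sym_neg_right C.sym, sym_neg_left C.sym, sym_sub_right C.sym, C.sym.bilinear.add_right,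
      C.sym.bilinear.smul_right, neg_zero, neg_neg]
    match_scalars <;> field_simp <;> ring

variable [Fintype F]

lemma Fr.exists_r : ∃ r, f e r = 0 ∧ f e' r = 0 ∧ f r r ≠ 0 := by
  obtain ⟨r, hr, hr', hrr⟩ := exists_aniso_pairW C.sym C.two C.dim H.ee H.ee'' H.pair
  exact ⟨r, by rw [C.sym.symm, hr], by rw [C.sym.symm, hr'], hrr⟩

/-- The difference along an Eichler matrix keeps shears. -/
lemma Fr.dd_mem {l m : Fin (t + 1)} (hm : m ≠ l) {y : Fin k → F} (hy : f e y = 0)
    {Z : Matrix (Idx (t + 1) k) (Idx (t + 1) k) F} (hZ : Z ∈ H.PS l) :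
    slotMap m (H.dd y) Z ∈ H.PS l ∧
      slotMap m (sandL (eA f e y) (eA f e (-y)) - LinearMap.id) Z ∈ H.PS l := by
  obtain ⟨r, hr⟩ := H.exists_r
  have hI := H.inv_PS l hr
  have h1 := hI.sq m hm _ (eU_mem C.sym C.two e y) Z hZ
  have hyn : f e (-y) = 0 := by rw [sym_neg_right C.sym, hy, neg_zero]
  have h3 := hI.sq m hm _ (eU_mem C.sym C.two e (-y)) Z hZ
  rw [eU_val C.sym C.two H.ee hy, eU_inv_val C H.ee hy] at h1
  rw [eU_val C.sym C.two H.ee hyn, eU_inv_val C H.ee hyn, neg_neg] at h3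
  constructor
  · rw [Fr.dd, slotMap_sub, slotMap_sub, slotMap_add, slotMap_id]
    exact (H.PS l).sub_mem ((H.PS l).sub_mem ((H.PS l).add_mem h1 h3) hZ) hZ
  · rw [slotMap_sub, slotMap_id]
    exact (H.PS l).sub_mem h1 hZ

/-- Lowering the mixed slots of a difference of two monomials. -/
lemma Fr.lower_mix {l : Fin (t + 1)} (Q : Finset (Fin (t + 1))) :
    ∀ (G₁ G₂ : Fin (t + 1) → Matrix (Fin k) (Fin k) F) (κ : F), l ∉ Q → κ ≠ 0 →
      (∀ m ∈ Q, G₁ m = outer f e e' ∧ G₂ m = outer f e' e) → κ • (tmat G₁ - tmat G₂) ∈ H.PS l →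
      ∃ κ' : F, κ' ≠ 0 ∧ κ' • (tmat (fun m => if m ∈ Q then outer f e e else G₁ m) -
        tmat (fun m => if m ∈ Q then outer f e e else G₂ m)) ∈ H.PS l := by
  classical
  induction Q using Finset.induction_on with
  | empty => intro G₁ G₂ κ _ hκ _ h; exact ⟨κ, hκ, by simpa using h⟩
  | insert j Q hj ih =>
    intro G₁ G₂ κ hl hκ hG h
    obtain ⟨r, hr, hr', hrr⟩ := H.exists_r
    have h1 := (H.dd_mem (m := j) (fun e => hl (by simp [e])) hr h).1
    rw [map_smul, map_sub, slotMap_tmat, slotMap_tmat, (hG j (by simp)).1, (hG j (by simp)).2,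
      (H.dd_one hr hr').1, (H.dd_one hr hr').2, tmat_update_smul, tmat_update_smul, ← smul_sub, smul_smul] at h1
    obtain ⟨κ', hκ', h'⟩ := ih (Function.update G₁ j (outer f e e)) (Function.update G₂ j (outer f e e)) _
      (fun h => hl (Finset.mem_insert_of_mem h)) (mul_ne_zero hκ (neg_ne_zero.mpr hrr))
      (fun m hm => by
        rw [Function.update_of_ne (ne_of_mem_of_not_mem hm hj), Function.update_of_ne (ne_of_mem_of_not_mem hm hj)]
        exact hG m (Finset.mem_insert_of_mem hm)) h1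
    refine ⟨κ', hκ', ?_⟩
    have key : ∀ G' : Fin (t + 1) → Matrix (Fin k) (Fin k) F,
        (fun m => if m ∈ Q then outer f e e else Function.update G' j (outer f e e) m) =
          fun m => if m ∈ insert j Q then outer f e e else G' m := fun G' => funext fun m => by
      by_cases hm : m = j
      · subst hm; simp [hj]
      · simp [hm]
    rwa [key, key] at h'

/-- The first seed. -/
theorem Fr.pat_of_monomial {s : Fin (t + 1)} {d : F} {G : Fin (t + 1) → Matrix (Fin k) (Fin k) F} (hd : d ≠ 0)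
    (hs : G s = outer f e e) (hG : ∀ l, l ≠ s → H.Shape (G l)) (h : d • tmat G ∈ H.PS s) :
    ∃ T : Finset (Fin (t + 1)), T.Nonempty ∧ ∃ i, H.Pat T i := by
  classical
  have hf := C.sym
  have hw_ne : ∀ v, f e v = 0 → f v v ≠ 0 → wd f e v ≠ outer f e e ∧ wd f e v ≠ 1 := fun v hv hvv => by
    constructor
    · intro h0
      have h1 := wd_wd hf H.ee hv hv
      rw [h0, H.ee_sq, eq_comm, smul_eq_zero] at h1
      exact hvv (neg_eq_zero.mp (h1.resolve_right H.outer_ne))
    · intro h0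
      have h1 := H.wd_cube hv
      rw [h0, one_mul, one_mul] at h1
      exact (Fr.Shape.ne_zero H (Or.inl rfl)) h1
  have hee1 : outer f e e ≠ (1 : Matrix (Fin k) (Fin k) F) := fun h0 => by
    have h1 := H.ee_sq
    rw [h0, one_mul] at h1
    exact (Fr.Shape.ne_zero H (Or.inl rfl)) h1
  have hshape : ∀ l, H.Shape (G l) := fun l => by
    by_cases hl : l = s
    · rw [hl, hs]; exact Or.inr (Or.inl rfl)
    · exact hG l hl
  have hA2 : ∀ (G' : Fin (t + 1) → Matrix (Fin k) (Fin k) F), G' s * G' s = 0 →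
      ∀ a : F, (a • tmat G') * (a • tmat G') = 0 := fun G' h0 a => by
    simp only [Matrix.smul_mul, Matrix.mul_smul, tmat_mul]
    rw [tmat_zero_at s (G := fun i => G' i * G' i) h0, smul_zero, smul_zero]
  -- a wedge slot
  obtain ⟨l₀, v₀, hv₀, -, hvv₀, hl₀⟩ : ∃ l v, f e v = 0 ∧ f e' v = 0 ∧ f v v ≠ 0 ∧ G l = wd f e v := by
    by_contra hno
    push Not at hno
    have hself : ∀ l x y, f (G l *ᵥ x) y = f x (G l *ᵥ y) := fun l x y => by
      rcases hshape l with h0 | h0 | ⟨v, hv, hv', hvv, h0⟩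
      · rw [h0, one_mulVec, one_mulVec]
      · rw [h0, sym_outer hf, sym_outer hf, hf.bilinear.smul_left, hf.bilinear.smul_right, hf.symm e y]; ring
      · exact absurd h0 (hno l v hv hv' hvv)
    obtain ⟨g, hg, hgv⟩ := h.1
    have hZ2 : (d • tmat G) * (d • tmat G) = 0 := hA2 G (by rw [hs, H.ee_sq]) d
    have hne : ∀ l, ∃ x y, f (G l *ᵥ x) y ≠ 0 := fun l => by
      by_contra hc
      push Not at hc
      refine Fr.Shape.ne_zero H (hshape l) (Matrix.ext_iff_mulVec.mpr fun x => ?_)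
      rw [zero_mulVec]
      exact SpO.sym_eq hf fun y => by rw [sym_zero_left hf, hc]
    choose xs ys hxy using hne
    have h1 := C.iso g hg (pv xs) (pv ys)
    rw [hgv, add_mulVec, add_mulVec, one_mulVec, one_mulVec, bil_add_left, bil_add_right, bil_add_right] at h1
    have e1 : ∀ us ws : Fin (t + 1) → Fin k → F, bil f ((d • tmat G) *ᵥ pv us) (pv ws) =
        d * ∏ l, f (G l *ᵥ us l) (ws l) := fun us ws => by
      rw [smul_mulVec, tmat_mulVec, bil_smul_left, bil_pv hf]
    have e2 : bil f (pv xs) ((d • tmat G) *ᵥ pv ys) = d * ∏ l, f (G l *ᵥ xs l) (ys l) := by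
      rw [bil_comm hf, e1]
      congr 1
      exact Finset.prod_congr rfl fun l _ => by rw [hself, hf.symm]
    have e3 : bil f ((d • tmat G) *ᵥ pv xs) ((d • tmat G) *ᵥ pv ys) = 0 := by
      rw [smul_mulVec, smul_mulVec, tmat_mulVec, tmat_mulVec, bil_smul_left, bil_smul_right, bil_pv hf]
      rw [Finset.prod_eq_zero (Finset.mem_univ s), mul_zero, mul_zero]
      rw [hs, sym_outer hf, sym_outer hf, hf.bilinear.smul_left, hf.bilinear.smul_right, H.ee, mul_zero, mul_zero]
    rw [e2, e3, e1, add_zero] at h1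
    have h3 : (2 * d) * ∏ l, f (G l *ᵥ xs l) (ys l) = 0 := by linear_combination h1
    exact mul_ne_zero (mul_ne_zero C.two hd) (Finset.prod_ne_zero_iff.mpr fun l _ => hxy l) h3
  -- the partner
  obtain ⟨S, hS⟩ : ∃ S : Finset (Fin (t + 1)), S = Finset.univ.filter fun l => G l = outer f e e := ⟨_, rfl⟩
  have memS : ∀ l, l ∈ S ↔ G l = outer f e e := fun l => by simp [hS]
  have hl₀S : l₀ ∉ S := fun hc => (hw_ne v₀ hv₀ hvv₀).1 (hl₀ ▸ (memS _).mp hc)
  have hls : l₀ ≠ s := fun e => hl₀S (e ▸ (memS s).mpr hs)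
  obtain ⟨g, hg, hgv⟩ := H.exists_flips C S
  obtain ⟨gs, hgs⟩ : ∃ gs : Fin (t + 1) → GL (Fin k) F,
      gs = fun i => if i ∈ S then eG C.sym (e - c • e') else 1 := ⟨_, rfl⟩
  have hdata : TWData g 1 gs := fun xs => by
    rw [hgv]; congr 1; funext i; by_cases hi : i ∈ S <;> simp [hgs, hi]
  obtain ⟨Gb, hGb⟩ : ∃ Gb : Fin (t + 1) → Matrix (Fin k) (Fin k) F,
      Gb = fun m => if m ∈ S then outer f e' e' else G m := ⟨_, rfl⟩
  obtain ⟨κ, hκ⟩ : ∃ κ : F, κ = ∏ m : Fin (t + 1), if m ∈ S then c * c else 1 := ⟨_, rfl⟩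
  have hκ0 : κ ≠ 0 := hκ ▸ Finset.prod_ne_zero_iff.mpr fun m _ => by
    by_cases hm : m ∈ S <;> simp [hm, H.c_ne]
  have hB : Mem M ((d * κ) • tmat Gb) := by
    have h1 := mem_conj hg h.1
    rw [Matrix.mul_smul, Matrix.smul_mul, conj_tmat hdata] at h1
    convert h1 using 1
    rw [mul_smul, hκ, ← tmat_smul]
    congr 2
    funext m
    by_cases hm : m ∈ S
    · simp only [hgs, hGb, Equiv.Perm.coe_one, id_eq, if_pos hm, (memS m).mp hm]
      rw [conj_outer hf (eG_iso hf _), H.fl_e, outer_smul_left hf, outer_smul_right hf, smul_smul, neg_mul_neg]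
    · simp [hm, hgs, hGb]
  -- the slots outside
  have hout : ∀ m, ∃ q : F, ∃ P, q ≠ 0 ∧ (P = 1 ∨ P = outer f e e) ∧
      (m ∉ S → G m * G m = q • P ∧ (G m ≠ 1 → P = outer f e e)) := fun m => by
    rcases hshape m with h0 | h0 | ⟨v, hv, hv', hvv, h0⟩
    · exact ⟨1, 1, one_ne_zero, Or.inl rfl, fun _ => ⟨by rw [h0, one_mul, one_smul], fun h1 => absurd h0 h1⟩⟩
    · exact ⟨1, 1, one_ne_zero, Or.inl rfl, fun hm => absurd ((memS m).mpr h0) hm⟩
    · exact ⟨-(f v v), outer f e e, neg_ne_zero.mpr hvv, Or.inr rfl,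
        fun _ => ⟨by rw [h0, wd_wd hf H.ee hv hv], fun _ => rfl⟩⟩
  choose q P hq hP hqP using hout
  obtain ⟨π, hπ⟩ : ∃ π : F, π = ∏ m : Fin (t + 1), if m ∈ S then 1 else q m := ⟨_, rfl⟩
  have hπ0 : π ≠ 0 := hπ ▸ Finset.prod_ne_zero_iff.mpr fun m _ => by by_cases hm : m ∈ S <;> simp [hm, hq m]
  obtain ⟨P₁, hP₁⟩ : ∃ P₁ : Fin (t + 1) → Matrix (Fin k) (Fin k) F,
      P₁ = fun m => if m ∈ S then outer f e e' else P m := ⟨_, rfl⟩
  obtain ⟨P₂, hP₂⟩ : ∃ P₂ : Fin (t + 1) → Matrix (Fin k) (Fin k) F,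
      P₂ = fun m => if m ∈ S then outer f e' e else P m := ⟨_, rfl⟩
  have hAB : (d • tmat G) * ((d * κ) • tmat Gb) = (d * (d * κ) * π) • tmat P₁ ∧
      ((d * κ) • tmat Gb) * (d • tmat G) = (d * (d * κ) * π) • tmat P₂ := by
    constructor <;>
    · rw [Matrix.smul_mul, Matrix.mul_smul, tmat_mul, smul_smul, mul_smul (_ : F) π, hπ, ← tmat_smul]
      refine congrArg₂ (· • ·) (by ring) (congrArg tmat (funext fun m => ?_))
      by_cases hm : m ∈ S
      · simp [hGb, hP₁, hP₂, hm, (memS m).mp hm, H.outer_cross, H.swap.outer_cross]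
      · simp [hGb, hP₁, hP₂, hm, (hqP m hm).1]
  have hcomm := mem_comm h.1 hB (hA2 G (by rw [hs, H.ee_sq]) d)
    (hA2 Gb (by rw [hGb]; simp only [(memS s).mpr hs, if_true]; exact H.swap.ee_sq) _)
    (by simp only [Matrix.smul_mul, Matrix.mul_smul, tmat_mul]
        rw [tmat_zero_at l₀ (G := fun i => G i * Gb i * G i) (by simp [hGb, hl₀S, hl₀, H.wd_cube hv₀])]; simp)
    (by simp only [Matrix.smul_mul, Matrix.mul_smul, tmat_mul]
        rw [tmat_zero_at l₀ (G := fun i => Gb i * G i * Gb i) (by simp [hGb, hl₀S, hl₀, H.wd_cube hv₀])]; simp)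
  rw [hAB.1, hAB.2, ← smul_sub] at hcomm
  have hPl : P l₀ = outer f e e := (hqP l₀ hl₀S).2 (by rw [hl₀]; exact (hw_ne v₀ hv₀ hvv₀).2)
  have hPS : (d * (d * κ) * π) • (tmat P₁ - tmat P₂) ∈ H.PS l₀ := by
    refine ⟨hcomm, fun x y => ?_⟩
    refine Submodule.smul_mem (Submodule.span F {outer f e e}) _
      (Submodule.sub_mem (Submodule.span F {outer f e e}) (x := blk l₀ x y (tmat P₁)) (y := blk l₀ x y (tmat P₂))
        ?_ ?_) <;>
    · rw [blk_tmat]
      refine Submodule.smul_mem _ _ ?_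
      simp [hP₁, hP₂, hl₀S, hPl, Submodule.mem_span_singleton_self]
  obtain ⟨κ', hκ', h2⟩ := H.lower_mix (S.erase s) P₁ P₂ _ (fun hc => hl₀S (Finset.mem_of_mem_erase hc))
    (mul_ne_zero (mul_ne_zero hd (mul_ne_zero hd hκ0)) hπ0)
    (fun m hm => by simp [hP₁, hP₂, Finset.mem_of_mem_erase hm]) hPS
  obtain ⟨r, hr, hr', hrr⟩ := H.exists_r
  have h3 := (H.dd_mem (m := s) hls.symm hr h2).2
  obtain ⟨T, hT⟩ : ∃ T : Finset (Fin (t + 1)),
      T = Finset.univ.filter fun m => m ≠ s ∧ (m ∈ S ∨ P m = outer f e e) := ⟨_, rfl⟩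
  refine ⟨T, ⟨l₀, by simp [hT, hls, hPl]⟩, s, by simp [hT], -κ', neg_ne_zero.mpr hκ', r, hr, hr', hrr, ?_⟩
  have hsS : s ∈ S := (memS s).mpr hs
  have e1 : (fun m => if m ∈ S.erase s then outer f e e else P₁ m) =
      Function.update (fun m => if m ∈ S then outer f e e else P m) s (outer f e e') := funext fun m => by
    by_cases hm : m = s
    · subst hm; simp [hP₁, hsS]
    · by_cases hmS : m ∈ S <;> simp [hm, hmS, hP₁]
  have e2 : (fun m => if m ∈ S.erase s then outer f e e else P₂ m) =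
      Function.update (fun m => if m ∈ S then outer f e e else P m) s (outer f e' e) := funext fun m => by
    by_cases hm : m = s
    · subst hm; simp [hP₂, hsS]
    · by_cases hmS : m ∈ S <;> simp [hm, hmS, hP₂]
  rw [e1, e2, map_smul, map_sub, slotMap_tmat, slotMap_tmat, Function.update_self, Function.update_self,
    Function.update_idem, Function.update_idem] at h3
  convert h3.1 using 1
  obtain ⟨δ, hδ⟩ : ∃ δ : Matrix (Fin k) (Fin k) F →ₗ[F] Matrix (Fin k) (Fin k) F,
      δ = sandL (eA f e r) (eA f e (-r)) - LinearMap.id := ⟨_, rfl⟩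
  rw [← hδ]
  have hwd : δ (outer f e e') = (-1 : F) • wd f e r + δ (outer f e' e) := by
    simp only [hδ, LinearMap.sub_apply, LinearMap.id_apply, H.sand_outer hr]
    refine Matrix.ext_iff_mulVec.mpr fun x => ?_
    simp only [sub_mulVec, add_mulVec, smul_mulVec, sym_outer C.sym, wd_mulVec C.sym, eA_mulVec C.sym, H.pair', H.ee,
      hr, hr', sym_sub_right C.sym, C.sym.bilinear.add_right, C.sym.bilinear.smul_right]
    module
  rw [hwd, tmat_update_add, add_sub_cancel_right, tmat_update_smul, smul_smul, mul_neg_one]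
  congr 2
  funext m
  by_cases hm : m = s
  · subst hm; simp [Fr.pat]
  · by_cases hmS : m ∈ S
    · simp [Fr.pat, hm, hT, hmS]
    · rcases hP m with h0 | h0
      · simp [Fr.pat, hm, hT, hmS, h0, hee1.symm]
      · simp [Fr.pat, hm, hT, hmS, h0]

end CfsgLib.Classical22.OPow
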