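/-
Enlarging a seed to all slots: a non-trivial shear gives all Eichler transformations at two pure vectors.
-/
import Cfsg.Agent.Lib.Classical22.OrthPower.Seed

set_option autoImplicit false
set_option linter.unusedSectionVars false
set_option linter.unusedSimpArgs false
set_option maxHeartbeats 800000

namespace CfsgLib.Classical22.OPow

open Matrix CfsgLib.Transvec CfsgLib.Classical22.TensorMax CfsgLib.Classical22.TensorMax.SympO
open CfsgLib.Classical22.TensorMax.SpO (sym_outer sym_zero_left sym_zero_right sym_sub_left sym_sub_right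
  sym_neg_left sym_quad_add sym_quad_smul)
open CfsgLib.Classical22.TensorMax.OO (eA eA_mulVec sym_neg_right)
open CfsgLib.Classical22.TWMax (Idx pv tmat tmat_mul slotEl slotEl_data tGL TWData mat_ext_pv tmat_mulVec)
open CfsgLib.Classical22.TPow (tmat_update_add tmat_update_smul tmat_smul)
open scoped MatrixGroups

variable {F : Type*} [Field F] [Fintype F] {t k : ℕ} {f : (Fin k → F) → (Fin k → F) → F}
  {M : Subgroup (GL (Idx (t + 1) k) F)} {C : Ctx f M} {e e' : Fin k → F} {c : F} (H : Fr C e e' c)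
include H

omit H in
/-- Non-orthogonal singular lines are exchanged by slot elements of the group. -/
lemma exists_move_one (C : Ctx f M) (l : Fin (t + 1)) {z w : Fin k → F} (hz : f z z = 0) (hw : f w w = 0)
    (hzw : f z w ≠ 0) : ∃ A ∈ isoF f, slotEl l A ∈ M ∧ ∃ α : F, A.val *ᵥ z = α • w := by
  obtain ⟨c', hH⟩ := C.exists_fr hz (e' := (f z w)⁻¹ • w) (by rw [sym_quad_smul C.sym, hw, mul_zero])
    (by rw [C.sym.bilinear.smul_right, inv_mul_cancel₀ hzw])
  exact ⟨_, eG_iso C.sym _, (hH.flip l).2, _, by rw [hH.fl_e, smul_smul]⟩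

/-- A singular vector is moved to the line of `e` by a slot element of the group. -/
lemma Fr.exists_move (l : Fin (t + 1)) {z : Fin k → F} (hz : f z z = 0) (hz0 : z ≠ 0) :
    ∃ A ∈ isoF f, slotEl l A ∈ M ∧ ∃ α : F, A.val *ᵥ z = α • e := by
  have hf := C.sym
  by_cases h : f z e = 0
  swap
  · exact exists_move_one C l hz H.ee h
  obtain ⟨r, hr, hr', hzr⟩ := H.dec z
  have hzr' : z = f z e' • e + r := by
    conv_lhs => rw [hzr, h, zero_smul, add_zero]
  obtain ⟨x, hxx, hzx, hxe⟩ : ∃ x, f x x = 0 ∧ f z x ≠ 0 ∧ f x e ≠ 0 := by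
    by_cases ha : f z e' = 0
    · rw [ha, zero_smul, zero_add] at hzr'
      obtain ⟨y, hy, hy', hyr⟩ : ∃ y, f e y = 0 ∧ f e' y = 0 ∧ f z y ≠ 0 := by
        by_contra hc
        push Not at hc
        exact hz0 (perp_zero hf C.two H.ee H.ee'' H.pair (by rw [hzr']; exact hr) (by rw [hf.symm, ha])
          fun y hy hy' _ => hc y hy hy')
      refine ⟨e' + y - (f y y / 2) • e, ?_, ?_, ?_⟩
      · have h2 := C.two
        simp only [sym_sub_left hf, sym_sub_right hf, hf.bilinear.add_left, hf.bilinear.add_right,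
          hf.bilinear.smul_left, hf.bilinear.smul_right, H.ee, H.ee'', H.pair, H.pair', hy, hy', hf.symm y e,
          hf.symm y e']
        field_simp
        ring
      · simpa [sym_sub_right hf, hf.bilinear.add_right, hf.bilinear.smul_right, ha, h] using hyr
      · rw [sym_sub_left hf, hf.bilinear.add_left, hf.bilinear.smul_left, H.pair', H.ee, hf.symm y e, hy, add_zero,
          mul_zero, sub_zero]
        exact one_ne_zero
    · exact ⟨e', H.ee'', ha, by rw [H.pair']; exact one_ne_zero⟩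
  obtain ⟨A, hA, hAM, α, hAz⟩ := exists_move_one C l hz hxx hzx
  obtain ⟨B, hB, hBM, β, hBx⟩ := exists_move_one C l hxx H.ee hxe
  refine ⟨B * A, (isoF f).mul_mem hB hA, ?_, α * β, ?_⟩
  · rw [← TWMax.slotEl_mul]; exact M.mul_mem hBM hAM
  · rw [Transvec.mul_mulVec, hAz, mulVec_smul, hBx, smul_smul]

/-- Elements realising a slot permutation and fixing the line of `e`. -/
lemma Fr.exists_perm (σ : Equiv.Perm (Fin (t + 1))) (hσ : Odd k ∨ k = 4 ∨ Equiv.Perm.sign σ = 1) : ∃ g ∈ M, ∃ gs : Fin (t + 1) → GL (Fin k) F,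
    (∀ m, gs m ∈ isoF f ∧ ∃ α : F, α ≠ 0 ∧ (gs m).val *ᵥ e = α • e) ∧ TWData g σ gs := by
  classical
  obtain ⟨g₀, hg₀, gs₀, hiso, hdata⟩ := C.perm σ hσ
  suffices h : ∀ S : Finset (Fin (t + 1)), ∃ g ∈ M, ∃ gs : Fin (t + 1) → GL (Fin k) F,
      (∀ m, gs m ∈ isoF f ∧ (m ∈ S → ∃ α : F, α ≠ 0 ∧ (gs m).val *ᵥ e = α • e)) ∧ TWData g σ gs by
    obtain ⟨g, hg, gs, h1, h2⟩ := h Finset.univ
    exact ⟨g, hg, gs, fun m => ⟨(h1 m).1, (h1 m).2 (Finset.mem_univ m)⟩, h2⟩
  intro S
  induction S using Finset.induction_on with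
  | empty => exact ⟨g₀, hg₀, gs₀, fun m => ⟨hiso m, fun h => absurd h (Finset.notMem_empty m)⟩, hdata⟩
  | insert j S hj ih =>
    obtain ⟨g, hg, gs, h1, h2⟩ := ih
    have hz : f ((gs j).val *ᵥ e) ((gs j).val *ᵥ e) = 0 := by rw [(h1 j).1, H.ee]
    obtain ⟨A, hA, hAM, α, hAz⟩ := H.exists_move j hz (mulVec_ne_zero _ H.e_ne)
    refine ⟨slotEl j A * g, M.mul_mem hAM hg, _, fun m => ?_, by
      have h3 := (slotEl_data j A).mul h2
      rwa [mul_one] at h3⟩
    by_cases hm : m = j
    · subst hm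
      simp only [Function.update_self, Equiv.Perm.coe_one, id_eq]
      refine ⟨(isoF f).mul_mem hA (h1 m).1, fun _ => ⟨α, fun h0 => ?_, by rw [Transvec.mul_mulVec, hAz]⟩⟩
      rw [h0, zero_smul] at hAz
      exact mulVec_ne_zero _ (mulVec_ne_zero _ H.e_ne) hAz
    · simp only [Function.update_of_ne hm, Equiv.Perm.coe_one, id_eq, one_mul]
      exact ⟨(h1 m).1, fun hmS => (h1 m).2 (by simpa [hm] using hmS)⟩

/-- One more singular square in a seed. -/
theorem Fr.pat_grow {T : Finset (Fin (t + 1))} {i j : Fin (t + 1)} (hT : T.Nonempty) (hji : j ≠ i) (hjT : j ∉ T)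
    (h : H.Pat T i) : H.Pat (insert j T) i := by
  classical
  have hf := C.sym
  obtain ⟨hiT, d, hd, v, hv, hv', hvv, hmem⟩ := h
  obtain ⟨a, haT⟩ := hT
  have hai : a ≠ i := fun e => hiT (e ▸ haT)
  have haj : a ≠ j := fun e => hjT (e ▸ haT)
  obtain ⟨σ, hσ⟩ : ∃ σ : Equiv.Perm (Fin (t + 1)), σ = Equiv.swap i j * Equiv.swap a j := ⟨_, rfl⟩
  have hσa : σ a = i := by rw [hσ, Equiv.Perm.mul_apply, Equiv.swap_apply_left, Equiv.swap_apply_right]
  have hσj : σ j = a := by
    rw [hσ, Equiv.Perm.mul_apply, Equiv.swap_apply_right, Equiv.swap_apply_of_ne_of_ne hai haj]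
  have hσi : σ i = j := by
    rw [hσ, Equiv.Perm.mul_apply, Equiv.swap_apply_of_ne_of_ne hai.symm hji.symm, Equiv.swap_apply_left]
  have hσm : ∀ m, m ≠ a → m ≠ i → m ≠ j → σ m = m := fun m ha hi hj => by
    rw [hσ, Equiv.Perm.mul_apply, Equiv.swap_apply_of_ne_of_ne ha hj, Equiv.swap_apply_of_ne_of_ne hi hj]
  obtain ⟨g, hg, gs, hgs, hdata⟩ := H.exists_perm σ (Or.inr <| Or.inr (by
    rw [hσ, map_mul, Equiv.Perm.sign_swap hji.symm, Equiv.Perm.sign_swap haj]; rfl))
  choose α hα0 hα using fun m => (hgs m).2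
  -- the permuted seed
  obtain ⟨w, hw, hw', hww, hgw⟩ : ∃ w, f e w = 0 ∧ f e' w = 0 ∧ f w w ≠ 0 ∧
      wd f e ((gs a).val *ᵥ v) = wd f e w := by
    obtain ⟨u, hu⟩ : ∃ u, u = (gs a).val *ᵥ v := ⟨_, rfl⟩
    have hue : f e u = 0 := by
      have h1 : α a * f e u = 0 := by rw [← hf.bilinear.smul_left, ← hα, hu, (hgs a).1, hv]
      exact (mul_eq_zero.mp h1).resolve_left (hα0 a)
    obtain ⟨r, hr, hr', hdec⟩ := H.dec u
    rw [show f u e = 0 by rw [hf.symm, hue], zero_smul, add_zero] at hdec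
    refine ⟨r, hr, hr', ?_, ?_⟩
    · have : f u u = f v v := by rw [hu, (hgs a).1]
      rw [hdec, sym_quad_add hf, sym_quad_smul hf, H.ee, hf.bilinear.smul_left, hr, mul_zero, mul_zero, zero_add,
        mul_zero, zero_add] at this
      rwa [this]
    · rw [← hu]
      conv_lhs => rw [hdec]
      refine Matrix.ext_iff_mulVec.mpr fun x => ?_
      simp only [wd_mulVec hf, hf.bilinear.add_right, hf.bilinear.smul_right]
      module
  -- the second seed
  obtain ⟨gf, hgf, hgfv⟩ := H.exists_flips C T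
  obtain ⟨fs, hfs⟩ : ∃ fs : Fin (t + 1) → GL (Fin k) F,
      fs = fun m => if m ∈ T then eG C.sym (e - c • e') else 1 := ⟨_, rfl⟩
  have hfdata : TWData gf 1 fs := fun xs => by
    rw [hgfv]; congr 1; funext m; simp only [hfs, Equiv.Perm.one_apply]; split_ifs <;> simp only [Units.val_one, one_mulVec]
  obtain ⟨Gb, hGb⟩ : ∃ Gb : Fin (t + 1) → Matrix (Fin k) (Fin k) F,
      Gb = fun m => if m = a then wd f e' w else if m = j then outer f e e
        else if m ∈ T then outer f e' e' else 1 := ⟨_, rfl⟩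
  obtain ⟨κ, hκ0, hB⟩ : ∃ κ : F, κ ≠ 0 ∧ Mem M (κ • tmat Gb) := by
    have h1 := mem_conj hgf (mem_conj hg hmem)
    rw [Matrix.mul_smul, Matrix.smul_mul, conj_tmat hdata, Matrix.mul_smul, Matrix.smul_mul, conj_tmat hfdata] at h1
    obtain ⟨qs, hqs⟩ : ∃ qs : Fin (t + 1) → F, qs = fun m =>
        if m = a then α a * c else if m = j then α j * α j
        else if m ∈ T then α m * α m * (c * c) else 1 := ⟨_, rfl⟩
    refine ⟨d * ∏ m, qs m, mul_ne_zero hd (Finset.prod_ne_zero_iff.mpr fun m _ => ?_), ?_⟩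
    · rw [hqs]
      dsimp only
      split_ifs
      · exact mul_ne_zero (hα0 _) H.c_ne
      · exact mul_ne_zero (hα0 _) (hα0 _)
      · exact mul_ne_zero (mul_ne_zero (hα0 _) (hα0 _)) (mul_ne_zero H.c_ne H.c_ne)
      · exact one_ne_zero
    convert h1 using 1
    rw [mul_smul, ← tmat_smul]
    congr 2
    funext m
    simp only [hqs, hGb, hfs, Equiv.Perm.one_apply]
    rcases eq_or_ne m a with rfl | hma
    · rw [if_pos rfl, if_pos rfl, hσa, Fr.pat, if_pos rfl, if_pos haT, conj_wd hf (hgs m).1, hα,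
        wd_smul_left hf, hgw, Matrix.mul_smul, Matrix.smul_mul, conj_wd hf (eG_iso hf _), H.fl_e,
        H.fl_perp hw hw', wd_smul_left hf, smul_smul]
      refine Matrix.ext_iff_mulVec.mpr fun x => ?_
      simp only [smul_mulVec, wd_mulVec hf, sym_neg_right hf]
      module
    rw [if_neg hma, if_neg hma]
    rcases eq_or_ne m j with rfl | hmj
    · rw [if_pos rfl, if_pos rfl, hσj, Fr.pat, if_neg hai, if_pos haT, if_neg hjT, Units.val_one, one_mul,
        inv_one, Units.val_one, mul_one, conj_outer hf (hgs m).1, hα, outer_smul_left hf, outer_smul_right hf,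
        smul_smul]
    rw [if_neg hmj, if_neg hmj]
    rcases eq_or_ne m i with rfl | hmi
    · rw [if_neg hiT, if_neg hiT, hσi, Fr.pat, if_neg hji, if_neg hjT, if_neg hiT, one_smul,
        Units.val_one, one_mul, inv_one, Units.val_one, mul_one, mul_one, Units.mul_inv]
    rw [hσm m hma hmi hmj, Fr.pat, if_neg hmi]
    by_cases hmT : m ∈ T
    · rw [if_pos hmT, if_pos hmT, if_pos hmT, if_pos hmT, conj_outer hf (hgs m).1,
        hα, outer_smul_left hf, outer_smul_right hf, smul_smul, Matrix.mul_smul, Matrix.smul_mul,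
        conj_outer hf (eG_iso hf _), H.fl_e, outer_smul_left hf, outer_smul_right hf, smul_smul, smul_smul]
      congr 1; ring
    · rw [if_neg hmT, if_neg hmT, if_neg hmT, if_neg hmT, one_smul,
        Units.val_one, one_mul, inv_one, Units.val_one, mul_one, mul_one, Units.mul_inv]
  -- the commutator
  have k1 : outer f e e * wd f e' w = -outer f e w ∧ wd f e' w * outer f e e = outer f w e := by
    constructor <;> refine Matrix.ext_iff_mulVec.mpr fun x => ?_
    · rw [← mulVec_mulVec, sym_outer hf, wd_mulVec hf, neg_mulVec, sym_outer hf, sym_sub_left hf,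
        hf.bilinear.smul_left, hf.bilinear.smul_left, hf.symm w e, hw, H.pair']
      module
    · rw [← mulVec_mulVec, sym_outer hf, sym_outer hf, mulVec_smul, wd_mulVec hf, H.pair, hw]
      module
  have k2 : outer f e w * outer f e e = 0 := Matrix.ext_iff_mulVec.mpr fun x => by
    rw [← mulVec_mulVec, sym_outer hf, sym_outer hf, zero_mulVec, hf.bilinear.smul_left, hw, mul_zero, zero_smul]
  have pat_a : H.pat T i v a = outer f e e := by simp [Fr.pat, hai, haT]
  have Gb_j : Gb j = outer f e e := by simp [hGb, haj.symm]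
  have Gb_a : Gb a = wd f e' w := by simp [hGb]
  have hsq : ∀ (G : Fin (t + 1) → Matrix (Fin k) (Fin k) F) m, G m = outer f e e →
      ∀ x : F, (x • tmat G) * (x • tmat G) = 0 := fun G m hm x => by
    simp only [Matrix.smul_mul, Matrix.mul_smul, tmat_mul]
    rw [tmat_zero_at m (G := fun m => G m * G m) (by rw [hm, H.ee_sq])]; simp
  have hcomm := mem_comm hmem hB (hsq _ a pat_a d) (hsq _ j Gb_j κ)
    (by simp only [Matrix.smul_mul, Matrix.mul_smul, tmat_mul]
        rw [tmat_zero_at a (G := fun m => H.pat T i v m * Gb m * H.pat T i v m)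
          (by rw [pat_a, Gb_a, k1.1, neg_mul, k2, neg_zero])]
        simp)
    (by simp only [Matrix.smul_mul, Matrix.mul_smul, tmat_mul]
        rw [tmat_zero_at j (G := fun m => Gb m * H.pat T i v m * Gb m)
          (by simp [Gb_j, Fr.pat, hji, hjT, H.ee_sq])]
        simp)
  obtain ⟨P₁, hP₁⟩ : ∃ P₁ : Fin (t + 1) → Matrix (Fin k) (Fin k) F, P₁ = fun m =>
      if m = i then wd f e v else if m = j then outer f e e else
      if m = a then -outer f e w else if m ∈ T then outer f e e' else 1 := ⟨_, rfl⟩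
  obtain ⟨P₂, hP₂⟩ : ∃ P₂ : Fin (t + 1) → Matrix (Fin k) (Fin k) F, P₂ = fun m =>
      if m = i then wd f e v else if m = j then outer f e e else
      if m = a then outer f w e else if m ∈ T then outer f e' e else 1 := ⟨_, rfl⟩
  have hAB : (d • tmat (H.pat T i v)) * (κ • tmat Gb) = (d * κ) • tmat P₁ ∧
      (κ • tmat Gb) * (d • tmat (H.pat T i v)) = (d * κ) • tmat P₂ := by
    constructor <;>
    · rw [Matrix.smul_mul, Matrix.mul_smul, tmat_mul, smul_smul]
      refine congrArg₂ (· • ·) (by ring) (congrArg tmat (funext fun m => ?_))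
      simp only [Fr.pat, hGb, hP₁, hP₂]
      rcases eq_or_ne m i with rfl | hmi
      · simp [hai.symm, hji.symm, hiT]
      rcases eq_or_ne m j with rfl | hmj
      · simp [hmi, hjT, haj.symm]
      rcases eq_or_ne m a with rfl | hma
      · simp [hmi, hmj, haT, k1.1, k1.2]
      by_cases hmT : m ∈ T
      · simp [hmi, hmj, hma, hmT, H.outer_cross, H.swap.outer_cross]
      · simp [hmi, hmj, hma, hmT]
  rw [hAB.1, hAB.2, ← smul_sub] at hcomm
  have hPS : (d * κ) • (tmat P₁ - tmat P₂) ∈ H.PS j := by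
    refine ⟨hcomm, fun x y => ?_⟩
    refine Submodule.smul_mem (Submodule.span F {outer f e e}) _
      (Submodule.sub_mem (Submodule.span F {outer f e e}) (x := blk j x y (tmat P₁)) (y := blk j x y (tmat P₂))
        ?_ ?_) <;>
    · rw [blk_tmat]
      refine Submodule.smul_mem _ _ ?_
      simp [hP₁, hP₂, hji, Submodule.mem_span_singleton_self]
  obtain ⟨κ', hκ', h2⟩ := H.lower_mix (T.erase a) P₁ P₂ _ (fun h => hjT (Finset.mem_of_mem_erase h))
    (mul_ne_zero hd hκ0)
    (fun m hm => by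
      obtain ⟨hma, hmT⟩ := Finset.mem_erase.mp hm
      have hmi : m ≠ i := fun e => hiT (e ▸ hmT)
      have hmj : m ≠ j := fun e => hjT (e ▸ hmT)
      simp [hP₁, hP₂, hmi, hmj, hma, hmT]) hPS
  have h3 := (H.dd_mem (m := a) haj hw h2).2
  obtain ⟨δ, hδ⟩ : ∃ δ : Matrix (Fin k) (Fin k) F →ₗ[F] Matrix (Fin k) (Fin k) F,
      δ = sandL (eA f e w) (eA f e (-w)) - LinearMap.id := ⟨_, rfl⟩
  rw [← hδ] at h3
  have hδw : δ (-outer f e w) = f w w • outer f e e ∧ δ (outer f w e) = (-f w w) • outer f e e := by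
    constructor <;>
    · simp only [hδ, LinearMap.sub_apply, LinearMap.id_apply, map_neg, H.sand_outer hw]
      refine Matrix.ext_iff_mulVec.mpr fun x => ?_
      have h2 := C.two
      simp only [sub_mulVec, neg_mulVec, smul_mulVec, sym_outer hf, eA_mulVec hf, H.ee, hw, hf.symm w e,
        sym_sub_right hf, hf.bilinear.add_right, hf.bilinear.smul_right]
      match_scalars <;> field_simp <;> ring
  obtain ⟨G0, hG0⟩ : ∃ G0 : Fin (t + 1) → Matrix (Fin k) (Fin k) F, G0 = H.pat (insert j T) i v := ⟨_, rfl⟩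
  have e2 : ∀ P : Fin (t + 1) → Matrix (Fin k) (Fin k) F, (∀ m, m ≠ a → m ∉ T.erase a → P m = G0 m) → ∀ Z,
      Function.update (fun m => if m ∈ T.erase a then outer f e e else P m) a Z = Function.update G0 a Z :=
    fun P hP Z => funext fun m => by
      rcases eq_or_ne m a with rfl | hm
      · simp
      rw [Function.update_of_ne hm, Function.update_of_ne hm]
      by_cases hmT : m ∈ T.erase a
      · rw [if_pos hmT, hG0]
        simp [Fr.pat, show m ≠ i from fun e => hiT (e ▸ Finset.mem_of_mem_erase hmT), Finset.mem_of_mem_erase hmT]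
      · rw [if_neg hmT, hP m hm hmT]
  have e3 : ∀ m, m ≠ a → m ∉ T.erase a → P₁ m = G0 m ∧ P₂ m = G0 m := fun m hma hmT => by
    have hmT' : m ∉ T := fun h => hmT (Finset.mem_erase.mpr ⟨hma, h⟩)
    rcases eq_or_ne m i with rfl | hmi
    · simp [hP₁, hP₂, hG0, Fr.pat]
    rcases eq_or_ne m j with rfl | hmj
    · simp [hP₁, hP₂, hG0, Fr.pat, hmi]
    · simp [hP₁, hP₂, hG0, Fr.pat, hmi, hmj, hma, hmT']
  have e4 : Function.update G0 a (outer f e e) = G0 := Function.update_eq_self_iff.mpr (by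
    simp [hG0, Fr.pat, hai, haT])
  rw [map_smul, map_sub, slotMap_tmat, slotMap_tmat, e2 P₁ fun m h h' => (e3 m h h').1,
    e2 P₂ fun m h h' => (e3 m h h').2, if_neg (Finset.notMem_erase a T), if_neg (Finset.notMem_erase a T),
    show P₁ a = -outer f e w by simp [hP₁, hai, haj], show P₂ a = outer f w e by simp [hP₂, hai, haj], hδw.1, hδw.2,
    tmat_update_smul, tmat_update_smul, e4, ← sub_smul, smul_smul, hG0] at h3
  exact ⟨by simp [hji.symm, hiT], κ' * (f w w - -f w w), mul_ne_zero hκ' (by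
    rw [sub_neg_eq_add, ← two_mul]; exact mul_ne_zero C.two hww), v, hv, hv', hvv, h3.1⟩

/-- A seed gives everything. -/
theorem Fr.big_of_pat (ht : 1 ≤ t) {T : Finset (Fin (t + 1))} {i : Fin (t + 1)} (hT : T.Nonempty)
    (h : H.Pat T i) : Big f M := by
  classical
  have hf := C.sym
  have key : ∀ Q : Finset (Fin (t + 1)), i ∉ Q → H.Pat (T ∪ Q) i := by
    intro Q
    induction Q using Finset.induction_on with
    | empty => intro _; simpa using h
    | insert j Q _ ih =>
      intro hi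
      have h1 := ih fun h => hi (Finset.mem_insert_of_mem h)
      by_cases hj : j ∈ T ∪ Q
      · rwa [Finset.union_insert, Finset.insert_eq_of_mem hj]
      · rw [Finset.union_insert]
        exact H.pat_grow (hT.mono Finset.subset_union_left) (fun e => hi (by simp [e])) hj h1
  obtain ⟨hiT, d, hd, v, hv, hv', hvv, hmem⟩ := key (Finset.univ.erase i) (Finset.notMem_erase i _)
  obtain ⟨j₀, hj₀⟩ : ∃ j : Fin (t + 1), j ≠ i := by
    haveI : Nontrivial (Fin (t + 1)) := Fin.nontrivial_iff_two_le.mpr (by omega)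
    exact exists_ne i
  obtain ⟨E, hE⟩ : ∃ E, E = pv (fun _ : Fin (t + 1) => e) := ⟨_, rfl⟩
  obtain ⟨W, hW⟩ : ∃ W, W = pv (Function.update (fun _ : Fin (t + 1) => e) i v) := ⟨_, rfl⟩
  -- the seed is an Eichler transformation
  have hEI : EI f M E (d • W) := by
    obtain ⟨g, hg, hgv⟩ := hmem
    refine ⟨g, hg, fun x => ?_⟩
    have hWW : bil f W W = 0 := hW ▸ H.bil_sing C j₀ (by rw [Function.update_of_ne hj₀, H.ee])
    rw [bil_smul_left d W (d • W), bil_smul_right d W W, hWW, mul_zero, mul_zero, zero_div, zero_mul, zero_smul,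
      sub_zero, hgv, add_mulVec, one_mulVec, smul_mulVec]
    refine pv_induction (G := Set.univ) (fun y => ⟨y, trivial, 0, trivial, 0, trivial, by simp⟩)
      (P := fun x => x + d • tmat (H.pat (T ∪ Finset.univ.erase i) i v) *ᵥ x =
        x + bil f x E • d • W - bil f x (d • W) • E) ?_ ?_ ?_ ?_ x
    · simp [bil_zero_left]
    · intro a b ha hb
      simp only [mulVec_add, smul_add, bil_add_left]
      linear_combination (norm := module) ha + hb
    · intro a b hb
      simp only [mulVec_smul, bil_smul_left]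
      linear_combination (norm := module) a • hb
    intro xs _
    have e1 : tmat (H.pat (T ∪ Finset.univ.erase i) i v) *ᵥ pv xs =
        bil f (pv xs) E • W - bil f (pv xs) W • E := by
      obtain ⟨π, hπ⟩ : ∃ π : F, π = ∏ m ∈ Finset.univ.erase i, f (xs m) e := ⟨_, rfl⟩
      obtain ⟨Y, hY⟩ : ∃ Y : Fin (t + 1) → Fin k → F, Y = fun m => f (xs m) e • e := ⟨_, rfl⟩
      have e0 : (fun m => H.pat (T ∪ Finset.univ.erase i) i v m *ᵥ xs m) =
          Function.update Y i (f (xs i) e • v - f (xs i) v • e) := funext fun m => by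
        by_cases hm : m = i
        · subst hm; simp [Fr.pat, wd_mulVec hf]
        · simp [Fr.pat, hm, hY, sym_outer hf]
      have e3 : ∀ y, pv (Function.update Y i y) = π • pv (Function.update (fun _ : Fin (t + 1) => e) i y) :=
        fun y => funext fun a => by
          rw [Pi.smul_apply, smul_eq_mul, pv_update, pv_update, hπ, mul_left_comm, ← Finset.prod_mul_distrib, hY]
          simp
      have hb1 : bil f (pv xs) E = f (xs i) e * π := by
        rw [hE, bil_pv hf, hπ, ← Finset.mul_prod_erase _ _ (Finset.mem_univ i)]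
      have hb2 : bil f (pv xs) W = f (xs i) v * π := by
        rw [hW, bil_pv hf, hπ, ← Finset.mul_prod_erase _ _ (Finset.mem_univ i), Function.update_self]
        exact congrArg _ (Finset.prod_congr rfl fun m hm => by rw [Function.update_of_ne (Finset.ne_of_mem_erase hm)])
      rw [tmat_mulVec, e0, pv_sub, pv_smul, pv_smul, e3, e3, Function.update_eq_self, ← hE, ← hW, hb1, hb2]
      module
    rw [e1, bil_smul_right]
    module
  rw [hW, ← pv_smul] at hEI
  have hfull : ∀ W', bil f E W' = 0 → EI f M E W' := fun W' hW' => by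
    rw [hE] at hEI hW' ⊢
    exact H.full_of_seed C ht (i := i) (r := d • v) (by rw [hf.bilinear.smul_right, hv, mul_zero])
      (by rw [hf.bilinear.smul_right, hv', mul_zero])
      (by rw [sym_quad_smul hf]; exact mul_ne_zero (mul_ne_zero hd hd) hvv) hEI hW'
  -- the opposite vector
  obtain ⟨g, hg, hgv⟩ := H.exists_flips C Finset.univ
  have hEE : bil f E E = 0 := hE ▸ H.bil_EE C
  have hgE : g.val *ᵥ E = (∏ _m : Fin (t + 1), (-c)) • pv (fun _ : Fin (t + 1) => e') := by
    rw [hE, hgv]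
    funext a
    rw [Pi.smul_apply, smul_eq_mul, pv, pv, ← Finset.prod_mul_distrib]
    simp [H.fl_e]
  refine ⟨E, g.val *ᵥ E, hEE, by rw [C.iso g hg, hEE], ?_, hfull, fun W' hW' => ?_⟩
  · rw [hgE, hE, bil_smul_right, bil_pv hf]
    exact mul_ne_zero (Finset.prod_ne_zero_iff.mpr fun _ _ => neg_ne_zero.mpr H.c_ne)
      (Finset.prod_ne_zero_iff.mpr fun _ _ => by rw [H.pair]; exact one_ne_zero)
  · refine C.ei_conj hg rfl (Transvec.mulVec_inv_cancel g W') (hfull _ ?_)
    rw [← C.iso g hg, Transvec.mulVec_inv_cancel, hW']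

/-- A non-trivial group of shears gives everything. -/
theorem Fr.big_of_shear (ht : 1 ≤ t) {l : Fin (t + 1)} {Z : Matrix (Idx (t + 1) k) (Idx (t + 1) k) F}
    (hZ : Z ∈ H.PS l) (hZ0 : Z ≠ 0) : Big f M := by
  obtain ⟨r, hr⟩ := H.exists_r
  obtain ⟨d, G, hd, hG, hGl, hsh⟩ := H.exists_monomial (H.inv_PS l hr) (P := H.PS l)
    (fun h => hZ0 (by rw [h] at hZ; exact hZ))
  obtain ⟨T, hT, i, hi⟩ := H.pat_of_monomial hd hGl hsh hG
  exact H.big_of_pat ht hT hi

end CfsgLib.Classical22.OPow
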