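/-
The stabiliser of a singular slot subspace and the matrices pushing its flag down, as matrix identities.
-/
import Cfsg.Agent.Lib.Classical22.OrthPower.Shear

set_option autoImplicit false
set_option linter.unusedSectionVars false
set_option linter.unusedSimpArgs false

namespace CfsgLib.Classical22.OPow

open Matrix CfsgLib.Transvec CfsgLib.Classical22.TensorMax CfsgLib.Classical22.TensorMax.SympO
open CfsgLib.Classical22.TensorMax.SpO (sym_outer sym_zero_left sym_zero_right sym_sub_left sym_sub_right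
  sym_neg_left sym_gram_mul_inv)
open CfsgLib.Classical22.TensorMax.OO (eA eA_mulVec sym_neg_right)
open CfsgLib.Classical22.TWMax (Idx pv tmat tmat_mulVec tmat_mul tmat_one emb emb_mul emb_one emb_add emb_smul
  emb_comm emb_mulVec_pv embL slotEl slotEl_val single_eq_pv)
open CfsgLib.Classical22.TPow (pG)
open scoped MatrixGroups

variable {F : Type*} [Field F] {T k : ℕ}

lemma blk_ext (l : Fin T) {X Y : Matrix (Idx T k) (Idx T k) F} (h : ∀ x y, blk l x y X = blk l x y Y) : X = Y := by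
  ext x y
  rw [← blk_same l x y X, ← blk_same l x y Y, h]

lemma emb_left (l : Fin T) (A : Matrix (Fin k) (Fin k) F) (Z : Matrix (Idx T k) (Idx T k) F) :
    emb l A * Z = slotMap l (sandL A 1) Z := by rw [← emb_sand, emb_one, mul_one]

lemma emb_right (l : Fin T) (A : Matrix (Fin k) (Fin k) F) (Z : Matrix (Idx T k) (Idx T k) F) :
    Z * emb l A = slotMap l (sandL 1 A) Z := by rw [← emb_sand, emb_one, one_mul]

lemma blk_left (l : Fin T) (A : Matrix (Fin k) (Fin k) F) (Z : Matrix (Idx T k) (Idx T k) F) (x y : Idx T k) :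
    blk l x y (emb l A * Z) = A * blk l x y Z := by
  rw [emb_left, blk_slotMap_same, sandL_apply, mul_one]

lemma blk_right (l : Fin T) (A : Matrix (Fin k) (Fin k) F) (Z : Matrix (Idx T k) (Idx T k) F) (x y : Idx T k) :
    blk l x y (Z * emb l A) = blk l x y Z * A := by
  rw [emb_right, blk_slotMap_same, sandL_apply, one_mul]

lemma blk_zero (l : Fin T) (x y : Idx T k) : blk l x y (0 : Matrix (Idx T k) (Idx T k) F) = 0 := rfl

lemma emb_zero (l : Fin T) : emb l (0 : Matrix (Fin k) (Fin k) F) = 0 := (embL l).map_zero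

lemma emb_sub (l : Fin T) (A B : Matrix (Fin k) (Fin k) F) : emb l (A - B) = emb l A - emb l B :=
  (embL l).map_sub A B

variable {f : (Fin k → F) → (Fin k → F) → F}

section Dual
variable (hf : Cfsg.Geo.IsSymmetricForm f)
include hf

lemma emb_dual {A B : Matrix (Fin k) (Fin k) F} (h : ∀ x y, f (A *ᵥ x) y = f x (B *ᵥ y)) (l : Fin T)
    (v w : Idx T k → F) : bil f (emb l A *ᵥ v) w = bil f v (emb l B *ᵥ w) := by
  classical
  have hu : ∀ z : Fin k → F, ∃ a ∈ (Set.univ : Set (Fin k → F)), ∃ b ∈ (Set.univ : Set (Fin k → F)),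
      ∃ c ∈ (Set.univ : Set (Fin k → F)), z = a + b + c :=
    fun z => ⟨z, trivial, 0, trivial, 0, trivial, by simp⟩
  refine pv_induction hu (P := fun v => ∀ w, bil f (emb l A *ᵥ v) w = bil f v (emb l B *ᵥ w)) ?_ ?_ ?_ ?_ v w
  · intro w; rw [mulVec_zero, bil_zero_left, bil_zero_left]
  · intro a b ha hb w; rw [mulVec_add, bil_add_left, bil_add_left, ha, hb]
  · intro c a ha w; rw [mulVec_smul, bil_smul_left, bil_smul_left, ha]
  intro xs _ w
  refine pv_induction hu (P := fun w => bil f (emb l A *ᵥ pv xs) w = bil f (pv xs) (emb l B *ᵥ w)) ?_ ?_ ?_ ?_ w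
  · rw [mulVec_zero, bil_zero_right, bil_zero_right]
  · intro a b ha hb; rw [mulVec_add, bil_add_right, bil_add_right, ha, hb]
  · intro c a ha; rw [mulVec_smul, bil_smul_right, bil_smul_right, ha]
  intro ys _
  rw [emb_mulVec_pv, emb_mulVec_pv, bil_pv hf, bil_pv hf]
  refine Finset.prod_congr rfl fun i _ => ?_
  by_cases hi : i = l
  · subst hi; rw [Function.update_self, Function.update_self, h]
  · rw [Function.update_of_ne hi, Function.update_of_ne hi]

lemma outer_dual (a b x y : Fin k → F) : f (outer f a b *ᵥ x) y = f x (outer f b a *ᵥ y) := by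
  rw [sym_outer hf, sym_outer hf, hf.bilinear.smul_left, hf.bilinear.smul_right, hf.symm a y]
  ring

lemma bil_nd {v : Idx T k → F} (h : ∀ w, bil f v w = 0) : v = 0 := by
  have hu : IsUnit (pG T f).det := by
    refine Matrix.isUnit_det_of_right_inverse (B := tmat fun _ => (gram f)⁻¹) ?_
    rw [pG, tmat_mul]
    simp only [sym_gram_mul_inv hf, tmat_one]
  funext i
  have h1 := h ((pG T f)⁻¹ *ᵥ Pi.single i 1)
  rwa [bil, mulVec_mulVec, Matrix.mul_nonsing_inv _ hu, one_mulVec, single_dotProduct, one_mul] at h1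

lemma mat_nd {X : Matrix (Idx T k) (Idx T k) F} (h : ∀ v w, bil f (X *ᵥ v) w = 0) : X = 0 :=
  Matrix.ext_iff_mulVec.mpr fun v => by rw [zero_mulVec]; exact bil_nd hf (h v)

end Dual

variable {t : ℕ} {M : Subgroup (GL (Idx (t + 1) k) F)}

lemma Ctx.inv_dual (C : Ctx f M) {g : GL (Idx (t + 1) k) F} (hg : g ∈ M) (v w : Idx (t + 1) k → F) :
    bil f (g.val *ᵥ v) w = bil f v (g⁻¹.val *ᵥ w) := by
  conv_lhs => rw [← Transvec.mulVec_inv_cancel g w, C.iso g hg]

variable {C : Ctx f M} {e e' : Fin k → F} {c : F} (H : Fr C e e' c)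
include H

/-- The projection on the singular slot subspace. -/
def Fr.pe (_H : Fr C e e' c) (s : Fin (t + 1)) : Matrix (Idx (t + 1) k) (Idx (t + 1) k) F := emb s (outer f e e')

/-- The dual projection. -/
def Fr.qe (_H : Fr C e e' c) (s : Fin (t + 1)) : Matrix (Idx (t + 1) k) (Idx (t + 1) k) F := emb s (outer f e' e)

lemma Fr.P_idem : outer f e e' * outer f e e' = outer f e e' ∧ outer f e' e * outer f e' e = outer f e' e ∧
    outer f e' e * outer f e e' = 0 ∧ outer f e e' * outer f e' e = 0 := by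
  refine ⟨?_, ?_, ?_, ?_⟩ <;> refine Matrix.ext_iff_mulVec.mpr fun x => ?_ <;>
    simp [← mulVec_mulVec, sym_outer C.sym, mulVec_smul, C.sym.bilinear.smul_left, H.pair, H.pair', H.ee, H.ee'',
      zero_mulVec]

variable {s : Fin (t + 1)}

lemma Fr.pe_pe : H.pe s * H.pe s = H.pe s := by rw [Fr.pe, ← emb_mul, H.P_idem.1]
lemma Fr.qe_qe : H.qe s * H.qe s = H.qe s := by rw [Fr.qe, ← emb_mul, H.P_idem.2.1]
lemma Fr.qe_pe : H.qe s * H.pe s = 0 := by rw [Fr.qe, Fr.pe, ← emb_mul, H.P_idem.2.2.1, emb_zero]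
lemma Fr.pe_qe : H.pe s * H.qe s = 0 := by rw [Fr.qe, Fr.pe, ← emb_mul, H.P_idem.2.2.2, emb_zero]

lemma Fr.qe_dual (v w : Idx (t + 1) k → F) : bil f (H.qe s *ᵥ v) w = bil f v (H.pe s *ᵥ w) :=
  emb_dual C.sym (outer_dual C.sym e' e) s v w

/-- The element maps the singular slot subspace to itself. -/
def Fr.Stab (H : Fr C e e' c) (s : Fin (t + 1)) (y : GL (Idx (t + 1) k) F) : Prop :=
  y.val * H.pe s = H.pe s * y.val * H.pe s

/-- The element fixes the singular slot subspace pointwise. -/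
def Fr.Fix (H : Fr C e e' c) (s : Fin (t + 1)) (g : GL (Idx (t + 1) k) F) : Prop := g.val * H.pe s = H.pe s

/-- The matrix pushes the flag of the singular slot subspace down. -/
structure Fr.Rad (H : Fr C e e' c) (s : Fin (t + 1)) (Z : Matrix (Idx (t + 1) k) (Idx (t + 1) k) F) : Prop where
  right : Z * H.pe s = 0
  left : H.qe s * Z = 0
  mid : (1 - H.pe s) * Z * (1 - H.qe s) = 0

/-- The matrix maps the whole space to the singular slot subspace, through the quotient by its perpendicular. -/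
def Fr.EE (H : Fr C e e' c) (s : Fin (t + 1)) (Z : Matrix (Idx (t + 1) k) (Idx (t + 1) k) F) : Prop :=
  H.pe s * Z = Z ∧ Z * H.qe s = Z

lemma Fr.stab_mul {y z : GL (Idx (t + 1) k) F} (hy : H.Stab s y) (hz : H.Stab s z) : H.Stab s (y * z) := by
  rw [Fr.Stab, Units.val_mul] at *
  calc y.val * z.val * H.pe s = y.val * (H.pe s * z.val * H.pe s) := by rw [mul_assoc, hz]
    _ = (y.val * H.pe s) * (z.val * H.pe s) := by simp only [mul_assoc]
    _ = H.pe s * y.val * (H.pe s * z.val * H.pe s) := by rw [hy]; simp only [mul_assoc]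
    _ = H.pe s * (y.val * z.val) * H.pe s := by rw [← hz]; simp only [mul_assoc]

lemma Fr.stab_one : H.Stab s 1 := by rw [Fr.Stab, Units.val_one, one_mul, mul_one, H.pe_pe]

lemma Fr.Fix.stab {g : GL (Idx (t + 1) k) F} (h : H.Fix s g) : H.Stab s g := by
  rw [Fr.Fix] at h
  rw [Fr.Stab, mul_assoc, h, H.pe_pe]

lemma Fr.stab_inv [Fintype F] {y : GL (Idx (t + 1) k) F} (hy : H.Stab s y) : H.Stab s y⁻¹ := by
  haveI : Finite (GL (Idx (t + 1) k) F) := Finite.of_injective _ Units.val_injective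
  have hp : ∀ n : ℕ, H.Stab s (y ^ n) := fun n => by
    induction n with
    | zero => rw [pow_zero]; exact H.stab_one
    | succ n ih => rw [pow_succ]; exact H.stab_mul ih hy
  obtain ⟨n, hn⟩ := Nat.exists_eq_add_of_le (orderOf_pos y : 1 ≤ orderOf y)
  have h0 : y ^ orderOf y = 1 := pow_orderOf_eq_one y
  rw [hn, pow_add, pow_one] at h0
  have h1 : y⁻¹ = y ^ n := inv_eq_of_mul_eq_one_right h0
  rw [h1]; exact hp n

lemma Fr.fix_inv {g : GL (Idx (t + 1) k) F} (h : H.Fix s g) : H.Fix s g⁻¹ := by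
  rw [Fr.Fix] at h ⊢
  conv_lhs => rw [← h, ← mul_assoc, Units.inv_mul, one_mul]

lemma Fr.stab_dual [Fintype F] {y : GL (Idx (t + 1) k) F} (hy : y ∈ M) (hs : H.Stab s y) :
    H.qe s * y.val = H.qe s * y.val * H.qe s := by
  refine sub_eq_zero.mp (mat_nd C.sym fun v w => ?_)
  have h1 : y⁻¹.val * H.pe s = H.pe s * y⁻¹.val * H.pe s := H.stab_inv hs
  rw [sub_mulVec, bil_sub_left, ← mulVec_mulVec, ← mulVec_mulVec, ← mulVec_mulVec, H.qe_dual, C.inv_dual hy,
    H.qe_dual, C.inv_dual hy, H.qe_dual]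
  simp only [mulVec_mulVec, ← mul_assoc]
  rw [← h1, sub_self]

lemma Fr.fix_dual {g : GL (Idx (t + 1) k) F} (hg : g ∈ M) (h : H.Fix s g) : H.qe s * g.val = H.qe s := by
  refine sub_eq_zero.mp (mat_nd C.sym fun v w => ?_)
  have h1 : g⁻¹.val * H.pe s = H.pe s := H.fix_inv h
  rw [sub_mulVec, bil_sub_left, ← mulVec_mulVec, H.qe_dual, C.inv_dual hg, mulVec_mulVec, h1, H.qe_dual, sub_self]

lemma Fr.Rad.add {Z Z' : Matrix (Idx (t + 1) k) (Idx (t + 1) k) F} (h : H.Rad s Z) (h' : H.Rad s Z') :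
    H.Rad s (Z + Z') :=
  ⟨by rw [add_mul, h.right, h'.right, add_zero], by rw [mul_add, h.left, h'.left, add_zero],
    by rw [mul_add, add_mul, h.mid, h'.mid, add_zero]⟩

lemma Fr.Rad.neg {Z : Matrix (Idx (t + 1) k) (Idx (t + 1) k) F} (h : H.Rad s Z) : H.Rad s (-Z) :=
  ⟨by rw [neg_mul, h.right, neg_zero], by rw [mul_neg, h.left, neg_zero],
    by rw [mul_neg, neg_mul, h.mid, neg_zero]⟩

lemma Fr.Rad.sub {Z Z' : Matrix (Idx (t + 1) k) (Idx (t + 1) k) F} (h : H.Rad s Z) (h' : H.Rad s Z') :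
    H.Rad s (Z - Z') := sub_eq_add_neg Z Z' ▸ h.add H (h'.neg H)

lemma Fr.EE.add {Z Z' : Matrix (Idx (t + 1) k) (Idx (t + 1) k) F} (h : H.EE s Z) (h' : H.EE s Z') :
    H.EE s (Z + Z') := ⟨by rw [mul_add, h.1, h'.1], by rw [add_mul, h.2, h'.2]⟩

lemma Fr.EE.neg {Z : Matrix (Idx (t + 1) k) (Idx (t + 1) k) F} (h : H.EE s Z) : H.EE s (-Z) :=
  ⟨by rw [mul_neg, h.1], by rw [neg_mul, h.2]⟩

lemma Fr.EE.sub {Z Z' : Matrix (Idx (t + 1) k) (Idx (t + 1) k) F} (h : H.EE s Z) (h' : H.EE s Z') :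
    H.EE s (Z - Z') := sub_eq_add_neg Z Z' ▸ h.add H (h'.neg H)

lemma Fr.ee_zero : H.EE s 0 := ⟨mul_zero _, zero_mul _⟩

lemma Fr.EE.rad {Z : Matrix (Idx (t + 1) k) (Idx (t + 1) k) F} (h : H.EE s Z) : H.Rad s Z :=
  ⟨by rw [← h.2, mul_assoc, H.qe_pe, mul_zero], by rw [← h.1, ← mul_assoc, H.qe_pe, zero_mul],
    by rw [← h.1, ← mul_assoc (1 - H.pe s), sub_mul, one_mul, H.pe_pe, sub_self, zero_mul, zero_mul]⟩

lemma Fr.rad_mul {Z Z' : Matrix (Idx (t + 1) k) (Idx (t + 1) k) F} (h : H.Rad s Z) (h' : H.Rad s Z') :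
    H.EE s (Z * Z') := by
  have e1 : Z * Z' = Z * (1 - H.qe s) * Z' := by rw [mul_sub, sub_mul, mul_one, mul_assoc Z, h'.left, mul_zero, sub_zero]
  have e2 : Z * Z' = Z * (1 - H.pe s) * Z' := by rw [mul_sub, sub_mul, mul_one, h.right, zero_mul, sub_zero]
  constructor
  · have h1 := h.mid
    rw [sub_mul, one_mul, sub_mul, sub_eq_zero] at h1
    conv_rhs => rw [e1, h1]
    rw [e1]
    simp only [mul_assoc]
  · have h1 := h'.mid
    rw [mul_sub, mul_one, sub_eq_zero] at h1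
    conv_rhs => rw [e2, mul_assoc Z, h1]
    rw [e2]
    simp only [mul_assoc]

lemma Fr.rad_ee {Z E : Matrix (Idx (t + 1) k) (Idx (t + 1) k) F} (h : H.Rad s Z) (h' : H.EE s E) :
    Z * E = 0 ∧ E * Z = 0 :=
  ⟨by rw [← h'.1, ← mul_assoc, h.right, zero_mul], by rw [← h'.2, mul_assoc, h.left, mul_zero]⟩

lemma Fr.outer_ee_of {A : Matrix (Fin k) (Fin k) F} :
    outer f e e' * A * outer f e' e = f (A *ᵥ e') e' • outer f e e :=
  Matrix.ext_iff_mulVec.mpr fun x => by
    simp only [← mulVec_mulVec, sym_outer C.sym, mulVec_smul, smul_mulVec, C.sym.bilinear.smul_left, smul_smul,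
      mul_comm]

lemma Fr.outer_cross_sq : outer f e e' * outer f e e = outer f e e ∧ outer f e e * outer f e' e = outer f e e := by
  constructor <;> refine Matrix.ext_iff_mulVec.mpr fun x => ?_ <;>
    simp [← mulVec_mulVec, sym_outer C.sym, mulVec_smul, H.pair, H.pair', C.sym.bilinear.smul_left]

lemma Fr.ee_iff {Z : Matrix (Idx (t + 1) k) (Idx (t + 1) k) F} :
    H.EE s Z ↔ ∀ x y, blk s x y Z ∈ Submodule.span F {outer f e e} := by
  constructor
  · intro h x y
    have h1 : blk s x y Z = outer f e e' * blk s x y Z * outer f e' e := by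
      conv_lhs => rw [← h.2, ← h.1]
      rw [Fr.qe, Fr.pe, blk_right, blk_left]
    rw [h1, H.outer_ee_of]
    exact Submodule.smul_mem _ _ (Submodule.mem_span_singleton_self _)
  · intro h
    constructor <;> refine blk_ext s fun x y => ?_ <;>
      obtain ⟨a, ha⟩ := Submodule.mem_span_singleton.mp (h x y)
    · rw [Fr.pe, blk_left, ← ha, Matrix.mul_smul, H.outer_cross_sq.1]
    · rw [Fr.qe, blk_right, ← ha, Matrix.smul_mul, H.outer_cross_sq.2]

lemma Fr.rad_blk {Z : Matrix (Idx (t + 1) k) (Idx (t + 1) k) F} (h : H.Rad s Z) (x y : Idx (t + 1) k) :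
    blk s x y Z * outer f e e' = 0 ∧ outer f e' e * blk s x y Z = 0 := by
  constructor
  · have h1 := congrArg (blk s x y) h.right
    rwa [Fr.pe, blk_right, blk_zero] at h1
  · have h1 := congrArg (blk s x y) h.left
    rwa [Fr.qe, blk_left, blk_zero] at h1

/-- Conjugation by stabilising elements. -/
theorem Fr.rad_conj [Fintype F] {y : GL (Idx (t + 1) k) F} (hy : y ∈ M) (hs : H.Stab s y)
    {Z : Matrix (Idx (t + 1) k) (Idx (t + 1) k) F} (h : H.Rad s Z) : H.Rad s (y.val * Z * y⁻¹.val) := by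
  have hs' := H.stab_inv hs
  have d := H.stab_dual hy hs
  have d' := H.stab_dual (M.inv_mem hy) hs'
  refine ⟨?_, ?_, ?_⟩
  · calc y.val * Z * y⁻¹.val * H.pe s = y.val * (Z * H.pe s) * y⁻¹.val * H.pe s := by
          rw [mul_assoc _ y⁻¹.val, hs']; simp only [mul_assoc]
      _ = 0 := by rw [h.right, mul_zero, zero_mul, zero_mul]
  · calc H.qe s * (y.val * Z * y⁻¹.val) = H.qe s * y.val * (H.qe s * Z) * y⁻¹.val := by
          conv_lhs => rw [← mul_assoc, ← mul_assoc, d]
          simp only [mul_assoc]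
      _ = 0 := by rw [h.left, mul_zero, zero_mul]
  · have e1 : (1 - H.pe s) * y.val = (1 - H.pe s) * y.val * (1 - H.pe s) := by
      have h0 : (1 - H.pe s) * y.val * H.pe s = 0 := by
        rw [sub_mul, one_mul, sub_mul, ← (show y.val * H.pe s = H.pe s * y.val * H.pe s from hs), sub_self]
      conv_rhs => rw [mul_sub, mul_one, h0, sub_zero]
    have e2 : y⁻¹.val * (1 - H.qe s) = (1 - H.qe s) * y⁻¹.val * (1 - H.qe s) := by
      have h0 : H.qe s * y⁻¹.val * (1 - H.qe s) = 0 := by rw [mul_sub, mul_one, ← d', sub_self]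
      conv_rhs => rw [sub_mul, one_mul, sub_mul, h0, sub_zero]
    calc (1 - H.pe s) * (y.val * Z * y⁻¹.val) * (1 - H.qe s)
        = ((1 - H.pe s) * y.val) * Z * (y⁻¹.val * (1 - H.qe s)) := by simp only [mul_assoc]
      _ = (1 - H.pe s) * y.val * ((1 - H.pe s) * Z * (1 - H.qe s)) * (y⁻¹.val * (1 - H.qe s)) := by
          conv_lhs => rw [e1, e2]
          conv_rhs => rw [e2]
          simp only [mul_assoc]
          rw [← mul_assoc (1 - H.qe s) (1 - H.qe s),
            show (1 - H.qe s) * (1 - H.qe s) = 1 - H.qe s by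
              rw [sub_mul, one_mul, mul_sub, mul_one, H.qe_qe]; abel]
      _ = 0 := by rw [h.mid, mul_zero, zero_mul]

/-- A slot matrix pushing the flag down. -/
lemma Fr.rad_emb {A : Matrix (Fin k) (Fin k) F} (h1 : A * outer f e e' = 0) (h2 : outer f e' e * A = 0)
    (h3 : (1 - outer f e e') * A * (1 - outer f e' e) = 0) : H.Rad s (emb s A) := by
  have e1 : ∀ B : Matrix (Fin k) (Fin k) F, (1 : Matrix (Idx (t + 1) k) (Idx (t + 1) k) F) - emb s B = emb s (1 - B) :=
    fun B => by rw [emb_sub, emb_one]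
  refine ⟨?_, ?_, ?_⟩
  · rw [Fr.pe, ← emb_mul, h1, emb_zero]
  · rw [Fr.qe, ← emb_mul, h2, emb_zero]
  · rw [Fr.pe, Fr.qe, e1, e1, ← emb_mul, ← emb_mul, h3, emb_zero]

lemma Fr.rad_eich {w : Fin k → F} (hw : f e w = 0) :
    H.Rad s ((slotEl s (eU C.sym C.two e w)).val - 1) := by
  rw [slotEl_val, eU_val C.sym C.two H.ee hw, ← emb_one (F := F) (m := k) s, ← emb_sub]
  have hwe : f w e = 0 := by rw [C.sym.symm, hw]
  have hX : ∀ x, (eA f e w - 1) *ᵥ x = f x e • w - f x w • e - (f w w / 2 * f x e) • e := fun x => by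
    rw [sub_mulVec, one_mulVec, eA_mulVec C.sym]; abel
  refine H.rad_emb ?_ ?_ ?_ <;> refine Matrix.ext_iff_mulVec.mpr fun x => ?_
  · rw [← mulVec_mulVec, zero_mulVec, sym_outer C.sym, mulVec_smul, hX, H.ee, hw]
    simp
  · rw [← mulVec_mulVec, zero_mulVec, hX, sym_outer C.sym]
    simp [sym_sub_left C.sym, C.sym.bilinear.smul_left, hwe, H.ee]
  · rw [← mulVec_mulVec, ← mulVec_mulVec, zero_mulVec, hX]
    have hq : f ((1 - outer f e' e) *ᵥ x) e = 0 := by
      rw [sub_mulVec, one_mulVec, sym_outer C.sym, sym_sub_left C.sym, C.sym.bilinear.smul_left, H.pair']; ring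
    rw [hq, sub_mulVec, one_mulVec, sym_outer C.sym]
    simp [sym_sub_left C.sym, sym_neg_left C.sym, C.sym.bilinear.smul_left, H.pair]

/-- The commutator of two radical elements. -/
theorem Fr.mem_comm_rad {g h : GL (Idx (t + 1) k) F} (hg : g ∈ M) (hh : h ∈ M)
    {Z N : Matrix (Idx (t + 1) k) (Idx (t + 1) k) F} (eg : g.val = 1 + Z) (eh : h.val = 1 + N) (hZ : H.Rad s Z)
    (hN : H.Rad s N) : H.EE s (Z * N - N * Z) ∧ Mem M (Z * N - N * Z) := by
  have hD : H.EE s (Z * N - N * Z) := (H.rad_mul hZ hN).sub H (H.rad_mul hN hZ)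
  refine ⟨hD, g * h * g⁻¹ * h⁻¹, M.mul_mem (M.mul_mem (M.mul_mem hg hh) (M.inv_mem hg)) (M.inv_mem hh), ?_⟩
  have e : (g * h).val = (1 + (Z * N - N * Z)) * (h * g).val := by
    have hZD : (Z * N - N * Z) * Z = 0 := (H.rad_ee hZ hD).2
    have hND : (Z * N - N * Z) * N = 0 := (H.rad_ee hN hD).2
    have hT : (Z * N - N * Z) * (N * Z) = 0 := by rw [← mul_assoc, hND, zero_mul]
    rw [Units.val_mul, Units.val_mul, eg, eh]
    simp only [mul_add, add_mul, one_mul, mul_one, hZD, hND, hT]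
    abel
  rw [show g * h * g⁻¹ * h⁻¹ = g * h * (h * g)⁻¹ by group, Units.val_mul, e, mul_assoc, Units.mul_inv, mul_one]

end CfsgLib.Classical22.OPow
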