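/-
The centraliser of the signed reflections in all slots but one is the linear group of that slot.
-/
import Cfsg.Agent.Lib.Classical22.OrthPower.Perp
import Cfsg.Agent.Lib.Classical22.OrthPower.Full
import Cfsg.Agent.Lib.Classical22.OrthOrthTensor.Closure

set_option autoImplicit false
set_option linter.unusedSectionVars false
set_option linter.unusedSimpArgs false

namespace CfsgLib.Classical22.OPow

open Matrix CfsgLib.Transvec CfsgLib.Classical22.TensorMax CfsgLib.Classical22.TensorMax.SympO
open CfsgLib.Classical22.TensorMax.SpO (sym_zero_left sym_zero_right sym_sub_left sym_sub_right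
  sym_neg_left sym_quad_add sym_quad_smul)
open CfsgLib.Classical22.TensorMax.OO (eA eA_mulVec eA_iso sym_neg_right mem_of_nonorth)
open CfsgLib.Classical22.TWMax (Idx pv emb slotEl slotEl_apply slotEl_val entry_of_commute su update_self_eq)
open scoped MatrixGroups

variable {F : Type*} [Field F] {T t k : ℕ} {f : (Fin k → F) → (Fin k → F) → F}
  {M : Subgroup (GL (Idx (t + 1) k) F)}

/-- A matrix with scalar blocks in a slot commutes with that slot. -/
lemma commute_of_blk_scalar {l : Fin T} {X : Matrix (Idx T k) (Idx T k) F}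
    (h : ∀ x y, ∃ a : F, blk l x y X = a • 1) (A : Matrix (Fin k) (Fin k) F) : emb l A * X = X * emb l A :=
  blk_ext l fun x y => by
    obtain ⟨a, ha⟩ := h x y
    rw [blk_left, blk_right, ha, Matrix.mul_smul, Matrix.smul_mul, mul_one, one_mul]

/-- A matrix with scalar blocks in all slots but one is a matrix of that slot. -/
theorem exists_emb_of_scalar (hk : 0 < k) (s : Fin T) {X : Matrix (Idx T k) (Idx T k) F}
    (h : ∀ l, l ≠ s → ∀ x y, ∃ a : F, blk l x y X = a • 1) : ∃ B, X = emb s B := by
  classical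
  obtain ⟨o, ho⟩ : ∃ o : Idx T k, o = fun _ => ⟨0, hk⟩ := ⟨_, rfl⟩
  refine ⟨fun i j => X (Function.update o s i) (Function.update o s j), ?_⟩
  have he := fun l hl => entry_of_commute (i := l) (fun a b => commute_of_blk_scalar (h l hl) _)
  ext x y
  by_cases hxy : Function.update x s (y s) = y
  · have hd := update_self_eq.mp hxy
    have key : ∀ S : Finset (Fin T), s ∉ S →
        X x y = X (fun m => if m ∈ S then o m else x m) (fun m => if m ∈ S then o m else y m) := by
      intro S
      induction S using Finset.induction_on with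
      | empty => intro _; simp
      | insert l S hl ih =>
        intro hs
        have hls : l ≠ s := fun e => hs (by simp [e])
        rw [ih fun e => hs (Finset.mem_insert_of_mem e), ← (he l hls).2 _ _ (by simp [hl, hd l hls]) (o l)]
        congr 1 <;> funext m <;> by_cases hm : m = l <;> simp [hm]
    rw [key (Finset.univ.erase s) (by simp)]
    simp only [emb]
    rw [if_pos hxy]
    congr 1 <;> funext m <;> by_cases hm : m = s <;> simp [hm]
  · simp only [emb]
    rw [if_neg hxy]
    obtain ⟨l, hls, hne⟩ : ∃ l, l ≠ s ∧ x l ≠ y l := by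
      by_contra hc
      push Not at hc
      exact hxy (update_self_eq.mpr hc)
    exact (he l hls).1 x y hne

variable [Fintype F]

/-- A matrix commuting with the admissible signed reflections is scalar. -/
theorem scalar_of_comm (C : Ctx f M) (l : Fin (t + 1)) {A : Matrix (Fin k) (Fin k) F}
    (h : ∀ v, Adm C.sym M l v → A * (eG C.sym v).val = (eG C.sym v).val * A) : ∃ a : F, A = a • 1 := by
  classical
  have hf := C.sym
  have h2 := C.two
  have heig : ∀ v, Adm hf M l v → ∃ a : F, A *ᵥ v = a • v ∧ ∀ w, f (A *ᵥ w) v = a * f w v := by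
    intro v hv
    have h1 : (eG hf v).val *ᵥ (A *ᵥ v) = A *ᵥ v := by
      rw [mulVec_mulVec, ← h v hv, ← mulVec_mulVec, eG_self hf hv.1]
    obtain ⟨a, ha⟩ : ∃ a, a = f (A *ᵥ v) v / f v v := ⟨_, rfl⟩
    have hAv : A *ᵥ v = a • v := by
      rw [eG_apply hf hv.1, sub_eq_iff_eq_add, ← two_smul F (A *ᵥ v)] at h1
      rw [← inv_smul_smul₀ h2 (A *ᵥ v), ← h1, smul_smul, ha]
      congr 1
      field_simp
    refine ⟨a, hAv, fun w => ?_⟩
    obtain ⟨u, hu⟩ : ∃ u, u = w - (f w v / f v v) • v := ⟨_, rfl⟩
    have huv : f u v = 0 := by rw [hu, sym_sub_left hf, hf.bilinear.smul_left, div_mul_cancel₀ _ hv.1, sub_self]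
    have h3 : (eG hf v).val *ᵥ (A *ᵥ u) = -(A *ᵥ u) := by
      rw [mulVec_mulVec, ← h v hv, ← mulVec_mulVec, eG_perp hf hv.1 huv, mulVec_neg]
    rw [eG_apply hf hv.1, sub_eq_neg_self, smul_eq_zero] at h3
    have h4 : f (A *ᵥ u) v = 0 := by
      rcases h3 with h3 | h3
      · exact (mul_eq_zero.mp h3).resolve_left (div_ne_zero h2 hv.1)
      · exact absurd (by rw [h3, sym_zero_left hf]) hv.1
    rw [hu, mulVec_sub, mulVec_smul, hAv, sym_sub_left hf, hf.bilinear.smul_left, hf.bilinear.smul_left,
      sub_eq_zero] at h4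
    have := hv.1
    rw [h4]
    field_simp
  have heq : ∀ (v w : Fin k → F) (a b : F), Adm hf M l v → Adm hf M l w → A *ᵥ v = a • v → A *ᵥ w = b • w → f v w ≠ 0 → a = b := by
    intro v w a b hv hw ha hb hvw
    obtain ⟨b', hb', hbf⟩ := heig w hw
    have h1 := hbf v
    rw [ha, hf.bilinear.smul_left] at h1
    have h3 := congrArg (fun z => f v z) (hb'.symm.trans hb)
    simp only [hf.bilinear.smul_right] at h3
    exact mul_right_cancel₀ hvw (h1.trans h3)
  -- singular vectors are eigenvectors
  have hsing : ∀ e e', f e e = 0 → f e' e' = 0 → f e e' = 1 →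
      ∃ a : F, A *ᵥ e = a • e ∧ A *ᵥ e' = a • e' := by
    intro e e' he he' hp
    obtain ⟨c, H⟩ := C.exists_fr he he' hp
    obtain ⟨r₀, hr₀, hr₀', hrr₀⟩ := H.exists_r
    have hc := H.c_ne
    obtain ⟨v₀, hv₀⟩ : ∃ v, v = e - c • e' := ⟨_, rfl⟩
    have hA₀ : Adm hf M l v₀ := hv₀ ▸ H.flip l
    have hv₀v : f v₀ v₀ = -(2 * c) := by
      rw [hv₀]
      simp only [sym_sub_left hf, sym_sub_right hf, hf.bilinear.smul_left, hf.bilinear.smul_right, he, he', hp,
        H.pair']
      ring
    obtain ⟨r, hr, hr', hrr, hrc⟩ : ∃ r, f e r = 0 ∧ f e' r = 0 ∧ f r r ≠ 0 ∧ c * f r r ≠ -4 := by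
      by_cases h5 : 4 ≤ k
      · obtain ⟨w, hw, hw', hwd⟩ := H.exists_comp h5 (d := -2 / c) (div_ne_zero (neg_ne_zero.mpr h2) hc)
        refine ⟨w, hw, hw', by rw [hwd]; exact div_ne_zero (neg_ne_zero.mpr h2) hc, fun h0 => h2 ?_⟩
        rw [hwd, mul_div_cancel₀ _ hc] at h0
        linear_combination h0
      · have hk3 : k = 3 := C.three_of_lt (by omega)
        have hq : 5 ≤ Fintype.card F := by rw [← Nat.card_eq_fintype_card]; exact C.small hk3
        obtain ⟨a, ha0, ha⟩ : ∃ a : F, a ≠ 0 ∧ a * a * (c * f r₀ r₀) ≠ -4 := by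
          by_contra hno
          push Not at hno
          have hle : ∀ a : F, a ≠ 0 → a = 1 ∨ a = -1 := fun a ha => by
            have h4 : (a * a - 1) * (c * f r₀ r₀) = 0 := by linear_combination hno a ha - hno 1 one_ne_zero
            exact mul_self_eq_one_iff.mp (sub_eq_zero.mp ((mul_eq_zero.mp h4).resolve_right (mul_ne_zero hc hrr₀)))
          have hsub : (Finset.univ : Finset F) ⊆ {0, 1, -1} := fun a _ => by
            by_cases ha : a = 0
            · simp [ha]
            · rcases hle a ha with h0 | h0 <;> simp [h0]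
          have h5' := Finset.card_le_card hsub
          rw [Finset.card_univ] at h5'
          have h3 : ({0, 1, -1} : Finset F).card ≤ 3 := Finset.card_le_three
          omega
        refine ⟨a • r₀, by rw [hf.bilinear.smul_right, hr₀, mul_zero], by rw [hf.bilinear.smul_right, hr₀', mul_zero],
          by rw [sym_quad_smul hf]; exact mul_ne_zero (mul_ne_zero ha0 ha0) hrr₀, ?_⟩
        rw [sym_quad_smul hf]
        exact fun h0 => ha (by linear_combination h0)
    have hmove : ∀ y, f e y = 0 → f e' y = 0 → c * f y y ≠ -4 →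
        ∀ a : F, A *ᵥ v₀ = a • v₀ → A *ᵥ (eA f e y *ᵥ v₀) = a • (eA f e y *ᵥ v₀) := by
      intro y hy hy' hyc a ha
      have hA' : Adm hf M l (eA f e y *ᵥ v₀) := by
        refine C.adm_of_sq hA₀ ?_ ?_ l <;> rw [eA_iso hf h2 he hy]
        · exact hA₀.1
        · exact ⟨_, rfl⟩
      obtain ⟨b, hb, -⟩ := heig _ hA'
      rw [hb, heq v₀ _ a b hA₀ hA' ha hb ?_]
      have hyy : f v₀ (eA f e y *ᵥ v₀) = -(c * (4 + c * f y y)) / 2 := by
        rw [eA_mulVec hf, hv₀]
        simp only [sym_sub_left hf, sym_sub_right hf, hf.bilinear.add_right, hf.bilinear.smul_left,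
          hf.bilinear.smul_right, he, he', hp, H.pair', hy, hy', hf.symm y e, hf.symm y e']
        field_simp
        ring
      rw [hyy]
      refine div_ne_zero (neg_ne_zero.mpr (mul_ne_zero hc fun h0 => hyc ?_)) h2
      linear_combination h0
    obtain ⟨a, ha, -⟩ := heig v₀ hA₀
    have h1 := hmove r hr hr' hrc a ha
    have h1' := hmove (-r) (by rw [sym_neg_right hf, hr, neg_zero]) (by rw [sym_neg_right hf, hr', neg_zero])
      (by rwa [sym_neg_left hf, sym_neg_right hf, neg_neg]) a ha
    have he2 : (c * f r r) • e = eA f e r *ᵥ v₀ + eA f e (-r) *ᵥ v₀ - (2 : F) • v₀ := by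
      rw [eA_mulVec hf, eA_mulVec hf, hv₀]
      simp only [sym_sub_left hf, hf.bilinear.smul_left, he, hp, H.pair', sym_neg_left hf, sym_neg_right hf,
        hf.symm e r, hf.symm r e', hr, hr', hf.symm e' r, neg_zero, neg_neg]
      match_scalars <;> field_simp <;> ring
    have hAe : A *ᵥ e = a • e := by
      have h3 := congrArg (A *ᵥ ·) he2
      simp only [mulVec_smul, mulVec_sub, mulVec_add, h1, h1', ha] at h3
      rw [← smul_comm a, ← smul_add, ← smul_sub, ← he2, smul_comm] at h3
      rwa [(smul_right_injective _ (mul_ne_zero hc hrr)).eq_iff] at h3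
    refine ⟨a, hAe, ?_⟩
    have h4 : c • e' = e - v₀ := by rw [hv₀]; abel
    have h5 := congrArg (A *ᵥ ·) h4
    simp only [mulVec_smul, mulVec_sub, hAe, ha] at h5
    rw [← smul_sub, ← h4, smul_comm a] at h5
    rwa [(smul_right_injective _ hc).eq_iff] at h5
  obtain ⟨e, he0, hee⟩ := SpO.exists_singular_sym hf h2 C.dim
  obtain ⟨e', he', hp, -⟩ := OO.exists_partner_sym hf h2 he0 hee
  obtain ⟨a, hae, -⟩ := hsing e e' hee he' hp
  refine ⟨a, Matrix.ext_iff_mulVec.mpr fun y => ?_⟩
  rw [smul_mulVec, one_mulVec]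
  obtain ⟨S, hS⟩ : ∃ S : Submodule F (Fin k → F), ∀ z, z ∈ S ↔ A *ᵥ z = a • z :=
    ⟨{ carrier := {z | A *ᵥ z = a • z}
       zero_mem' := by simp
       add_mem' := fun {u v} hu hv => by
        change A *ᵥ (u + v) = a • (u + v)
        rw [mulVec_add, show A *ᵥ u = a • u from hu, show A *ᵥ v = a • v from hv, smul_add]
       smul_mem' := fun b u hu => by
        change A *ᵥ (b • u) = a • (b • u)
        rw [mulVec_smul, show A *ᵥ u = a • u from hu, smul_comm] }, fun z => Iff.rfl⟩
  refine (hS y).mp (mem_of_nonorth hf h2 C.dim he0 hee (fun x hx hex => (hS x).mpr ?_) y)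
  obtain ⟨x', hx'⟩ : ∃ x', x' = (f e x)⁻¹ • x := ⟨_, rfl⟩
  obtain ⟨b, hb, hb'⟩ := hsing e x' hee (by rw [hx', sym_quad_smul hf, hx, mul_zero])
    (by rw [hx', hf.bilinear.smul_right, inv_mul_cancel₀ hex])
  have hab : b = a := by
    have := hb.symm.trans hae
    exact smul_left_injective F he0 this
  rw [hx', mulVec_smul, hab, smul_comm a] at hb'
  exact (smul_right_injective _ (inv_ne_zero hex)).eq_iff.mp hb'

/-- The centraliser of the signed reflections in the slots other than `s`. -/
theorem Ctx.slot_of_comm (C : Ctx f M) (s : Fin (t + 1)) {X : Matrix (Idx (t + 1) k) (Idx (t + 1) k) F}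
    (h : ∀ l, l ≠ s → ∀ v, Adm C.sym M l v → X * emb l (eG C.sym v).val = emb l (eG C.sym v).val * X) :
    ∃ B, X = emb s B :=
  exists_emb_of_scalar (by have := C.dim; omega) s fun l hl x y => scalar_of_comm C l fun v hv => by
    rw [← blk_left, ← blk_right, h l hl v hv]

/-- An element commuting with the signed reflections in the slots other than `s` is a slot isometry. -/
theorem Ctx.slotEl_of_comm (C : Ctx f M) (s : Fin (t + 1)) {g : GL (Idx (t + 1) k) F} (hg : g ∈ M)
    (h : ∀ l, l ≠ s → ∀ v, Adm C.sym M l v → g * slotEl l (eG C.sym v) = slotEl l (eG C.sym v) * g) :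
    ∃ B ∈ isoF f, g = slotEl s B := by
  classical
  have hk : 0 < k := by have := C.dim; omega
  obtain ⟨B, hB⟩ := C.slot_of_comm s fun l hl v hv => by
    have := congrArg Units.val (h l hl v hv)
    rwa [Units.val_mul, Units.val_mul, slotEl_val] at this
  obtain ⟨B', hB'⟩ := C.slot_of_comm s (X := g⁻¹.val) fun l hl v hv => by
    have := congrArg Units.val ((Commute.inv_left (h l hl v hv)).eq)
    rwa [Units.val_mul, Units.val_mul, slotEl_val] at this
  have hinj : ∀ A A' : Matrix (Fin k) (Fin k) F, emb s A = emb s A' → A = A' := fun A A' e => by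
    ext i j
    have := congrFun (congrFun e (Function.update (fun _ => ⟨0, hk⟩) s i)) (Function.update (fun _ => ⟨0, hk⟩) s j)
    simpa [emb] using this
  have h1 : B * B' = 1 := hinj _ _ (by rw [TWMax.emb_mul, ← hB, ← hB', Units.mul_inv, TWMax.emb_one])
  have h1' : B' * B = 1 := hinj _ _ (by rw [TWMax.emb_mul, ← hB, ← hB', Units.inv_mul, TWMax.emb_one])
  obtain ⟨G, hG⟩ : ∃ G : GL (Fin k) F, G = ⟨B, B', h1, h1'⟩ := ⟨_, rfl⟩
  have hgG : g = slotEl s G := Units.ext (by rw [slotEl_val, hB, hG])
  refine ⟨G, fun x y => ?_, hgG⟩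
  obtain ⟨e, he0, hee⟩ := SpO.exists_singular_sym C.sym C.two C.dim
  obtain ⟨e', he', hp, -⟩ := OO.exists_partner_sym C.sym C.two he0 hee
  have h2 := C.iso g hg (pv (Function.update (fun _ => e) s x)) (pv (Function.update (fun _ => e') s y))
  rw [hgG, slotEl_apply, slotEl_apply, bil_pv C.sym, bil_pv C.sym] at h2
  simp only [Function.update_idem, Function.update_self] at h2
  have hprod : ∀ u v : Fin k → F, ∏ m, f (Function.update (fun _ : Fin (t + 1) => e) s u m)
      (Function.update (fun _ : Fin (t + 1) => e') s v m) = f u v := fun u v => by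
    rw [Finset.prod_eq_single s (fun m _ hm => by rw [Function.update_of_ne hm, Function.update_of_ne hm, hp])
      (fun hn => absurd (Finset.mem_univ s) hn), Function.update_self, Function.update_self]
  rwa [hprod, hprod] at h2

end CfsgLib.Classical22.OPow
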