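/-
The group of flag-lowering matrices modulo the singular squares, with its wedge components.
-/
import Cfsg.Agent.Lib.Classical22.OrthPower.Schur

set_option autoImplicit false
set_option linter.unusedSectionVars false
set_option linter.unusedSimpArgs false

namespace CfsgLib.Classical22.OPow

open Matrix CfsgLib.Transvec CfsgLib.Classical22.TensorMax CfsgLib.Classical22.TensorMax.SympO
open CfsgLib.Classical22.TensorMax.SpO (sym_outer sym_zero_left sym_zero_right sym_sub_left sym_sub_right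
  sym_neg_left sym_quad_add sym_eq exists_aniso perpIn mem_perpIn finrank_perpIn nd_perpIn)
open CfsgLib.Classical22.TensorMax.OO (eA eA_mulVec sym_neg_right pairW mem_pairW nd_pairW finrank_pairW
  exists_pair_pairW)
open CfsgLib.Classical22.TWMax (Idx pv emb emb_one emb_mul emb_comm slotEl slotEl_val)
open scoped MatrixGroups

variable {F : Type*} [Field F] {T t k : ℕ} {f : (Fin k → F) → (Fin k → F) → F}
  {M : Subgroup (GL (Idx (t + 1) k) F)}

/-- Linear maps in different slots commute. -/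
lemma slotMap_comm {l m : Fin T} (h : l ≠ m) (φ ψ : Matrix (Fin k) (Fin k) F →ₗ[F] Matrix (Fin k) (Fin k) F)
    (X : Matrix (Idx T k) (Idx T k) F) : slotMap l φ (slotMap m ψ X) = slotMap m ψ (slotMap l φ X) := by
  have e : ∀ (n : Fin T) (χ : Matrix (Fin k) (Fin k) F →ₗ[F] Matrix (Fin k) (Fin k) F)
      (Y : Matrix (Idx T k) (Idx T k) F) (x y : Idx T k), slotMap n χ Y x y =
      ∑ i, ∑ j, Y (Function.update x n i) (Function.update y n j) * χ (Matrix.single i j 1) (x n) (y n) := by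
    intro n χ Y x y
    change χ (blk n x y Y) (x n) (y n) = _
    rw [linear_entry χ]
    simp [Matrix.sum_apply, blk]
  ext x y
  simp only [e, Function.update_of_ne h.symm, Function.update_of_ne h, Finset.sum_mul]
  have h4 : ∀ G : Fin k → Fin k → Fin k → Fin k → F,
      ∑ i, ∑ j, ∑ a, ∑ b, G i j a b = ∑ a, ∑ b, ∑ i, ∑ j, G i j a b := fun G => by
    simpa only [Fintype.sum_prod_type] using
      Finset.sum_comm (f := fun (p q : Fin k × Fin k) => G p.1 p.2 q.1 q.2)
        (s := Finset.univ) (t := Finset.univ)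
  rw [h4]
  refine Finset.sum_congr rfl fun i _ => Finset.sum_congr rfl fun j _ => Finset.sum_congr rfl fun a _ =>
    Finset.sum_congr rfl fun b _ => ?_
  simp only [Function.update_comm h]
  ring

/-- The inverse of a slot element. -/
lemma slotEl_inv_val (i : Fin (t + 1)) (B : GL (Fin k) F) : (slotEl i B)⁻¹.val = emb i B⁻¹.val := by
  refine left_inv_eq_right_inv (b := (slotEl i B)⁻¹.val) (a := (slotEl i B).val) (Units.inv_mul _) ?_
  rw [slotEl_val, ← emb_mul, Units.mul_inv, emb_one]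

/-- Conjugation by a slot element. -/
lemma conj_slot (i : Fin (t + 1)) (B : GL (Fin k) F) (Z : Matrix (Idx (t + 1) k) (Idx (t + 1) k) F) :
    (slotEl i B).val * Z * (slotEl i B)⁻¹.val = slotMap i (sandL B.val B⁻¹.val) Z := by
  rw [slotEl_val, slotEl_inv_val, emb_sand]

variable {C : Ctx f M} {e e' : Fin k → F} {c : F} (H : Fr C e e' c) {s : Fin (t + 1)}
include H

/-- The element commutes with the two projections. -/
def Fr.Cm (H : Fr C e e' c) (s : Fin (t + 1)) (y : GL (Idx (t + 1) k) F) : Prop :=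
  y.val * H.pe s = H.pe s * y.val ∧ y.val * H.qe s = H.qe s * y.val

lemma Fr.Cm.inv {y : GL (Idx (t + 1) k) F} (h : H.Cm s y) : H.Cm s y⁻¹ :=
  ⟨(Commute.units_inv_left h.1).eq, (Commute.units_inv_left h.2).eq⟩

lemma Fr.cm_slot {l : Fin (t + 1)} (hl : l ≠ s) (B : GL (Fin k) F) : H.Cm s (slotEl l B) := by
  rw [Fr.Cm, Fr.pe, Fr.qe, slotEl_val]
  exact ⟨emb_comm hl _ _, emb_comm hl _ _⟩

lemma Fr.cm_perp {B : GL (Fin k) F} (hB : B ∈ isoF f) {a b : F} (he : B.val *ᵥ e = a • e)
    (he' : B.val *ᵥ e' = b • e') : H.Cm s (slotEl s B) := by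
  have hf := C.sym
  have hab : a * b = 1 := by
    have h := hB e e'
    rwa [he, he', hf.bilinear.smul_left, hf.bilinear.smul_right, H.pair, mul_one] at h
  have key : ∀ (u v : Fin k → F) (p q : F), p * q = 1 → B.val *ᵥ u = p • u → B.val *ᵥ v = q • v →
      B.val * outer f u v = outer f u v * B.val := fun u v p q hpq hu hv => by
    have h := conj_outer hf hB u v
    rw [hu, hv, outer_smul_left hf, outer_smul_right hf, smul_smul, hpq, one_smul] at h
    calc B.val * outer f u v = B.val * outer f u v * (B⁻¹.val * B.val) := by rw [Units.inv_mul, mul_one]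
      _ = outer f u v * B.val := by rw [← mul_assoc, h]
  rw [Fr.Cm, Fr.pe, Fr.qe, slotEl_val, ← emb_mul, ← emb_mul, ← emb_mul, ← emb_mul,
    key e e' a b hab he he', key e' e b a (by rw [mul_comm, hab]) he' he]
  exact ⟨rfl, rfl⟩

lemma Fr.Cm.rad {y : GL (Idx (t + 1) k) F} (h : H.Cm s y) {Z : Matrix (Idx (t + 1) k) (Idx (t + 1) k) F}
    (hZ : H.Rad s Z) : H.Rad s (y.val * Z * y⁻¹.val) := by
  have h' := h.inv H
  have e1 : (1 - H.pe s) * y.val = y.val * (1 - H.pe s) := by rw [sub_mul, one_mul, mul_sub, mul_one, h.1]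
  have e2 : y⁻¹.val * (1 - H.qe s) = (1 - H.qe s) * y⁻¹.val := by rw [sub_mul, one_mul, mul_sub, mul_one, h'.2]
  refine ⟨?_, ?_, ?_⟩
  · rw [mul_assoc, h'.1, ← mul_assoc, mul_assoc y.val Z, hZ.right, mul_zero, zero_mul]
  · rw [← mul_assoc, ← mul_assoc, ← h.2, mul_assoc y.val, hZ.left, mul_zero, zero_mul]
  · calc (1 - H.pe s) * (y.val * Z * y⁻¹.val) * (1 - H.qe s)
        = ((1 - H.pe s) * y.val) * Z * (y⁻¹.val * (1 - H.qe s)) := by simp only [mul_assoc]
      _ = y.val * ((1 - H.pe s) * Z * (1 - H.qe s)) * y⁻¹.val := by rw [e1, e2]; simp only [mul_assoc]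
      _ = 0 := by rw [hZ.mid, mul_zero, zero_mul]

lemma Fr.Cm.ee {y : GL (Idx (t + 1) k) F} (h : H.Cm s y) {Z : Matrix (Idx (t + 1) k) (Idx (t + 1) k) F}
    (hZ : H.EE s Z) : H.EE s (y.val * Z * y⁻¹.val) := by
  constructor
  · rw [← mul_assoc, ← mul_assoc, ← h.1, mul_assoc y.val, hZ.1]
  · rw [mul_assoc, (h.inv H).2, ← mul_assoc, mul_assoc y.val Z, hZ.2]

/-- The flag-lowering matrices of the group, modulo the singular squares. -/
def Fr.RE (H : Fr C e e' c) (s : Fin (t + 1)) : AddSubgroup (Matrix (Idx (t + 1) k) (Idx (t + 1) k) F) where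
  carrier := {Z | H.Rad s Z ∧ ∃ g ∈ M, H.EE s (g.val - 1 - Z)}
  zero_mem' := ⟨H.ee_zero.rad, 1, M.one_mem, by rw [Units.val_one, sub_self, sub_zero]; exact H.ee_zero⟩
  add_mem' := by
    rintro Z Z' ⟨hZ, g, hg, hE⟩ ⟨hZ', g', hg', hE'⟩
    refine ⟨hZ.add H hZ', g * g', M.mul_mem hg hg', ?_⟩
    have hX : H.Rad s (g.val - 1) := by simpa using (hE.rad).add H hZ
    have hX' : H.Rad s (g'.val - 1) := by simpa using (hE'.rad).add H hZ'
    have h := (hE.add H hE').add H (H.rad_mul hX hX')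
    convert h using 1
    rw [Units.val_mul]
    noncomm_ring
  neg_mem' := by
    rintro Z ⟨hZ, g, hg, hE⟩
    refine ⟨hZ.neg H, g⁻¹, M.inv_mem hg, ?_⟩
    obtain ⟨X, hXdef⟩ : ∃ X, X = g.val - 1 := ⟨_, rfl⟩
    have hX : H.Rad s X := by rw [hXdef]; simpa using (hE.rad).add H hZ
    have hXX := H.rad_mul hX hX
    have hinv : g⁻¹.val = 1 - X + X * X := left_inv_eq_right_inv (Units.inv_mul g) (by
      rw [show g.val = 1 + X by rw [hXdef]; abel,
        show (1 + X) * (1 - X + X * X) = 1 + X * (X * X) by noncomm_ring, (H.rad_ee hX hXX).1, add_zero])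
    have h := (hE.neg H).add H hXX
    convert h using 1
    rw [hinv, hXdef]
    abel

lemma Fr.mem_RE_self {g : GL (Idx (t + 1) k) F} (hg : g ∈ M) (h : H.Rad s (g.val - 1)) : g.val - 1 ∈ H.RE s :=
  ⟨h, g, hg, by rw [sub_self]; exact H.ee_zero⟩

lemma Fr.RE_of_ee {Z E : Matrix (Idx (t + 1) k) (Idx (t + 1) k) F} (hZ : Z ∈ H.RE s) (hE : H.EE s E) :
    Z + E ∈ H.RE s := by
  obtain ⟨hR, g, hg, hg'⟩ := hZ
  refine ⟨hR.add H hE.rad, g, hg, ?_⟩
  convert hg'.sub H hE using 1
  abel

lemma Fr.RE_conj {y : GL (Idx (t + 1) k) F} (hy : y ∈ M) (h : H.Cm s y)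
    {Z : Matrix (Idx (t + 1) k) (Idx (t + 1) k) F} (hZ : Z ∈ H.RE s) : y.val * Z * y⁻¹.val ∈ H.RE s := by
  obtain ⟨hR, g, hg, hE⟩ := hZ
  refine ⟨h.rad H hR, y * g * y⁻¹, M.mul_mem (M.mul_mem hy hg) (M.inv_mem hy), ?_⟩
  convert h.ee H hE using 1
  rw [Units.val_mul, Units.val_mul, mul_sub, mul_sub, sub_mul, sub_mul, mul_one, Units.mul_inv]

/-- Commutators of flag-lowering matrices are shears. -/
theorem Fr.RE_comm {Z Z' : Matrix (Idx (t + 1) k) (Idx (t + 1) k) F} (hZ : Z ∈ H.RE s) (hZ' : Z' ∈ H.RE s) :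
    Z * Z' - Z' * Z ∈ H.PS s := by
  obtain ⟨hR, g, hg, hE⟩ := hZ
  obtain ⟨hR', g', hg', hE'⟩ := hZ'
  obtain ⟨X, hX⟩ : ∃ X, X = g.val - 1 := ⟨_, rfl⟩
  obtain ⟨X', hX'⟩ : ∃ X', X' = g'.val - 1 := ⟨_, rfl⟩
  rw [← hX] at hE
  rw [← hX'] at hE'
  obtain ⟨E, hE0⟩ : ∃ E, E = X - Z := ⟨_, rfl⟩
  obtain ⟨E', hE0'⟩ : ∃ E', E' = X' - Z' := ⟨_, rfl⟩
  rw [← hE0] at hE
  rw [← hE0'] at hE'
  have hXZ : X = Z + E := by rw [hE0]; abel
  have hXZ' : X' = Z' + E' := by rw [hE0']; abel
  obtain ⟨h1, h2⟩ := H.mem_comm_rad hg hg' (Z := X) (N := X') (by rw [hX]; abel) (by rw [hX']; abel)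
    (hXZ ▸ hR.add H hE.rad) (hXZ' ▸ hR'.add H hE'.rad)
  have e : X * X' - X' * X = Z * Z' - Z' * Z := by
    rw [hXZ, hXZ']
    simp only [mul_add, add_mul, (H.rad_ee hR hE').1, (H.rad_ee hR hE').2, (H.rad_ee hR' hE).1, (H.rad_ee hR' hE).2,
      (H.rad_ee hE.rad hE').1, (H.rad_ee hE.rad hE').2, add_zero]
  rw [e] at h1 h2
  exact ⟨h2, H.ee_iff.mp h1⟩

/-- The part along the wedge at `u`. -/
noncomputable def Fr.psi (_H : Fr C e e' c) (u : Fin k → F) :
    Matrix (Fin k) (Fin k) F →ₗ[F] Matrix (Fin k) (Fin k) F where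
  toFun A := (f (A *ᵥ e') u / f u u) • wd f e u
  map_add' A B := by rw [add_mulVec, C.sym.bilinear.add_left, add_div, add_smul]
  map_smul' a A := by rw [smul_mulVec, C.sym.bilinear.smul_left, RingHom.id_apply, smul_smul, mul_div_assoc]

/-- The matrices pushing the singular flag of one slot down. -/
def Fr.frm (H : Fr C e e' c) (A : Matrix (Fin k) (Fin k) F) : Prop :=
  ∃ m : F, ∃ v, f e v = 0 ∧ f e' v = 0 ∧ A = m • outer f e e + wd f e v

lemma Fr.frm_e' {m : F} {v : Fin k → F} (hv' : f e' v = 0) :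
    (m • outer f e e + wd f e v) *ᵥ e' = m • e + v := by
  rw [add_mulVec, smul_mulVec, sym_outer C.sym, wd_mulVec C.sym, H.pair', hv', zero_smul, sub_zero]
  simp

lemma Fr.psi_frm {m : F} {v u : Fin k → F} (hv' : f e' v = 0) (hu : f e u = 0) :
    H.psi u (m • outer f e e + wd f e v) = (f v u / f u u) • wd f e u := by
  change (f ((m • outer f e e + wd f e v) *ᵥ e') u / f u u) • wd f e u = _
  rw [H.frm_e' hv', C.sym.bilinear.add_left, C.sym.bilinear.smul_left, hu, mul_zero, zero_add]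

/-- The difference along a signed reflection in the complement. -/
lemma Fr.eps_diff {l m : F} {v r : Fin k → F} (hr : f e r = 0) (hrr : f r r ≠ 0) :
    l • 1 + m • outer f e e + wd f e v -
        (eG C.sym r).val * (l • 1 + m • outer f e e + wd f e v) * (eG C.sym r)⁻¹.val =
      (2 * f v r / f r r) • wd f e r := by
  have hf := C.sym
  rw [mul_add, mul_add, add_mul, add_mul, Matrix.mul_smul, Matrix.mul_smul, Matrix.smul_mul, Matrix.smul_mul, mul_one,
    Units.mul_inv, conj_outer hf (eG_iso hf r), conj_wd hf (eG_iso hf r), eG_perp hf hrr hr, eG_apply hf hrr]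
  refine Matrix.ext_iff_mulVec.mpr fun z => ?_
  simp only [smul_mulVec, sub_mulVec, add_mulVec, one_mulVec, wd_mulVec hf, sym_outer hf, sym_neg_right hf,
    sym_sub_right hf, hf.bilinear.smul_right]
  match_scalars <;> field_simp <;> ring

lemma Fr.wd_cmt {r : Fin k → F} (hr : f e r = 0) : wd f e r ∈ H.cmt := fun y hy => by
  obtain ⟨h1, h1', -⟩ := wd_outer C.sym H.ee hr
  rw [eA_eq C.sym, add_mul, add_mul, one_mul, wd_wd C.sym H.ee hy hr, Matrix.smul_mul, h1', mul_add, mul_add,
    mul_one, wd_wd C.sym H.ee hr hy, Matrix.mul_smul, h1, C.sym.symm r y]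

lemma Fr.ee_cmt : outer f e e ∈ H.cmt := fun y hy => by
  obtain ⟨h1, h1', h1''⟩ := wd_outer C.sym H.ee hy
  rw [eA_eq C.sym, add_mul, add_mul, one_mul, h1, Matrix.smul_mul, h1'', mul_add, mul_add, mul_one, h1',
    Matrix.mul_smul, h1'']

/-- In dimension three the complement of the pair is a line. -/
lemma Fr.line_of_three (hk : k = 3) {r v : Fin k → F} (hr : f e r = 0) (hr' : f e' r = 0) (hrr : f r r ≠ 0)
    (hv : f e v = 0) (hv' : f e' v = 0) : v = (f v r / f r r) • r := by
  classical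
  have hf := C.sym
  have hli : LinearIndependent F ![e, e', r] := by
    rw [Fintype.linearIndependent_iff]
    intro g hg
    simp only [Fin.sum_univ_three, Matrix.cons_val_zero, Matrix.cons_val_one, Matrix.cons_val_two, Matrix.head_cons,
      Matrix.tail_cons] at hg
    have key : ∀ z, g 0 * f e z + g 1 * f e' z + g 2 * f r z = 0 := fun z => by
      have := congrArg (fun w => f w z) hg
      simpa only [hf.bilinear.add_left, hf.bilinear.smul_left, sym_zero_left hf] using this
    have a1 := key e'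
    have a2 := key e
    have a3 := key r
    rw [H.pair, H.ee'', hf.symm r e', hr'] at a1
    rw [H.ee, H.pair', hf.symm r e, hr] at a2
    rw [hr, hr'] at a3
    simp only [mul_zero, mul_one, add_zero, zero_add, mul_eq_zero, hrr, or_false] at a1 a2 a3
    intro i
    fin_cases i
    exacts [a1, a2, a3]
  have hspan := hli.span_eq_top_of_card_eq_finrank (by simp [hk])
  refine sub_eq_zero.mp (sym_eq hf fun x => ?_)
  rw [sym_zero_left hf]
  have hx : x ∈ Submodule.span F (Set.range ![e, e', r]) := by rw [hspan]; trivial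
  induction hx using Submodule.span_induction with
  | mem x hx =>
    obtain ⟨i, rfl⟩ := hx
    rw [sym_sub_left hf, hf.bilinear.smul_left]
    fin_cases i
    · simp [hf.symm v e, hv, hf.symm r e, hr]
    · simp [hf.symm v e', hv', hf.symm r e', hr']
    · simp [hrr]
  | zero => exact sym_zero_right hf _
  | add x y _ _ hx hy => rw [hf.bilinear.add_right, hx, hy, add_zero]
  | smul a x _ hx => rw [hf.bilinear.smul_right, hx, mul_zero]

variable [Fintype F]

/-- In a plane without singular vectors the vectors of one norm detect the plane. -/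
lemma Fr.perp_adm_four (hk : k = 4) {v : Fin k → F} (hv : f e v = 0) (hv' : f e' v = 0)
    (h : ∀ u, f e u = 0 → f e' u = 0 → f u u = -(2 * c) → f v u = 0) : v = 0 := by
  have hf := C.sym
  have h2 := C.two
  have hfour := C.four hk
  have he := H.e_ne
  -- the plane has no singular vector
  have haniso : ∀ z, f e z = 0 → f e' z = 0 → f z z = 0 → z = 0 := fun z hz hz' hzz => by
    obtain ⟨a, rfl⟩ := Submodule.mem_span_singleton.mp (hfour e z he H.ee hzz hz)
    rw [hf.bilinear.smul_right, H.pair', mul_one] at hz'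
    rw [hz', zero_smul]
  refine haniso v hv hv' ?_
  by_contra hvv
  obtain ⟨u, hu, hue, huv⟩ := H.exists_comp hk.ge (d := -(2 * c)) (neg_ne_zero.mpr (mul_ne_zero h2 H.c_ne))
  have huu : f u u ≠ 0 := by rw [huv]; exact neg_ne_zero.mpr (mul_ne_zero h2 H.c_ne)
  have hvu := h u hu hue huv
  -- the reflection at `v + u` moves `u` off the perpendicular of `v`
  obtain ⟨r, hr⟩ : ∃ r, r = v + u := ⟨_, rfl⟩
  have hrr : f r r = f v v + f u u := by rw [hr, sym_quad_add hf, hvu]; ring
  have hre : f e r = 0 ∧ f e' r = 0 := by simp [hr, hf.bilinear.add_right, hv, hv', hu, hue]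
  have hrr0 : f r r ≠ 0 := fun h0 => by
    have hr0 := haniso r hre.1 hre.2 h0
    refine hvv ?_
    have h1 := congrArg (fun z => f z v) hr0
    simp only [hr, hf.bilinear.add_left, hf.symm u v, hvu, add_zero, sym_zero_left hf] at h1
    exact h1
  have h1 := h ((rG hf r).val *ᵥ u) ?_ ?_ (by rw [rG_iso hf r, huv])
  · have hur : f u r = f u u := by rw [hr, hf.bilinear.add_right, hf.symm u v, hvu, zero_add]
    have hvr : f v r = f v v := by rw [hr, hf.bilinear.add_right, hvu, add_zero]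
    rw [rG_apply hf hrr0, sym_sub_right hf, hf.bilinear.smul_right, hvu, zero_sub, neg_eq_zero, hur, hvr] at h1
    exact mul_ne_zero (mul_ne_zero (div_ne_zero h2 hrr0) huu) hvv h1
  · rw [rG_apply hf hrr0, sym_sub_right hf, hf.bilinear.smul_right, hu, hre.1]; ring
  · rw [rG_apply hf hrr0, sym_sub_right hf, hf.bilinear.smul_right, hue, hre.2]; ring

/-- The vectors of one admissible norm detect the complement. -/
lemma Fr.perp_adm (hk : 4 ≤ k) {v : Fin k → F} (hv : f e v = 0) (hv' : f e' v = 0)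
    (h : ∀ u, f e u = 0 → f e' u = 0 → f u u = -(2 * c) → f v u = 0) : v = 0 := by
  have hf := C.sym
  have h2 := C.two
  have hc := H.c_ne
  rcases hk.lt_or_eq with hk | hk
  swap
  · exact H.perp_adm_four hk.symm hv hv' h
  obtain ⟨p, p', hpp, hpp', hp, hpe, hpe', hp'e, hp'e'⟩ := exists_pair_pairW hf h2 hk H.ee H.ee'' H.pair
  have hP : p ∈ pairW f e e' := (mem_pairW hf).mpr ⟨hpe, hpe'⟩
  have hP' : p' ∈ pairW f e e' := (mem_pairW hf).mpr ⟨hp'e, hp'e'⟩
  have hp'p : f p' p = 1 := by rw [hf.symm, hp]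
  have hu : ∀ z, f z e = 0 → f z e' = 0 → f z p = 0 → f z p' = 0 →
      f v p + -c * (f v p' + f v z - f z z / 2 * f v p) = 0 := by
    intro z hze hze' hzp hzp'
    have := h (p + (-c) • (p' + z - (f z z / 2) • p)) ?_ ?_ ?_
    · simpa only [hf.bilinear.add_right, hf.bilinear.smul_right, sym_sub_right hf] using this
    · simp only [hf.bilinear.add_right, hf.bilinear.smul_right, sym_sub_right hf, hf.symm e p, hf.symm e p',
        hf.symm e z, hpe, hp'e, hze]
      ring
    · simp only [hf.bilinear.add_right, hf.bilinear.smul_right, sym_sub_right hf, hf.symm e' p, hf.symm e' p',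
        hf.symm e' z, hpe', hp'e', hze']
      ring
    · simp only [hf.bilinear.add_left, hf.bilinear.add_right, hf.bilinear.smul_left, hf.bilinear.smul_right,
        sym_sub_left hf, sym_sub_right hf, hpp, hpp', hp, hp'p, hf.symm p z, hf.symm p' z, hzp, hzp']
      field_simp
      ring
  have h0 := hu 0 (sym_zero_left hf _) (sym_zero_left hf _) (sym_zero_left hf _) (sym_zero_left hf _)
  simp only [sym_zero_right hf, zero_div, zero_mul, add_zero, sub_zero] at h0
  have hpair : ∀ z, f z e = 0 → f z e' = 0 → f z p = 0 → f z p' = 0 → f v z = 0 ∧ f z z * f v p = 0 := by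
    intro z hze hze' hzp hzp'
    have a1 := hu z hze hze' hzp hzp'
    have a2 := hu (-z) (by rw [sym_neg_left hf, hze, neg_zero]) (by rw [sym_neg_left hf, hze', neg_zero])
      (by rw [sym_neg_left hf, hzp, neg_zero]) (by rw [sym_neg_left hf, hzp', neg_zero])
    rw [sym_neg_right hf, sym_neg_left hf, sym_neg_right hf, neg_neg] at a2
    constructor
    · have h3 : (2 * c) * f v z = 0 := by linear_combination a2 - a1
      exact (mul_eq_zero.mp h3).resolve_left (mul_ne_zero h2 hc)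
    · have h3 : (2 * c) * (f z z * f v p) = 0 := by
        field_simp at a1 a2 h0
        linear_combination a1 + a2 - 2 * 2 * h0
      exact (mul_eq_zero.mp h3).resolve_left (mul_ne_zero h2 hc)
  obtain ⟨z₀, hz₀, hzz₀⟩ := exists_aniso hf h2
    (SpO.nd_perpIn_pair hf (nd_pairW hf H.ee H.ee'' H.pair) hP hP' hpp hpp' hp) (by
      have := finrank_pairW hf e e'
      have := finrank_perpIn hf (pairW f e e') p
      have := finrank_perpIn hf (perpIn f (pairW f e e') p) p'
      omega)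
  obtain ⟨hz₁, hz₀p'⟩ := (mem_perpIn hf).mp hz₀
  obtain ⟨hz₂, hz₀p⟩ := (mem_perpIn hf).mp hz₁
  obtain ⟨hz₀e, hz₀e'⟩ := (mem_pairW hf).mp hz₂
  have hvp : f v p = 0 := (mul_eq_zero.mp (hpair z₀ hz₀e hz₀e' hz₀p hz₀p').2).resolve_left hzz₀
  have hvp' : f v p' = 0 := by
    have h3 : c * f v p' = 0 := by linear_combination hvp - h0
    exact (mul_eq_zero.mp h3).resolve_left hc
  refine perp_zero hf h2 H.ee H.ee'' H.pair hv hv' fun r hr hr' _ => ?_
  obtain ⟨z, hz⟩ : ∃ z, z = r - f r p' • p - f r p • p' := ⟨_, rfl⟩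
  have h4 := (hpair z ?_ ?_ ?_ ?_).1
  · rw [hz, sym_sub_right hf, sym_sub_right hf, hf.bilinear.smul_right, hf.bilinear.smul_right, hvp, hvp'] at h4
    linear_combination h4
  all_goals rw [hz, sym_sub_left hf, sym_sub_left hf, hf.bilinear.smul_left, hf.bilinear.smul_left]
  · rw [hpe, hp'e, hf.symm r e, hr]; ring
  · rw [hpe', hp'e', hf.symm r e', hr']; ring
  · rw [hpp, hp'p]; ring
  · rw [hpp', hp]; ring

end CfsgLib.Classical22.OPow
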