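/-
An element pushing the flag of a singular slot subspace down is a slot element, or the group is big.
-/
import Cfsg.Agent.Lib.Classical22.OrthPower.Radical

set_option autoImplicit false
set_option linter.unusedSectionVars false
set_option linter.unusedSimpArgs false
set_option maxHeartbeats 800000

namespace CfsgLib.Classical22.OPow

open Matrix CfsgLib.Transvec CfsgLib.Classical22.TensorMax CfsgLib.Classical22.TensorMax.SympO
open CfsgLib.Classical22.TensorMax.SpO (sym_outer sym_zero_left sym_zero_right sym_sub_left sym_sub_right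
  sym_neg_left sym_quad_add sym_adj_eq sym_adj_mul sym_adj_spec sym_adj_adj sym_adj_scalar sym_adj_add)
open CfsgLib.Classical22.TensorMax.OO (eA eA_mulVec eA_mul eA_mul_neg eA_zero eA_iso sym_neg_right skew_fixed
  sym_fixed exists_fixed_point)
open CfsgLib.Classical22.TWMax (Idx pv tmat tmat_mul tmat_mulVec emb emb_one slotEl slotEl_val TWData)
open scoped MatrixGroups

variable {F : Type*} [Field F] {t k : ℕ} {f : (Fin k → F) → (Fin k → F) → F}
  {M : Subgroup (GL (Idx (t + 1) k) F)} {C : Ctx f M} {e e' : Fin k → F} {c : F} (H : Fr C e e' c)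
  {s : Fin (t + 1)}
include H

/-- The members of the flag-lowering group along the wedge at `u`. -/
def Fr.PU (H : Fr C e e' c) (s : Fin (t + 1)) (u : Fin k → F) :
    AddSubgroup (Matrix (Idx (t + 1) k) (Idx (t + 1) k) F) where
  carrier := {Z | Z ∈ H.RE s ∧ ∀ x y, blk s x y Z ∈ Submodule.span F {wd f e u}}
  zero_mem' := ⟨(H.RE s).zero_mem, fun x y => Submodule.zero_mem _⟩
  add_mem' {Z Z'} := fun h h' => ⟨(H.RE s).add_mem h.1 h'.1, fun x y => Submodule.add_mem _ (h.2 x y) (h'.2 x y)⟩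
  neg_mem' {Z} := fun h => ⟨(H.RE s).neg_mem h.1, fun x y => Submodule.neg_mem _ (h.2 x y)⟩

/-- The scalar matrices in one slot. -/
def Fr.scalAt (_H : Fr C e e' c) (l : Fin (t + 1)) : AddSubgroup (Matrix (Idx (t + 1) k) (Idx (t + 1) k) F) where
  carrier := {Z | ∀ x y, blk l x y Z ∈ Submodule.span F {(1 : Matrix (Fin k) (Fin k) F)}}
  zero_mem' := fun x y => Submodule.zero_mem _
  add_mem' {Z Z'} := fun h h' x y => Submodule.add_mem _ (h x y) (h' x y)
  neg_mem' {Z} := fun h x y => Submodule.neg_mem _ (h x y)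

lemma Fr.eA_conj_one {y : Fin k → F} (hy : f e y = 0) : sandL (eA f e y) (eA f e (-y)) 1 = 1 := by
  rw [sandL_apply, mul_one, eA_mul_neg C.sym C.two H.ee hy]

lemma Fr.eA_neg_mul {y : Fin k → F} (hy : f e y = 0) : eA f e (-y) * eA f e y = 1 := by
  have h := eA_mul_neg C.sym C.two H.ee (show f e (-y) = 0 by rw [sym_neg_right C.sym, hy, neg_zero])
  rwa [neg_neg] at h

variable [Fintype F]

/-- A matrix fixed modulo scalars by the root group commutes with it. -/
theorem Fr.cmt_of_mod {A : Matrix (Fin k) (Fin k) F}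
    (h : ∀ y, f e y = 0 → ∃ a : F, eA f e y * A = (A + a • 1) * eA f e y) : A ∈ H.cmt := by
  classical
  have hf := C.sym
  have h2 := C.two
  have hq : k = 3 → 3 < Fintype.card F := fun h => by
    have := C.small h
    rw [Nat.card_eq_fintype_card] at this
    omega
  obtain ⟨r, hr, hr', hrr⟩ := H.exists_r
  have hadj : ∀ (y : Fin k → F) (a : F), f e y = 0 → eA f e y * A = (A + a • 1) * eA f e y →
      eA f e y * adj f A = (adj f A + a • 1) * eA f e y := by
    intro y a hy ha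
    have hE : adj f (eA f e y) = eA f e (-y) := sym_adj_eq hf fun p q => by
      have hy' : f e (-y) = 0 := by rw [sym_neg_right hf, hy, neg_zero]
      conv_rhs => rw [← eA_iso hf h2 H.ee hy p (eA f e (-y) *ᵥ q)]
      rw [mulVec_mulVec, eA_mul_neg hf h2 H.ee hy, one_mulVec]
    have h1 := congrArg (adj f) ha
    rw [sym_adj_mul hf, sym_adj_mul hf, hE, sym_adj_add hf, sym_adj_scalar hf] at h1
    calc eA f e y * adj f A = eA f e y * (adj f A * eA f e (-y)) * eA f e y := by
          rw [mul_assoc, mul_assoc, H.eA_neg_mul hy, mul_one]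
      _ = eA f e y * (eA f e (-y) * (adj f A + a • 1)) * eA f e y := by rw [h1]
      _ = (adj f A + a • 1) * eA f e y := by rw [← mul_assoc, eA_mul_neg hf h2 H.ee hy, one_mul]
  obtain ⟨S, hS⟩ : ∃ S, S = (2 : F)⁻¹ • (A - adj f A) := ⟨_, rfl⟩
  obtain ⟨K, hK⟩ : ∃ K, K = (2 : F)⁻¹ • (A + adj f A) := ⟨_, rfl⟩
  have hSskew : ∀ p q, f (S *ᵥ p) q = -f p (S *ᵥ q) := fun p q => by
    rw [hS, smul_mulVec, smul_mulVec, sub_mulVec, sub_mulVec, hf.bilinear.smul_left, hf.bilinear.smul_right,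
      sym_sub_left hf, sym_sub_right hf, sym_adj_spec hf, sym_adj_spec hf, sym_adj_adj hf]
    ring
  have hKsym : ∀ p q, f (K *ᵥ p) q = f p (K *ᵥ q) := fun p q => by
    rw [hK, smul_mulVec, smul_mulVec, add_mulVec, add_mulVec, hf.bilinear.smul_left, hf.bilinear.smul_right,
      hf.bilinear.add_left, hf.bilinear.add_right, sym_adj_spec hf, sym_adj_spec hf, sym_adj_adj hf]
    ring
  obtain ⟨v, hve, hve', hSv⟩ := skew_fixed hf h2 C.dim H.ee H.ee'' H.pair hSskew fun y hy => by
    obtain ⟨a, ha⟩ := h y hy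
    rw [hS, Matrix.mul_smul, Matrix.smul_mul, mul_sub, sub_mul, ha, hadj y a hy ha, ← sub_mul, ← sub_mul]
    congr 2
    abel
  obtain ⟨l, m, hKv⟩ := sym_fixed hf h2 C.dim hq H.ee H.ee'' H.pair hKsym fun y hy => by
    obtain ⟨a, ha⟩ := h y hy
    refine ⟨a, ?_⟩
    rw [hK, Matrix.mul_smul, mul_add, ha, hadj y a hy ha, ← add_mul, ← Matrix.smul_mul]
    congr 1
    match_scalars <;> field_simp <;> ring
  have hA : A = l • 1 + m • outer f e e + wd f e v := Matrix.ext_iff_mulVec.mpr fun z => by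
    rw [show A = S + K by
      rw [hS, hK, ← smul_add, show A - adj f A + (A + adj f A) = (2 : F) • A by rw [two_smul]; abel,
        inv_smul_smul₀ h2], add_mulVec, hSv, hKv, add_mulVec, add_mulVec, smul_mulVec, one_mulVec, smul_mulVec,
      sym_outer hf, wd_mulVec hf, smul_smul]
    abel
  rw [hA]
  refine H.cmt.add_mem (H.cmt.add_mem (H.cmt.smul_mem _ fun y _ => by rw [mul_one, one_mul])
    (H.cmt.smul_mem _ H.ee_cmt)) (H.wd_cmt (by rw [hf.symm, hve]))

/-- A member of an invariant group outside an invariant subgroup, fixed modulo that subgroup. -/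
theorem Fr.exists_fixed_mod {P K : AddSubgroup (Matrix (Idx (t + 1) k) (Idx (t + 1) k) F)}
    (hP : ∀ m, m ≠ s → ∀ y, f e y = 0 → ∀ Z ∈ P, slotMap m (sandL (eA f e y) (eA f e (-y))) Z ∈ P)
    (hK : ∀ m, m ≠ s → ∀ y, f e y = 0 → ∀ Z ∈ K, slotMap m (sandL (eA f e y) (eA f e (-y))) Z ∈ K)
    {Z₀ : Matrix (Idx (t + 1) k) (Idx (t + 1) k) F} (hZ₀ : Z₀ ∈ P) (hZ₀' : Z₀ ∉ K) :
    ∃ Z ∈ P, Z ∉ K ∧ ∀ m, m ≠ s → ∀ y, f e y = 0 →
      slotMap m (sandL (eA f e y) (eA f e (-y))) Z - Z ∈ K := by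
  classical
  have hf := C.sym
  have h2 := C.two
  obtain ⟨p, hp⟩ := CharP.exists F
  haveI : Fact p.Prime := ⟨CharP.char_is_prime F p⟩
  haveI : Finite (Matrix (Idx (t + 1) k) (Idx (t + 1) k) F) :=
    inferInstanceAs (Finite (Idx (t + 1) k → Idx (t + 1) k → F))
  obtain ⟨W, hW⟩ : ∃ W : Submodule F (Fin k → F), ∀ y, y ∈ W ↔ f e y = 0 :=
    ⟨{ carrier := {y | f e y = 0}
       zero_mem' := sym_zero_right hf e
       add_mem' := fun {a b} ha hb => by
        change f e (a + b) = 0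
        rw [hf.bilinear.add_right, show f e a = 0 from ha, show f e b = 0 from hb, add_zero]
       smul_mem' := fun c a ha => by
        change f e (c • a) = 0
        rw [hf.bilinear.smul_right, show f e a = 0 from ha, mul_zero] }, fun y => Iff.rfl⟩
  haveI : Finite W := Finite.of_injective _ Subtype.val_injective
  suffices h : ∀ S : Finset (Fin (t + 1)), s ∉ S → ∃ Z ∈ P, Z ∉ K ∧ ∀ m ∈ S, ∀ y, f e y = 0 →
      slotMap m (sandL (eA f e y) (eA f e (-y))) Z - Z ∈ K by
    obtain ⟨Z, h1, h2, h3⟩ := h (Finset.univ.erase s) (by simp)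
    exact ⟨Z, h1, h2, fun m hm => h3 m (by simp [hm])⟩
  intro S
  induction S using Finset.induction_on with
  | empty => exact fun _ => ⟨Z₀, hZ₀, hZ₀', fun m hm => absurd hm (Finset.notMem_empty m)⟩
  | insert l S hlS ih =>
    intro hs
    have hls : l ≠ s := fun h => hs (by simp [h])
    obtain ⟨Z₁, hZ₁, hZ₁', hfix₁⟩ := ih fun h => hs (Finset.mem_insert_of_mem h)
    obtain ⟨φ, hφ⟩ : ∃ φ : W → Matrix (Idx (t + 1) k) (Idx (t + 1) k) F →+ Matrix (Idx (t + 1) k) (Idx (t + 1) k) F,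
        ∀ w Z, φ w Z = slotMap l (sandL (eA f e w.1) (eA f e (-w.1))) Z :=
      ⟨fun w => (slotMap l (sandL (eA f e w.1) (eA f e (-w.1)))).toAddMonoidHom, fun w Z => rfl⟩
    obtain ⟨PS', hPS⟩ : ∃ PS' : AddSubgroup (Matrix (Idx (t + 1) k) (Idx (t + 1) k) F), ∀ Z, Z ∈ PS' ↔
        Z ∈ P ∧ ∀ m ∈ S, ∀ y, f e y = 0 → slotMap m (sandL (eA f e y) (eA f e (-y))) Z - Z ∈ K :=
      ⟨{ carrier := {Z | Z ∈ P ∧ ∀ m ∈ S, ∀ y, f e y = 0 → slotMap m (sandL (eA f e y) (eA f e (-y))) Z - Z ∈ K}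
         zero_mem' := ⟨P.zero_mem, fun m _ y _ => by rw [map_zero, sub_zero]; exact K.zero_mem⟩
         add_mem' := fun {A B} hA hB => ⟨P.add_mem hA.1 hB.1, fun m hm y hy => by
          rw [map_add, add_sub_add_comm]; exact K.add_mem (hA.2 m hm y hy) (hB.2 m hm y hy)⟩
         neg_mem' := fun {A} hA => ⟨P.neg_mem hA.1, fun m hm y hy => by
          rw [map_neg, ← neg_sub', ]; exact K.neg_mem (hA.2 m hm y hy)⟩ }, fun Z => Iff.rfl⟩
    have hφK : ∀ w, K ≤ K.comap (φ w) := fun w Z hZ => by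
      rw [AddSubgroup.mem_comap, hφ]; exact hK l hls _ ((hW _).mp w.2) Z hZ
    obtain ⟨op, hop⟩ : ∃ op : W → (Matrix (Idx (t + 1) k) (Idx (t + 1) k) F ⧸ K) →
        (Matrix (Idx (t + 1) k) (Idx (t + 1) k) F ⧸ K),
        ∀ w, op w = QuotientAddGroup.map K K (φ w) (hφK w) := ⟨_, fun w => rfl⟩
    have hpow : ∀ {A : Type _} [AddCommGroup A] [Module F A] (x : A), p • x = 0 := fun x => by
      rw [← Nat.cast_smul_eq_nsmul F, CharP.cast_eq_zero, zero_smul]
    obtain ⟨x, hx, hx0, hxfix⟩ := exists_fixed_point (p := p)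
      (A := Matrix (Idx (t + 1) k) (Idx (t + 1) k) F ⧸ K)
      (fun x => by
        induction x using QuotientAddGroup.induction_on with
        | H Z => rw [← QuotientAddGroup.mk_nsmul, hpow Z, QuotientAddGroup.mk_zero])
      (W := W) (fun w => hpow w) (P := PS'.map (QuotientAddGroup.mk' K))
      (fun h => hZ₁' ((QuotientAddGroup.eq_zero_iff Z₁).mp (AddSubgroup.mem_bot.mp
        (h ▸ AddSubgroup.mem_map_of_mem _ ((hPS Z₁).mpr ⟨hZ₁, hfix₁⟩)))))
      op
      (fun x => by
        induction x using QuotientAddGroup.induction_on with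
        | H Z =>
          rw [hop, QuotientAddGroup.map_mk, hφ, Submodule.coe_zero, neg_zero, eA_zero hf,
            show sandL (1 : Matrix (Fin k) (Fin k) F) 1 = LinearMap.id from
              LinearMap.ext fun X => by rw [sandL_apply, one_mul, mul_one, LinearMap.id_apply], slotMap_id])
      (fun w w' x _ => by
        induction x using QuotientAddGroup.induction_on with
        | H Z =>
          rw [hop, hop, hop, QuotientAddGroup.map_mk, QuotientAddGroup.map_mk, QuotientAddGroup.map_mk, hφ, hφ, hφ,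
            slotMap_slotMap]
          have hw := (hW _).mp w.2
          have hw' := (hW _).mp w'.2
          have hwn : f e (-w.1) = 0 := by rw [sym_neg_right hf, hw, neg_zero]
          have hwn' : f e (-w'.1) = 0 := by rw [sym_neg_right hf, hw', neg_zero]
          congr 3
          refine LinearMap.ext fun X => ?_
          rw [LinearMap.comp_apply, sandL_apply, sandL_apply, sandL_apply, Submodule.coe_add,
            ← eA_mul hf h2 H.ee hw hw', neg_add_rev, ← eA_mul hf h2 H.ee hwn' hwn]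
          simp only [mul_assoc])
      (fun w => by rw [hop, map_zero])
      (fun w x hx => by
        obtain ⟨Z, hZ, rfl⟩ := AddSubgroup.mem_map.mp hx
        rw [hop]
        refine ⟨φ w Z, (hPS _).mpr ?_, rfl⟩
        obtain ⟨hZP, hZfix⟩ := (hPS Z).mp hZ
        rw [hφ]
        refine ⟨hP l hls _ ((hW _).mp w.2) Z hZP, fun m hm y hy => ?_⟩
        rw [slotMap_comm (ne_of_mem_of_not_mem hm hlS), ← map_sub]
        exact hK l hls _ ((hW _).mp w.2) _ (hZfix m hm y hy))
    obtain ⟨Z, hZ, rfl⟩ := AddSubgroup.mem_map.mp hx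
    obtain ⟨hZP, hZfix⟩ := (hPS Z).mp hZ
    refine ⟨Z, hZP, fun h => hx0 ((QuotientAddGroup.eq_zero_iff Z).mpr h), fun m hm y hy => ?_⟩
    rcases Finset.mem_insert.mp hm with rfl | hm
    · have h := hxfix ⟨y, (hW y).mpr hy⟩
      rw [hop, QuotientAddGroup.mk'_apply, QuotientAddGroup.map_mk, hφ, QuotientAddGroup.eq_iff_sub_mem] at h
      exact h
    · exact hZfix m hm y hy

/-- The group at a wedge is invariant. -/
lemma Fr.inv_PU {u : Fin k → F} (hu : f e u = 0 ∧ f e' u = 0 ∧ f u u ≠ 0) :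
    Inv H (H.PU s u) s (wd f e u) u where
  ne := Fr.Shape.ne_zero H (Or.inr (Or.inr ⟨u, hu.1, hu.2.1, hu.2.2, rfl⟩))
  perp := hu
  block Z hZ := hZ.2
  sq m hm B hB Z hZ :=
    ⟨conj_slot m B Z ▸ H.RE_conj (C.sq m B hB) (H.cm_slot hm B) hZ.1,
      fun x y => blk_slotMap_mem hm.symm _ hZ.2 x y⟩
  pr m hm v hv hcl Z hZ := by
    have hf := C.sym
    refine ⟨?_, fun x y => blk_slotMap_mem hm.symm _ hZ.2 x y⟩
    by_cases hk4 : k = 4
    · exact conj_slot m (eG hf v) Z ▸ H.RE_conj (C.refl (by rw [hk4]; decide) m v hv) (H.cm_slot hm _) hZ.1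
    obtain ⟨w, hw, hw', hww, hsq, δ, hδ, hδu⟩ : ∃ w, f e w = 0 ∧ f e' w = 0 ∧ f w w ≠ 0 ∧
        IsSquare (f w w * f v v) ∧ ∃ δ : F, (δ = 1 ∨ δ = -1) ∧ (eG hf w).val *ᵥ u = δ • u := by
      rcases hcl with h5 | h
      · obtain ⟨d, hd⟩ : ∃ d, d = f v v := ⟨_, rfl⟩
        have hP : u ∈ OO.pairW f e e' := (OO.mem_pairW hf).mpr ⟨by rw [hf.symm, hu.1], by rw [hf.symm, hu.2.1]⟩
        obtain ⟨w, hwm, hwd⟩ := SpO.exists_value hf C.two
          (SpO.nd_perpIn hf (OO.nd_pairW hf H.ee H.ee'' H.pair) hP hu.2.2) (by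
            have := OO.finrank_pairW hf e e'
            have := SpO.finrank_perpIn hf (OO.pairW f e e') u
            omega) d
        obtain ⟨hw1, hwu⟩ := (SpO.mem_perpIn hf).mp hwm
        obtain ⟨hwe, hwe'⟩ := (OO.mem_pairW hf).mp hw1
        refine ⟨w, by rw [hf.symm, hwe], by rw [hf.symm, hwe'], by rwa [hwd, hd], by rw [hwd, hd]; exact ⟨_, rfl⟩,
          -1, Or.inr rfl, ?_⟩
        rw [eG_perp hf (by rwa [hwd, hd]) (by rw [hf.symm, hwu]), neg_one_smul]
      · exact ⟨u, hu.1, hu.2.1, hu.2.2, by rwa [mul_comm], 1, Or.inl rfl, by rw [eG_self hf hu.2.2, one_smul]⟩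
    have hneg : ∀ z, f e z = 0 → (eG hf z).val *ᵥ e = (-1 : F) • e ∨ f z z = 0 := fun z hz => by
      by_cases hzz : f z z = 0
      · exact Or.inr hzz
      · exact Or.inl (by rw [eG_perp hf hzz hz, neg_one_smul])
    have hwe : (eG hf w).val *ᵥ e = (-1 : F) • e := (hneg w hw).resolve_right hww
    have hwe' : (eG hf w).val *ᵥ e' = (-1 : F) • e' := by rw [eG_perp hf hww hw', neg_one_smul]
    have hcm : H.Cm s (slotEl s (eG hf w) * slotEl m (eG hf v)) := by
      obtain ⟨a1, a2⟩ := H.cm_perp (s := s) (eG_iso hf w) hwe hwe'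
      obtain ⟨b1, b2⟩ := H.cm_slot hm (eG hf v)
      constructor <;> rw [Units.val_mul]
      · rw [mul_assoc, b1, ← mul_assoc, a1, mul_assoc]
      · rw [mul_assoc, b2, ← mul_assoc, a2, mul_assoc]
    have h1 := H.RE_conj (C.pair' hww hv hsq hm.symm) hcm hZ.1
    have e1 : (slotEl s (eG hf w) * slotEl m (eG hf v)).val * Z * (slotEl s (eG hf w) * slotEl m (eG hf v))⁻¹.val =
        slotMap s (sandL (eG hf w).val (eG hf w)⁻¹.val) (slotMap m (sandL (eG hf v).val (eG hf v)⁻¹.val) Z) := by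
      rw [_root_.mul_inv_rev, Units.val_mul, Units.val_mul, ← conj_slot, ← conj_slot]
      simp only [mul_assoc]
    rw [e1, slotMap_smul_id s (c := -δ) fun x y => ?_] at h1
    · rcases hδ with rfl | rfl
      · rw [neg_one_smul, AddSubgroup.neg_mem_iff] at h1; exact h1
      · rwa [neg_neg, one_smul] at h1
    · obtain ⟨a, ha⟩ := Submodule.mem_span_singleton.mp
        ((blk_slotMap_mem hm.symm (sandL (eG hf v).val (eG hf v)⁻¹.val) hZ.2) x y)
      rw [← ha, map_smul, sandL_apply, conj_wd hf (eG_iso hf w), hwe, hδu]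
      refine Matrix.ext_iff_mulVec.mpr fun z => ?_
      simp only [smul_mulVec, wd_mulVec hf, hf.bilinear.smul_right, smul_sub, smul_smul]
      match_scalars <;> ring

/-- A monomial with a non-trivial slot gives a non-zero shear. -/
theorem Fr.shear_of_monomial {u : Fin k → F} (hu : f e u = 0 ∧ f e' u = 0 ∧ f u u ≠ 0) {d : F} (hd : d ≠ 0)
    {G : Fin (t + 1) → Matrix (Fin k) (Fin k) F} (hs : G s = wd f e u) (hG : ∀ m, m ≠ s → H.Shape (G m))
    {l : Fin (t + 1)} (hl : l ≠ s) (hGl : G l ≠ 1) (h : d • tmat G ∈ H.RE s) :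
    ∃ D ∈ H.PS s, D ≠ 0 := by
  classical
  have hf := C.sym
  obtain ⟨S, hS⟩ : ∃ S : Finset (Fin (t + 1)), S = Finset.univ.filter fun m => m ≠ s ∧ G m ≠ 1 := ⟨_, rfl⟩
  obtain ⟨fl, hfl⟩ : ∃ fl, fl = eG hf (e - c • e') := ⟨_, rfl⟩
  obtain ⟨g, hg, hgv⟩ := H.exists_flips C S
  obtain ⟨gs, hgs⟩ : ∃ gs : Fin (t + 1) → GL (Fin k) F, gs = fun m => if m ∈ S then fl else 1 := ⟨_, rfl⟩
  have hdata : TWData g 1 gs := fun xs => by
    rw [hgv]; congr 1; funext m; by_cases hm : m ∈ S <;> simp [hgs, hm, hfl]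
  have hsS : gs s = 1 := by simp [hgs, hS]
  have hcm : ∀ A : Matrix (Fin k) (Fin k) F, g.val * emb s A = emb s A * g.val := fun A => by
    refine TWMax.mat_ext_pv fun xs => ?_
    rw [← mulVec_mulVec, ← mulVec_mulVec, TWMax.emb_mulVec_pv, hdata, hdata, TWMax.emb_mulVec_pv]
    congr 1
    funext m
    by_cases hm : m = s
    · subst hm; simp [hsS]
    · simp [hm]
  have h' := H.RE_conj hg ⟨hcm _, hcm _⟩ h
  obtain ⟨G', hG'⟩ : ∃ G', G' = fun m => (gs m).val * G m * (gs m)⁻¹.val := ⟨_, rfl⟩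
  rw [Matrix.mul_smul, Matrix.smul_mul, conj_tmat hdata, show (fun m => (gs m).val * G ((1 : Equiv.Perm (Fin (t + 1))) m) *
    (gs m)⁻¹.val) = G' by rw [hG']; rfl] at h'
  refine ⟨_, H.RE_comm h h', fun h0 => ?_⟩
  obtain ⟨xs, hxs⟩ : ∃ xs : Fin (t + 1) → Fin k → F, xs = Function.update (fun _ => e) s e' := ⟨_, rfl⟩
  have hfl_inv : fl⁻¹ = fl := hfl ▸ eG_inv hf _
  have hc := H.c_ne
  -- the two products on the test vector
  have h1 : ∀ m, ∃ κ : F, κ ≠ 0 ∧ (G m * G' m) *ᵥ xs m = κ • e := fun m => by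
    by_cases hm : m = s
    · subst hm
      refine ⟨-(f u u), neg_ne_zero.mpr hu.2.2, ?_⟩
      rw [hG']; dsimp only
      rw [hsS, Units.val_one, inv_one, Units.val_one, one_mul, mul_one, hs, wd_wd hf H.ee hu.1 hu.1, smul_mulVec,
        sym_outer hf, hxs, Function.update_self, H.pair', one_smul]
    · rw [hxs, Function.update_of_ne hm, hG']; dsimp only
      by_cases hmS : m ∈ S
      · rw [hgs]; dsimp only; rw [if_pos hmS, hfl_inv]
        rcases hG m hm with h1 | h1 | ⟨r, hr, hr', hrr, h1⟩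
        · exact absurd h1 (by simp [hS] at hmS; exact hmS.2)
        · refine ⟨c * c, mul_ne_zero hc hc, ?_⟩
          rw [h1, hfl]
          simp only [← mulVec_mulVec, H.fl_e, mulVec_smul, sym_outer hf, H.pair', one_smul, smul_smul, neg_mul_neg,
            hf.bilinear.smul_left, mul_one]
        · refine ⟨-(c * f r r), neg_ne_zero.mpr (mul_ne_zero hc hrr), ?_⟩
          have hre : f r e = 0 := by rw [hf.symm, hr]
          rw [h1, hfl]
          simp only [← mulVec_mulVec, H.fl_e, mulVec_smul, wd_mulVec hf, H.pair', hr', one_smul, zero_smul, sub_zero,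
            H.fl_perp hr hr', mulVec_neg, hre, zero_sub, smul_neg, smul_smul, neg_smul, neg_neg, hf.bilinear.smul_left,
            mul_zero]
      · refine ⟨1, one_ne_zero, ?_⟩
        have hG1 : G m = 1 := by by_contra hne; exact hmS (by simp [hS, hm, hne])
        rw [hgs]; dsimp only; rw [if_neg hmS, hG1]
        simp
  choose κ hκ hκe using h1
  have h2 : (G' l * G l) *ᵥ xs l = 0 := by
    have hle : G l *ᵥ e = 0 := by
      rcases hG l hl with h1 | h1 | ⟨r, hr, hr', hrr, h1⟩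
      · exact absurd h1 hGl
      · rw [h1, sym_outer hf, H.ee, zero_smul]
      · rw [h1, wd_mulVec hf, H.ee, hr]; simp
    rw [hxs, Function.update_of_ne hl, ← mulVec_mulVec, hle, mulVec_zero]
  have h3 := congrArg (fun X => bil f (X *ᵥ pv xs) (pv fun _ => e')) h0
  simp only [Matrix.smul_mul, Matrix.mul_smul, tmat_mul, smul_smul, sub_mulVec, smul_mulVec, tmat_mulVec, zero_mulVec,
    bil_zero_left, bil_sub_left, bil_smul_left, bil_pv hf] at h3
  rw [Finset.prod_eq_zero (f := fun m => f ((G' m * G m) *ᵥ xs m) e') (Finset.mem_univ l)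
    (by rw [h2, sym_zero_left hf]), mul_zero, sub_zero] at h3
  simp only [hκe, hf.bilinear.smul_left, H.pair, mul_one] at h3
  exact mul_ne_zero (mul_ne_zero hd hd) (Finset.prod_ne_zero_iff.mpr fun m _ => hκ m) h3

/-- A wedge component not scalar in another slot gives a non-zero shear. -/
theorem Fr.shear_of_component {u : Fin k → F} (hu : f e u = 0 ∧ f e' u = 0 ∧ f u u ≠ 0) {l : Fin (t + 1)}
    (hl : l ≠ s) {Z₀ : Matrix (Idx (t + 1) k) (Idx (t + 1) k) F} (hZ₀ : Z₀ ∈ H.PU s u)
    (hZ₀' : Z₀ ∉ H.scalAt l) : ∃ D ∈ H.PS s, D ≠ 0 := by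
  classical
  have hf := C.sym
  have h2 := C.two
  have hI := H.inv_PU (s := s) hu
  have hop : ∀ m, m ≠ s → ∀ y, f e y = 0 → ∀ Z ∈ H.PU s u,
      slotMap m (sandL (eA f e y) (eA f e (-y))) Z ∈ H.PU s u := fun m hm y hy Z hZ => by
    have h := hI.sq m hm _ (eU_mem hf h2 e y) Z hZ
    rwa [eU_val hf h2 H.ee hy, eU_inv_val C H.ee hy] at h
  have hopK : ∀ m, m ≠ s → ∀ y, f e y = 0 → ∀ Z ∈ H.scalAt l,
      slotMap m (sandL (eA f e y) (eA f e (-y))) Z ∈ H.scalAt l := fun m _ y hy Z hZ a b => by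
    by_cases hml : m = l
    · subst hml
      obtain ⟨q, hq⟩ := Submodule.mem_span_singleton.mp (hZ a b)
      rw [blk_slotMap_same, ← hq, map_smul, H.eA_conj_one hy]
      exact Submodule.smul_mem _ _ (Submodule.mem_span_singleton_self _)
    · exact blk_slotMap_mem (Ne.symm hml) _ hZ a b
  obtain ⟨Z, hZ, hZK, hfix⟩ := H.exists_fixed_mod hop hopK hZ₀ hZ₀'
  have hcm : ∀ x y, blk l x y Z ∈ H.cmt := fun x y => H.cmt_of_mod fun z hz => by
    obtain ⟨a, ha⟩ := Submodule.mem_span_singleton.mp (hfix l hl z hz x y)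
    refine ⟨a, ?_⟩
    rw [show blk l x y (slotMap l (sandL (eA f e z) (eA f e (-z))) Z - Z) =
      blk l x y (slotMap l (sandL (eA f e z) (eA f e (-z))) Z) - blk l x y Z from rfl, blk_slotMap_same, sandL_apply,
      eq_sub_iff_add_eq, add_comm] at ha
    rw [ha, mul_assoc, H.eA_neg_mul hz, mul_one]
  have hq : k = 3 → 3 < Fintype.card F := fun h => by
    have := C.small h
    rw [Nat.card_eq_fintype_card] at this
    omega
  have dec : ∀ x y, ∃ a m : F, ∃ v, f e v = 0 ∧ f e' v = 0 ∧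
      blk l x y Z = a • 1 + m • outer f e e + wd f e v := fun x y =>
    commutant_root hf h2 C.dim hq H.ee H.ee'' H.pair (hcm x y)
  -- an operation killing the scalars
  suffices hφ : ∃ (φ : Matrix (Fin k) (Fin k) F →ₗ[F] Matrix (Fin k) (Fin k) F) (G₀ : Matrix (Fin k) (Fin k) F),
      φ 1 = 0 ∧ H.Shape G₀ ∧ G₀ ∈ H.cmt ∧ G₀ * outer f e e = 0 ∧ slotMap l φ Z ∈ H.PU s u ∧ slotMap l φ Z ≠ 0 ∧
        ∀ x y, φ (blk l x y Z) ∈ Submodule.span F {G₀} by
    obtain ⟨φ, G₀, hφ1, hG₀, hG₀c, hG₀e, hP, h0, hb⟩ := hφ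
    have hblk : ∀ m, m ≠ s → ∀ x y, blk m x y (slotMap l φ Z) ∈ H.cmt := fun m hm x y => by
      by_cases hml : m = l
      · subst hml
        rw [blk_slotMap_same]
        obtain ⟨a, ha⟩ := Submodule.mem_span_singleton.mp (hb x y)
        rw [← ha]; exact H.cmt.smul_mem _ hG₀c
      intro z hz
      have hzero : slotMap l φ (slotMap m (sandL (eA f e z) (eA f e (-z))) Z - Z) = 0 := by
        refine blk_ext l fun a b => ?_
        obtain ⟨q, hq⟩ := Submodule.mem_span_singleton.mp (hfix m hm z hz a b)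
        rw [blk_slotMap_same, ← hq, map_smul, hφ1, smul_zero, blk_zero]
      rw [map_sub, sub_eq_zero, slotMap_comm (Ne.symm hml)] at hzero
      have h1 := congrArg (blk m x y) hzero
      rw [blk_slotMap_same, sandL_apply] at h1
      conv_rhs => rw [← h1]
      rw [mul_assoc, mul_assoc, H.eA_neg_mul hz, mul_one]
    obtain ⟨d, G, hd, hGP, hGs, hGsh, hGk⟩ := H.exists_monomial_keep hI hP h0 hblk {l} (fun _ => G₀)
      fun m hm => by
        rw [Finset.mem_singleton] at hm
        subst hm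
        exact ⟨hl, hG₀, fun x y => by rw [blk_slotMap_same]; exact hb x y⟩
    refine H.shear_of_monomial hu hd hGs hGsh hl ?_ hGP.1
    rw [hGk l (Finset.mem_singleton_self l)]
    intro h1
    rw [h1, one_mul] at hG₀e
    exact H.outer_ne hG₀e
  by_cases hwd : ∃ (x y : Idx (t + 1) k) (a m : F) (v r : Fin k → F), f e' v = 0 ∧ blk l x y Z = a • 1 + m • outer f e e + wd f e v ∧
      f e r = 0 ∧ f e' r = 0 ∧ f r r ≠ 0 ∧ (4 ≤ k ∨ IsSquare (f r r * f u u)) ∧ f v r ≠ 0
  · obtain ⟨x₀, y₀, a₀, m₀, v₀, r, hv₀', hd₀, hr, hr', hrr, hcl, hvr⟩ := hwd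
    have hwsh : H.Shape (wd f e r) := Or.inr (Or.inr ⟨r, hr, hr', hrr, rfl⟩)
    refine ⟨LinearMap.id - sandL (eG hf r).val (eG hf r)⁻¹.val, wd f e r, ?_, hwsh, H.wd_cmt hr,
      (wd_outer hf H.ee hr).1, ?_, ?_, fun x y => ?_⟩
    · rw [LinearMap.sub_apply, LinearMap.id_apply, sandL_apply, mul_one, Units.mul_inv, sub_self]
    · rw [slotMap_sub, slotMap_id]
      exact (H.PU s u).sub_mem hZ (hI.pr l hl r hrr hcl Z hZ)
    · intro h0
      have h1 := congrArg (blk l x₀ y₀) h0
      rw [blk_slotMap_same, hd₀, blk_zero, LinearMap.sub_apply, LinearMap.id_apply, sandL_apply,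
        H.eps_diff hr hrr, smul_eq_zero] at h1
      rcases h1 with h1 | h1
      · exact mul_ne_zero h2 hvr ((div_eq_zero_iff.mp h1).resolve_right hrr)
      · exact Fr.Shape.ne_zero H hwsh h1
    · obtain ⟨a, m, v, hv, hv', hd⟩ := dec x y
      rw [hd, LinearMap.sub_apply, LinearMap.id_apply, sandL_apply, H.eps_diff hr hrr]
      exact Submodule.smul_mem _ _ (Submodule.mem_span_singleton_self _)
  push Not at hwd
  have dec' : ∀ x y, ∃ a m : F, blk l x y Z = a • 1 + m • outer f e e := fun x y => by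
    obtain ⟨a, m, v, hv, hv', hd⟩ := dec x y
    have hv0 : v = 0 := by
      by_cases h5 : 4 ≤ k
      · exact perp_zero hf h2 H.ee H.ee'' H.pair hv hv' fun r hr hr' hrr =>
          hwd x y a m v r hv' hd hr hr' hrr (Or.inl h5)
      · have hk3 : k = 3 := C.three_of_lt (by omega)
        have h1 := hwd x y a m v u hv' hd hu.1 hu.2.1 hu.2.2 (Or.inr ⟨_, rfl⟩)
        rw [H.line_of_three hk3 hu.1 hu.2.1 hu.2.2 hv hv', h1, zero_div, zero_smul]
    refine ⟨a, m, ?_⟩
    rw [hd, hv0, show wd f e (0 : Fin k → F) = 0 from Matrix.ext_iff_mulVec.mpr fun z => by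
      rw [wd_mulVec hf, sym_zero_right hf]; simp, add_zero]
  obtain ⟨φ, hφ1, ⟨μ, hμ, hφe⟩, hφP⟩ := H.exists_eeOp hI hl
  have hφd : ∀ (x y : Idx (t + 1) k) (a m : F), blk l x y Z = a • 1 + m • outer f e e → φ (blk l x y Z) = (m * μ) • outer f e e :=
    fun x y a m hd => by rw [hd, map_add, map_smul, map_smul, hφ1, hφe, smul_zero, zero_add, smul_smul]
  refine ⟨φ, outer f e e, hφ1, Or.inr (Or.inl rfl), H.ee_cmt, H.ee_sq, hφP Z hZ, fun h0 => hZK fun x y => ?_,
    fun x y => ?_⟩
  · obtain ⟨a, m, hd⟩ := dec' x y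
    have h1 := congrArg (blk l x y) h0
    rw [blk_slotMap_same, hφd x y a m hd, blk_zero, smul_eq_zero] at h1
    rw [hd, (mul_eq_zero.mp (h1.resolve_right H.outer_ne)).resolve_right hμ, zero_smul, add_zero]
    exact Submodule.smul_mem _ _ (Submodule.mem_span_singleton_self _)
  · obtain ⟨a, m, hd⟩ := dec' x y
    rw [hφd x y a m hd]
    exact Submodule.smul_mem _ _ (Submodule.mem_span_singleton_self _)

/-- A flag-lowering element is a slot element, unless the group is big. -/
theorem Fr.rad_slot (ht : 1 ≤ t) (hbig : ¬ Big f M) {g : GL (Idx (t + 1) k) F} (hg : g ∈ M)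
    (hZ : H.Rad s (g.val - 1)) : ∃ B ∈ isoF f, g = slotEl s B := by
  classical
  have hf := C.sym
  have h2 := C.two
  have hk3' : ¬ 4 ≤ k → k = 3 := C.three_of_lt
  have hPS : ∀ D ∈ H.PS s, D = 0 := fun D hD => by
    by_contra h; exact hbig (H.big_of_shear ht hD h)
  obtain ⟨Z, hZdef⟩ : ∃ Z, Z = g.val - 1 := ⟨_, rfl⟩
  have hZR : Z ∈ H.RE s := hZdef ▸ H.mem_RE_self hg hZ
  rw [← hZdef] at hZ
  -- the shape of the blocks
  have hcm : ∀ x y, blk s x y Z ∈ H.cmt := fun x y w hw => by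
    have h0 := hPS _ (H.RE_comm hZR (H.mem_RE_self (C.eich_mem s e w) (H.rad_eich hw)))
    rw [sub_eq_zero, mul_sub, sub_mul, mul_one, one_mul, sub_left_inj, slotEl_val, eU_val hf h2 H.ee hw] at h0
    have h1 := congrArg (blk s x y) h0
    rw [blk_right, blk_left] at h1
    exact h1.symm
  have hq : k = 3 → 3 < Fintype.card F := fun h => by
    have := C.small h
    rw [Nat.card_eq_fintype_card] at this
    omega
  have hfrm : ∀ x y, ∃ m : F, ∃ v, f e v = 0 ∧ f e' v = 0 ∧ blk s x y Z = m • outer f e e + wd f e v := by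
    intro x y
    obtain ⟨a, m, v, hv, hv', hd⟩ := commutant_root hf h2 C.dim hq H.ee H.ee'' H.pair (hcm x y)
    refine ⟨m, v, hv, hv', ?_⟩
    have h1 := congrArg (fun A => f (A *ᵥ e) e') (H.rad_blk hZ x y).1
    simp only [← mulVec_mulVec, sym_outer hf, H.pair, one_smul, hd, add_mulVec, smul_mulVec, one_mulVec,
      wd_mulVec hf, H.ee, hv, zero_smul, smul_zero, sub_self, add_zero, hf.bilinear.smul_left, mul_one, zero_mulVec,
      sym_zero_left hf] at h1
    rw [hd, h1, zero_smul, zero_add]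
  -- the components
  have hpsi : ∀ u, f e u = 0 → f e' u = 0 → f u u ≠ 0 → ((4 ≤ k ∧ f u u = -(2 * c)) ∨ k = 3) →
      slotMap s (H.psi u) Z ∈ H.PU s u := by
    intro u hu hu' huu hcase
    refine ⟨?_, fun x y => ?_⟩
    swap
    · rw [blk_slotMap_same]
      exact Submodule.mem_span_singleton.mpr ⟨_, rfl⟩
    rcases hcase with ⟨h5, huv⟩ | h3
    · have hadm : slotEl s (eG hf u) ∈ M := by
        refine (C.adm_of_sq (H.flip s) huu ?_ s).2
        have hv : f (e - c • e') (e - c • e') = -(2 * c) := by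
          simp only [sym_sub_left hf, sym_sub_right hf, hf.bilinear.smul_left, hf.bilinear.smul_right, H.ee,
            H.ee'', H.pair, H.pair']
          ring
        rw [hv, huv]; exact ⟨_, rfl⟩
      have hcmu : H.Cm s (slotEl s (eG hf u)) := H.cm_perp (eG_iso hf u)
        (a := -1) (b := -1) (by rw [eG_perp hf huu hu, neg_one_smul]) (by rw [eG_perp hf huu hu', neg_one_smul])
      have h1 := (H.RE s).sub_mem hZR (H.RE_conj hadm hcmu hZR)
      rw [conj_slot] at h1
      have e1 : Z - slotMap s (sandL (eG hf u).val (eG hf u)⁻¹.val) Z = (2 : F) • slotMap s (H.psi u) Z := by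
        refine blk_ext s fun x y => ?_
        rw [show blk s x y (Z - slotMap s (sandL (eG hf u).val (eG hf u)⁻¹.val) Z) =
            blk s x y Z - blk s x y (slotMap s (sandL (eG hf u).val (eG hf u)⁻¹.val) Z) from rfl,
          show blk s x y ((2 : F) • slotMap s (H.psi u) Z) = (2 : F) • blk s x y (slotMap s (H.psi u) Z) from rfl,
          blk_slotMap_same, blk_slotMap_same, sandL_apply]
        obtain ⟨m, v, hv, hv', hd⟩ := hfrm x y
        rw [hd, H.psi_frm hv' hu, smul_smul, mul_div_assoc']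
        have := H.eps_diff (l := 0) (m := m) (v := v) hu huu
        simpa using this
      rw [e1] at h1
      obtain ⟨p, hp⟩ := CharP.exists F
      have hpp : p.Prime := CharP.char_is_prime F p
      have hpodd : ((p + 1) / 2 : ℕ) * 2 = p + 1 := by
        rcases hpp.eq_two_or_odd' with h | ⟨i, hi⟩
        · exact absurd (by subst h; exact_mod_cast CharP.cast_eq_zero F 2) h2
        · omega
      have h3 := (H.RE s).nsmul_mem h1 ((p + 1) / 2)
      rwa [← Nat.cast_smul_eq_nsmul F, smul_smul,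
        show (((p + 1) / 2 : ℕ) : F) * 2 = (((p + 1) / 2 * 2 : ℕ) : F) by push_cast; rfl, hpodd, Nat.cast_add,
        CharP.cast_eq_zero, zero_add, Nat.cast_one, one_smul] at h3
    · have hee : H.EE s (slotMap s (H.psi u) Z - Z) := by
        refine H.ee_iff.mpr fun x y => ?_
        rw [show blk s x y (slotMap s (H.psi u) Z - Z) = blk s x y (slotMap s (H.psi u) Z) - blk s x y Z from rfl,
          blk_slotMap_same]
        obtain ⟨m, v, hv, hv', hd⟩ := hfrm x y
        refine Submodule.mem_span_singleton.mpr ⟨-m, ?_⟩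
        have hwv : wd f e v = (f v u / f u u) • wd f e u := by
          conv_lhs => rw [H.line_of_three h3 hu hu' huu hv hv']
          refine Matrix.ext_iff_mulVec.mpr fun z => ?_
          simp only [smul_mulVec, wd_mulVec hf, hf.bilinear.smul_right, smul_sub, smul_smul]
          match_scalars <;> ring
        rw [hd, H.psi_frm hv' hu, ← hwv]
        module
      simpa using H.RE_of_ee hZR hee
  -- all components are scalar in the other slots
  have hscal : ∀ l, l ≠ s → ∀ A : Matrix (Fin k) (Fin k) F, ∀ u, f e u = 0 → f e' u = 0 → f u u ≠ 0 →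
      ((4 ≤ k ∧ f u u = -(2 * c)) ∨ k = 3) → slotMap s (H.psi u) (Z * emb l A - emb l A * Z) = 0 := by
    intro l hl A u hu hu' huu hcase
    have hK : slotMap s (H.psi u) Z ∈ H.scalAt l := by
      by_contra h
      obtain ⟨D, hD, hD0⟩ := H.shear_of_component ⟨hu, hu', huu⟩ hl (hpsi u hu hu' huu hcase) h
      exact hD0 (hPS D hD)
    rw [map_sub, emb_left, emb_right, slotMap_comm hl.symm, slotMap_comm hl.symm, ← emb_left, ← emb_right, sub_eq_zero,
      commute_of_blk_scalar fun x y => ?_]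
    obtain ⟨a, ha⟩ := Submodule.mem_span_singleton.mp (hK x y)
    exact ⟨a, ha.symm⟩
  -- the wedge part
  obtain ⟨ψW, hψW⟩ : ∃ ψW : Matrix (Fin k) (Fin k) F →ₗ[F] Matrix (Fin k) (Fin k) F,
      ∀ A, ψW A = wd f e (A *ᵥ e' - f (A *ᵥ e') e' • e) :=
    ⟨{ toFun := fun A => wd f e (A *ᵥ e' - f (A *ᵥ e') e' • e)
       map_add' := fun A B => Matrix.ext_iff_mulVec.mpr fun z => by
        simp only [add_mulVec, hf.bilinear.add_left, wd_mulVec hf, add_smul, sym_sub_right hf, hf.bilinear.add_right,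
          hf.bilinear.smul_right]
        match_scalars <;> ring
       map_smul' := fun a A => Matrix.ext_iff_mulVec.mpr fun z => by
        simp only [smul_mulVec, RingHom.id_apply, hf.bilinear.smul_left, wd_mulVec hf, sym_sub_right hf,
          hf.bilinear.smul_right]
        match_scalars <;> ring }, fun A => rfl⟩
  have hψfrm : ∀ (m : F) v, f e v = 0 → f e' v = 0 → ψW (m • outer f e e + wd f e v) = wd f e v := fun m v hv hv' => by
    rw [hψW, H.frm_e' hv', hf.bilinear.add_left, hf.bilinear.smul_left, H.pair, hf.symm v e', hv']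
    congr 1
    simp
  have hW : ∀ l, l ≠ s → ∀ v, Adm hf M l v →
      slotMap s ψW Z * emb l (eG hf v).val = emb l (eG hf v).val * slotMap s ψW Z := by
    intro l hl v _
    obtain ⟨A, hA⟩ : ∃ A, A = (eG hf v).val := ⟨_, rfl⟩
    rw [← hA]
    have hcomm : slotMap s ψW (Z * emb l A - emb l A * Z) = 0 := by
      refine blk_ext s fun x y => ?_
      rw [blk_slotMap_same, blk_zero]
      obtain ⟨N, hN⟩ : ∃ N : Submodule F (Matrix (Fin k) (Fin k) F), ∀ B, B ∈ N ↔
          f (B *ᵥ e') e = 0 ∧ B = f (B *ᵥ e') e' • outer f e e + ψW B :=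
        ⟨{ carrier := {B | f (B *ᵥ e') e = 0 ∧ B = f (B *ᵥ e') e' • outer f e e + ψW B}
           zero_mem' := ⟨by rw [zero_mulVec, sym_zero_left hf], by
            rw [map_zero, zero_mulVec, sym_zero_left hf, zero_smul, add_zero]⟩
           add_mem' := fun {P Q} hP hQ => ⟨by
              rw [add_mulVec, hf.bilinear.add_left, hP.1, hQ.1, add_zero], by
              rw [add_mulVec, hf.bilinear.add_left, map_add, add_smul]
              conv_lhs => rw [hP.2, hQ.2]
              abel⟩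
           smul_mem' := fun a P hP => ⟨by rw [smul_mulVec, hf.bilinear.smul_left, hP.1, mul_zero], by
              rw [smul_mulVec, hf.bilinear.smul_left, map_smul, mul_smul, ← smul_add, ← hP.2]⟩ }, fun B => Iff.rfl⟩
      have hZN : ∀ a b, blk s a b Z ∈ N := fun a b => by
        obtain ⟨m, w, hw, hw', hd⟩ := hfrm a b
        rw [hd, hN, hψfrm m w hw hw', H.frm_e' hw']
        simp [hf.bilinear.add_left, hf.bilinear.smul_left, H.ee, H.pair, hf.symm w e, hf.symm w e', hw, hw']
      have hD : blk s x y (Z * emb l A - emb l A * Z) ∈ N := by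
        rw [show blk s x y (Z * emb l A - emb l A * Z) = blk s x y (Z * emb l A) - blk s x y (emb l A * Z) from rfl,
          emb_left, emb_right]
        exact N.sub_mem (blk_slotMap_mem hl.symm _ hZN x y) (blk_slotMap_mem hl.symm _ hZN x y)
      obtain ⟨hDe, hDd⟩ := (hN _).mp hD
      obtain ⟨B, hB⟩ : ∃ B, B = blk s x y (Z * emb l A - emb l A * Z) := ⟨_, rfl⟩
      rw [← hB] at hDe ⊢
      obtain ⟨w, hw⟩ : ∃ w, w = B *ᵥ e' - f (B *ᵥ e') e' • e := ⟨_, rfl⟩
      have hwe : f e w = 0 := by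
        rw [hw, sym_sub_right hf, hf.bilinear.smul_right, hf.symm e, hDe, H.ee]; ring
      have hwe' : f e' w = 0 := by
        rw [hw, sym_sub_right hf, hf.bilinear.smul_right, H.pair', hf.symm e']; ring
      have hu0 : ∀ u, f e u = 0 → f e' u = 0 → f u u ≠ 0 → ((4 ≤ k ∧ f u u = -(2 * c)) ∨ k = 3) → f w u = 0 := by
        intro u hu hu' huu hcase
        have h1 := congrArg (blk s x y) (hscal l hl A u hu hu' huu hcase)
        rw [blk_slotMap_same, ← hB, blk_zero] at h1
        change (f (B *ᵥ e') u / f u u) • wd f e u = 0 at h1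
        rw [smul_eq_zero, div_eq_zero_iff] at h1
        rcases h1 with (h1 | h1) | h1
        · rw [hw, sym_sub_left hf, hf.bilinear.smul_left, h1, hu]; ring
        · exact absurd h1 huu
        · exact absurd h1 (Fr.Shape.ne_zero H (Or.inr (Or.inr ⟨u, hu, hu', huu, rfl⟩)))
      have hw0 : w = 0 := by
        by_cases h5 : 4 ≤ k
        · exact H.perp_adm h5 hwe hwe' fun u hu hu' huu => hu0 u hu hu'
            (by rw [huu]; exact neg_ne_zero.mpr (mul_ne_zero h2 H.c_ne)) (Or.inl ⟨h5, huu⟩)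
        · obtain ⟨r, hr, hr', hrr⟩ := H.exists_r
          rw [H.line_of_three (hk3' h5) hr hr' hrr hwe hwe', hu0 r hr hr' hrr (Or.inr (hk3' h5)), zero_div, zero_smul]
      rw [hψW, ← hw, hw0]
      exact Matrix.ext_iff_mulVec.mpr fun z => by rw [wd_mulVec hf, sym_zero_right hf]; simp
    rw [map_sub, emb_left, emb_right, slotMap_comm hl.symm, slotMap_comm hl.symm, ← emb_left, ← emb_right,
      sub_eq_zero] at hcomm
    exact hcomm
  obtain ⟨B, hB⟩ := C.slot_of_comm s hW
  obtain ⟨x₀⟩ : Nonempty (Idx (t + 1) k) := ⟨fun _ => ⟨0, by have := C.dim; omega⟩⟩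
  obtain ⟨m₀, v₀, hv₀, hv₀', hd₀⟩ := hfrm x₀ x₀
  have hBv : B = wd f e v₀ := by
    have h1 := congrArg (blk s x₀ x₀) hB
    rw [blk_slotMap_same, hd₀, hψfrm m₀ v₀ hv₀ hv₀'] at h1
    rw [h1]
    ext i j
    simp [blk, emb]
  obtain ⟨T, hT⟩ : ∃ T, T = slotEl s (eU hf h2 e v₀) := ⟨_, rfl⟩
  have hTm : T ∈ M := hT ▸ C.eich_mem s e v₀
  have hTR : H.Rad s (T.val - 1) := hT ▸ H.rad_eich hv₀
  have hE : H.EE s (Z - (T.val - 1)) := by
    refine H.ee_iff.mpr fun x y => ?_
    obtain ⟨m, v, hv, hv', hd⟩ := hfrm x y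
    have h1 := congrArg (blk s x y) hB
    rw [blk_slotMap_same, hd, hψfrm m v hv hv', hBv] at h1
    have e1 : blk s x y (T.val - 1) =
        blk s x y (emb s (wd f e v₀)) + (-(f v₀ v₀ / 2)) • blk s x y (emb s (outer f e e)) := by
      rw [hT, slotEl_val, eU_val hf h2 H.ee hv₀, eA_eq hf, TWMax.emb_add, TWMax.emb_add, emb_one, TWMax.emb_smul]
      ext i j
      simp [blk]
      ring
    rw [show blk s x y (Z - (T.val - 1)) = blk s x y Z - blk s x y (T.val - 1) from rfl, hd, e1, ← h1]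
    have hee : blk s x y (emb s (outer f e e)) ∈ Submodule.span F {outer f e e} := by
      have := blk_left s (outer f e e) (1 : Matrix (Idx (t + 1) k) (Idx (t + 1) k) F) x y
      rw [mul_one] at this
      rw [this]
      obtain ⟨a, ha⟩ : ∃ a : F, blk s x y (1 : Matrix (Idx (t + 1) k) (Idx (t + 1) k) F) = a • 1 := by
        refine ⟨if ∀ i, i ≠ s → x i = y i then 1 else 0, ?_⟩
        rw [← emb_one (F := F) (m := k) s]
        ext i j
        have hiff : Function.update x s j = Function.update y s j ↔ ∀ n, n ≠ s → x n = y n := by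
          constructor
          · intro h n hn; simpa [hn] using congrFun h n
          · intro h; funext n; by_cases hn : n = s
            · subst hn; simp
            · simp [hn, h n hn]
        simp [blk, emb, hiff, Matrix.one_apply]
        split_ifs <;> simp_all [Matrix.one_apply]
      rw [ha, Matrix.mul_smul, mul_one]
      exact Submodule.smul_mem _ _ (Submodule.mem_span_singleton_self _)
    rw [show m • outer f e e + wd f e v - (wd f e v + (-(f v₀ v₀ / 2)) • blk s x y (emb s (outer f e e))) =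
      m • outer f e e - (-(f v₀ v₀ / 2)) • blk s x y (emb s (outer f e e)) by abel]
    exact Submodule.sub_mem _ (Submodule.smul_mem _ _ (Submodule.mem_span_singleton_self _))
      (Submodule.smul_mem _ _ hee)
  refine ⟨eU hf h2 e v₀, eU_iso hf h2 e v₀, hT ▸ ?_⟩
  have hg0 : g.val = T.val := by
    have hZT : Z - (T.val - 1) = (g * T⁻¹).val - 1 := by
      have e1 : Z - (T.val - 1) = (Z - (T.val - 1)) * T⁻¹.val := by
        obtain ⟨hA, hB'⟩ := H.rad_ee hTR hE
        rw [← Units.mul_left_inj T, Units.inv_mul_cancel_right]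
        rw [mul_sub, mul_one, sub_eq_zero] at hB'
        exact hB'
      rw [e1, Units.val_mul, hZdef, sub_sub_sub_cancel_right, sub_mul, Units.mul_inv]
    have hD : Z - (T.val - 1) ∈ H.PS s :=
      ⟨⟨g * T⁻¹, M.mul_mem hg (M.inv_mem hTm), by rw [hZT]; abel⟩, H.ee_iff.mp hE⟩
    have h0 := hPS _ hD
    rwa [hZdef, sub_sub_sub_cancel_right, sub_eq_zero] at h0
  exact Units.ext hg0

end CfsgLib.Classical22.OPow
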