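/-
An element fixing a singular slot subspace pointwise lies in that slot, unless the group is big.
-/
import Cfsg.Agent.Lib.Classical22.OrthPower.RadThm

set_option autoImplicit false
set_option linter.unusedSectionVars false
set_option linter.unusedSimpArgs false

namespace CfsgLib.Classical22.OPow

open Matrix CfsgLib.Transvec CfsgLib.Classical22.TensorMax CfsgLib.Classical22.TensorMax.SympO
open CfsgLib.Classical22.TensorMax.SpO (sym_outer sym_zero_left sym_zero_right sym_sub_left sym_sub_right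
  sym_neg_left)
open CfsgLib.Classical22.TensorMax.OO (eA eA_mulVec eA_iso eA_mul_neg sym_neg_right)
open CfsgLib.Classical22.TWMax (Idx pv emb emb_mul emb_comm emb_mulVec_pv slotEl slotEl_val slotEl_mul)
open scoped MatrixGroups

variable {F : Type*} [Field F] [Fintype F] {t k : ℕ} {f : (Fin k → F) → (Fin k → F) → F}
  {M : Subgroup (GL (Idx (t + 1) k) F)}

omit [Fintype F] in
/-- Elements of different slots commute. -/
lemma slotEl_commute {i j : Fin (t + 1)} (h : i ≠ j) (A B : GL (Fin k) F) :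
    slotEl i A * slotEl j B = slotEl j B * slotEl i A :=
  Units.ext (by rw [Units.val_mul, Units.val_mul, slotEl_val, slotEl_val]; exact emb_comm h _ _)

variable {C : Ctx f M} {e e' : Fin k → F} {c : F} (H : Fr C e e' c) {s : Fin (t + 1)}
include H

/-- A vector killed by the dual projection and all lowering elements lies in the singular slot subspace. -/
lemma Fr.pe_of_killed {x : Idx (t + 1) k → F} (h0 : H.qe s *ᵥ x = 0)
    (h : ∀ w, f e w = 0 → emb s (eA f e w) *ᵥ x = x) : H.pe s *ᵥ x = x := by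
  have hf := C.sym
  have h2 := C.two
  refine sub_eq_zero.mp (bil_nd hf fun v => ?_)
  have hu : ∀ z : Fin k → F, ∃ a ∈ (Set.univ : Set (Fin k → F)), ∃ b ∈ (Set.univ : Set (Fin k → F)),
      ∃ d ∈ (Set.univ : Set (Fin k → F)), z = a + b + d :=
    fun z => ⟨z, trivial, 0, trivial, 0, trivial, by simp⟩
  have hadj : ∀ w, f e w = 0 → ∀ u, bil f (emb s (eA f e w) *ᵥ x) u = bil f x (emb s (eA f e (-w)) *ᵥ u) :=
    fun w hw u => emb_dual hf (fun p q => by
      have hw' : f e (-w) = 0 := by rw [sym_neg_right hf, hw, neg_zero]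
      conv_rhs => rw [← eA_iso hf h2 H.ee hw p (eA f e (-w) *ᵥ q)]
      rw [mulVec_mulVec, eA_mul_neg hf h2 H.ee hw, one_mulVec]) s x u
  have hpe : ∀ u, bil f (H.pe s *ᵥ x) u = bil f x (H.qe s *ᵥ u) := fun u =>
    emb_dual hf (outer_dual hf e e') s x u
  refine pv_induction hu (P := fun v => bil f (H.pe s *ᵥ x - x) v = 0) ?_ ?_ ?_ ?_ v
  · exact bil_zero_right _
  · intro a b ha hb; rw [bil_add_right, ha, hb, add_zero]
  · intro a b hb; rw [bil_smul_right, hb, mul_zero]
  intro ys _
  have hE : ∀ a : F, bil f x (pv (Function.update ys s (a • e))) = 0 := fun a => by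
    have h1 := H.qe_dual (s := s) x (pv (Function.update ys s (a • e)))
    rw [h0, bil_zero_left, Fr.pe, emb_mulVec_pv, Function.update_idem, Function.update_self, sym_outer hf,
      hf.bilinear.smul_left, H.pair, mul_one] at h1
    exact h1.symm
  obtain ⟨r, hr, hr', hdec⟩ := H.dec (ys s)
  obtain ⟨w, hw⟩ : ∃ w, w = r + (f (ys s) e') • e := ⟨_, rfl⟩
  have hwe : f e w = 0 := by rw [hw, hf.bilinear.add_right, hf.bilinear.smul_right, hr, H.ee]; ring
  -- the partner is moved onto the component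
  have h1 := hadj w hwe (pv (Function.update ys s e'))
  rw [h w hwe, emb_mulVec_pv, Function.update_idem, Function.update_self] at h1
  have e1 : eA f e (-w) *ᵥ e' = e' - w + (f (ys s) e' - f w w / 2) • e := by
    rw [eA_mulVec hf, H.pair', show f (-w) (-w) = f w w by rw [sym_neg_left hf, sym_neg_right hf, neg_neg],
      sym_neg_right hf, show f e' w = f (ys s) e' by rw [hw, hf.bilinear.add_right, hf.bilinear.smul_right, hr', H.pair', zero_add, mul_one]]
    module
  rw [e1, pv_add, pv_sub, bil_add_right, bil_sub_right, hE, add_zero] at h1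
  have h2' : bil f x (pv (Function.update ys s w)) = 0 := by linear_combination h1
  rw [bil_sub_left, hpe, Fr.qe, emb_mulVec_pv, sym_outer hf, ← bil_sub_right]
  conv_lhs => arg 3; arg 2; rw [← pv_self ys s]
  rw [← pv_sub, show f (ys s) e • e' - ys s = (-1 : F) • w by
    rw [hw]
    linear_combination (norm := module) (-1 : F) • hdec, pv_smul, bil_smul_right, h2', mul_zero]

/-- An element fixing a singular slot subspace pointwise is a slot element, unless the group is big. -/
theorem Fr.fix_slot (ht : 1 ≤ t) (hbig : ¬ Big f M) {g : GL (Idx (t + 1) k) F} (hg : g ∈ M) (hfix : H.Fix s g) :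
    ∃ B ∈ isoF f, g = slotEl s B := by
  have hf := C.sym
  have h2 := C.two
  have hfixi := H.fix_inv hfix
  -- the conjugates of the lowering elements lie in the slot
  have hT : ∀ w, f e w = 0 → ∃ A, g * slotEl s (eU hf h2 e w) * g⁻¹ = slotEl s A := by
    intro w hw
    have hw' : f e (-w) = 0 := by rw [sym_neg_right hf, hw, neg_zero]
    obtain ⟨T, hT⟩ : ∃ T, T = slotEl s (eU hf h2 e w) := ⟨_, rfl⟩
    have hinv : T⁻¹ = slotEl s (eU hf h2 e (-w)) := inv_eq_of_mul_eq_one_right (by
      rw [hT, slotEl_mul]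
      refine Units.ext ?_
      rw [slotEl_val, Units.val_mul, eU_val hf h2 H.ee hw, eU_val hf h2 H.ee hw', eA_mul_neg hf h2 H.ee hw,
        TWMax.emb_one, Units.val_one])
    have hTm : T ∈ M := hT ▸ C.eich_mem s e w
    have hX : H.Rad s ((g * T * g⁻¹).val - 1) := by
      have := H.rad_conj hg hfix.stab (hT ▸ H.rad_eich (s := s) hw : H.Rad s (T.val - 1))
      rwa [mul_sub, sub_mul, mul_one, Units.mul_inv, ← Units.val_mul, ← Units.val_mul] at this
    have hX' : H.Rad s (T⁻¹.val - 1) := hinv ▸ H.rad_eich hw'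
    have hR : H.Rad s ((g * T * g⁻¹ * T⁻¹).val - 1) := by
      have h1 := (hX.add H hX').add H (H.rad_mul hX hX').rad
      convert h1 using 1
      rw [Units.val_mul (g * T * g⁻¹) T⁻¹]
      noncomm_ring
    obtain ⟨B, -, hB⟩ := H.rad_slot ht hbig (M.mul_mem (M.mul_mem (M.mul_mem hg hTm) (M.inv_mem hg))
      (M.inv_mem hTm)) hR
    refine ⟨B * eU hf h2 e w, ?_⟩
    rw [← slotEl_mul, ← hB, ← hT, inv_mul_cancel_right]
  refine C.slotEl_of_comm s hg fun l hl v hv => ?_
  obtain ⟨a, ha⟩ : ∃ a, a = slotEl l (eG hf v) := ⟨_, rfl⟩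
  rw [← ha]
  have ham : a ∈ M := ha ▸ hv.2
  have haa : a * a = 1 := by
    rw [ha, slotEl_mul, eG_mul_self]; exact Units.ext (by rw [slotEl_val, Units.val_one, TWMax.emb_one, Units.val_one])
  have hcm : H.Cm s a := ha ▸ H.cm_slot hl _
  obtain ⟨d, hd⟩ : ∃ d, d = g⁻¹ * a * g * a := ⟨_, rfl⟩
  have hdm : d ∈ M := hd ▸ M.mul_mem (M.mul_mem (M.mul_mem (M.inv_mem hg) ham) hg) ham
  have hdfix : H.Fix s d := by
    rw [Fr.Fix] at hfix hfixi ⊢
    rw [hd, Units.val_mul, Units.val_mul, Units.val_mul, mul_assoc, hcm.1, ← mul_assoc, mul_assoc (g⁻¹.val * a.val),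
      hfix, mul_assoc g⁻¹.val a.val, hcm.1, ← mul_assoc, hfixi, mul_assoc, ← Units.val_mul, haa, Units.val_one, mul_one]
  -- it commutes with the lowering elements
  have hcomm : ∀ w, f e w = 0 → d * slotEl s (eU hf h2 e w) = slotEl s (eU hf h2 e w) * d := by
    intro w hw
    obtain ⟨A, hA⟩ := hT w hw
    obtain ⟨T, hT⟩ : ∃ T, T = slotEl s (eU hf h2 e w) := ⟨_, rfl⟩
    rw [← hT] at hA ⊢
    have c1 : Commute a T := ha ▸ hT ▸ slotEl_commute hl _ _
    have c2 : Commute (g⁻¹ * a * g) T := by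
      have h3 : Commute a (g * T * g⁻¹) := hA ▸ ha ▸ slotEl_commute hl _ _
      have := h3.map (MulAut.conj g⁻¹).toMonoidHom
      simpa [mul_assoc] using this
    exact hd ▸ (c2.mul_left c1).eq
  have hR : H.Rad s (d.val - 1) := by
    refine ⟨by rw [sub_mul, one_mul, (hdfix : d.val * H.pe s = H.pe s), sub_self],
      by rw [mul_sub, mul_one, H.fix_dual hdm hdfix, sub_self], ?_⟩
    refine Matrix.ext_iff_mulVec.mpr fun v => ?_
    rw [mul_assoc, zero_mulVec, ← mulVec_mulVec, sub_mulVec, one_mulVec, sub_eq_zero, eq_comm]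
    refine H.pe_of_killed ?_ fun w hw => ?_
    · rw [mulVec_mulVec, ← mul_assoc, mul_sub (H.qe s), mul_one, H.fix_dual hdm hdfix, sub_self, zero_mul, zero_mulVec]
    · have h3 := congrArg Units.val (hcomm w hw)
      rw [Units.val_mul, Units.val_mul, slotEl_val, eU_val hf h2 H.ee hw] at h3
      have h4 : (emb s (eA f e w) - 1) * (1 - H.qe s) = H.pe s * ((emb s (eA f e w) - 1) * (1 - H.qe s)) := by
        have h5 := (H.rad_eich (s := s) hw).mid
        rwa [slotEl_val, eU_val hf h2 H.ee hw, sub_mul (1 : Matrix _ _ F) (H.pe s), one_mul, sub_mul, sub_eq_zero,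
          mul_assoc] at h5
      have h6 : (emb s (eA f e w) - 1) * ((d.val - 1) * (1 - H.qe s)) = 0 := by
        calc (emb s (eA f e w) - 1) * ((d.val - 1) * (1 - H.qe s))
            = d.val * ((emb s (eA f e w) - 1) * (1 - H.qe s)) - (emb s (eA f e w) - 1) * (1 - H.qe s) := by
              rw [← mul_assoc, ← mul_assoc, mul_sub _ d.val 1, mul_one, sub_mul _ 1 d.val, one_mul, ← h3,
                mul_sub d.val, mul_one, sub_mul _ _ (1 - H.qe s)]
          _ = 0 := by rw [h4, ← mul_assoc, (hdfix : d.val * H.pe s = H.pe s), sub_self]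
      rw [← sub_eq_zero]
      calc emb s (eA f e w) *ᵥ ((d.val - 1) * (1 - H.qe s)) *ᵥ v - ((d.val - 1) * (1 - H.qe s)) *ᵥ v
          = ((emb s (eA f e w) - 1) * ((d.val - 1) * (1 - H.qe s))) *ᵥ v := by
            rw [sub_mul (emb s (eA f e w)) 1, one_mul, sub_mulVec, ← mulVec_mulVec _ (emb s (eA f e w))]
        _ = 0 := by rw [h6, zero_mulVec]
  -- it is an involution, hence trivial
  obtain ⟨B, -, hB⟩ := H.rad_slot ht hbig hdm hR
  have hda : Commute d a := hB ▸ ha ▸ slotEl_commute hl.symm _ _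
  have hdd : d * d = 1 := by
    have h1 : (d * a) * (d * a) = 1 := by
      rw [hd, mul_assoc (g⁻¹ * a * g), haa, mul_one,
        show g⁻¹ * a * g * (g⁻¹ * a * g) = g⁻¹ * (a * a) * g by group, haa, mul_one, inv_mul_cancel]
    rwa [mul_assoc, ← mul_assoc a, ← hda.eq, mul_assoc d a, haa, mul_one] at h1
  have hd1 : d = 1 := by
    obtain ⟨X, hX⟩ : ∃ X, X = d.val - 1 := ⟨_, rfl⟩
    rw [← hX] at hR
    have hdv : d.val = 1 + X := by rw [hX]; abel
    have hE := H.rad_mul hR hR
    have h4 := congrArg Units.val hdd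
    rw [Units.val_mul, Units.val_one, hdv] at h4
    have h5 : (2 : F) • X + X * X = 0 := by
      rw [two_smul]
      linear_combination (norm := noncomm_ring) h4
    have h6 := congrArg (X * ·) h5
    simp only [mul_add, Matrix.mul_smul, (H.rad_ee hR hE).1, add_zero, mul_zero] at h6
    rw [(smul_eq_zero.mp h6).resolve_left h2, add_zero, smul_eq_zero] at h5
    exact Units.ext (by rw [hdv, h5.resolve_left h2, add_zero, Units.val_one])
  rw [hd, mul_eq_one_iff_eq_inv, inv_eq_of_mul_eq_one_right haa, mul_assoc, inv_mul_eq_iff_eq_mul] at hd1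
  exact hd1.symm

end CfsgLib.Classical22.OPow
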