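/-
Matrices split at one slot, and isometries of the tensor power in that language.
-/
import Cfsg.Agent.Lib.Classical22.OrthPower.Schur
import Cfsg.Agent.Lib.Classical22.OrthOrthTensor.Pair

set_option autoImplicit false
set_option linter.unusedSectionVars false
set_option linter.unusedSimpArgs false

namespace CfsgLib.Classical22.OPow

open Matrix Kronecker CfsgLib.Transvec CfsgLib.Classical22.TensorMax CfsgLib.Classical22.TensorMax.SympO
open CfsgLib.Classical22.TensorMax.SpO (sym_dot sym_eq sym_zero_left sym_gram_mul_inv)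
open CfsgLib.Classical22.TWMax (Idx pv tmat tmat_mul tmat_mulVec emb embL slotE slotE_apply flatE TWData tGL tGL_apply
  slotEl slotEl_val)
open CfsgLib.Classical22.TPow (slotA flatA slotA_tmat slotA_emb_same slotA_emb_other pG)
open scoped MatrixGroups

variable {F : Type*} [Field F] {t k : ℕ}

/-- A matrix of one slot times a matrix of the other slots. -/
noncomputable def tens (s : Fin (t + 1)) (A : Matrix (Fin k) (Fin k) F) (G : Matrix (Idx t k) (Idx t k) F) :
    Matrix (Idx (t + 1) k) (Idx (t + 1) k) F :=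
  (slotA s).symm (flatA t k G ⊗ₖ A)

lemma tens_apply (s : Fin (t + 1)) (A : Matrix (Fin k) (Fin k) F) (G : Matrix (Idx t k) (Idx t k) F)
    (x y : Idx (t + 1) k) :
    tens s A G x y = G (fun j => x (s.succAbove j)) (fun j => y (s.succAbove j)) * A (x s) (y s) := by
  simp [tens, slotA, flatA, Matrix.reindexAlgEquiv_apply, slotE_apply]

lemma tens_mul (s : Fin (t + 1)) (A B : Matrix (Fin k) (Fin k) F) (G K : Matrix (Idx t k) (Idx t k) F) :
    tens s A G * tens s B K = tens s (A * B) (G * K) := by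
  rw [tens, tens, tens, ← map_mul, ← Matrix.mul_kronecker_mul, ← map_mul]

lemma tens_emb (s : Fin (t + 1)) (A : Matrix (Fin k) (Fin k) F) : tens s A 1 = emb s A := by
  rw [tens, map_one, ← slotA_emb_same, AlgEquiv.symm_apply_apply]

lemma tens_emb_other (s : Fin (t + 1)) (j : Fin t) (B : Matrix (Fin k) (Fin k) F) :
    tens s 1 (emb j B) = emb (s.succAbove j) B := by
  rw [tens, ← slotA_emb_other, AlgEquiv.symm_apply_apply]

lemma tens_one (s : Fin (t + 1)) : tens s (1 : Matrix (Fin k) (Fin k) F) (1 : Matrix (Idx t k) (Idx t k) F) = 1 := by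
  rw [tens_emb, TWMax.emb_one]

lemma tens_tmat (s : Fin (t + 1)) (gs : Fin (t + 1) → Matrix (Fin k) (Fin k) F) :
    tens s (gs s) (tmat fun j => gs (s.succAbove j)) = tmat gs := by
  rw [tens, ← slotA_tmat, AlgEquiv.symm_apply_apply]

lemma tens_add_left (s : Fin (t + 1)) (A B : Matrix (Fin k) (Fin k) F) (G : Matrix (Idx t k) (Idx t k) F) :
    tens s (A + B) G = tens s A G + tens s B G := by
  ext x y; simp [tens_apply, mul_add]

lemma tens_add_right (s : Fin (t + 1)) (A : Matrix (Fin k) (Fin k) F) (G K : Matrix (Idx t k) (Idx t k) F) :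
    tens s A (G + K) = tens s A G + tens s A K := by
  ext x y; simp [tens_apply, add_mul]

lemma tens_sub_right (s : Fin (t + 1)) (A : Matrix (Fin k) (Fin k) F) (G K : Matrix (Idx t k) (Idx t k) F) :
    tens s A (G - K) = tens s A G - tens s A K := by
  ext x y; simp [tens_apply, sub_mul]

lemma tens_sub_left (s : Fin (t + 1)) (A B : Matrix (Fin k) (Fin k) F) (G : Matrix (Idx t k) (Idx t k) F) :
    tens s (A - B) G = tens s A G - tens s B G := by
  ext x y; simp [tens_apply, mul_sub]

lemma tens_smul_left (s : Fin (t + 1)) (a : F) (A : Matrix (Fin k) (Fin k) F) (G : Matrix (Idx t k) (Idx t k) F) :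
    tens s (a • A) G = a • tens s A G := by
  ext x y; simp [tens_apply]; ring

lemma tens_smul_right (s : Fin (t + 1)) (a : F) (A : Matrix (Fin k) (Fin k) F) (G : Matrix (Idx t k) (Idx t k) F) :
    tens s A (a • G) = a • tens s A G := by
  ext x y; simp [tens_apply]; ring

lemma tens_zero_left (s : Fin (t + 1)) (G : Matrix (Idx t k) (Idx t k) F) : tens s 0 G = 0 := by
  ext x y; simp [tens_apply]

lemma tens_zero_right (s : Fin (t + 1)) (A : Matrix (Fin k) (Fin k) F) : tens s A 0 = 0 := by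
  ext x y; simp [tens_apply]

lemma tens_transpose (s : Fin (t + 1)) (A : Matrix (Fin k) (Fin k) F) (G : Matrix (Idx t k) (Idx t k) F) :
    (tens s A G)ᵀ = tens s Aᵀ Gᵀ := by
  ext x y; simp [tens_apply]

lemma blk_tens (s : Fin (t + 1)) (A : Matrix (Fin k) (Fin k) F) (G : Matrix (Idx t k) (Idx t k) F)
    (x y : Idx (t + 1) k) :
    blk s x y (tens s A G) = G (fun j => x (s.succAbove j)) (fun j => y (s.succAbove j)) • A := by
  ext i j
  simp [blk, tens_apply, Fin.succAbove_ne]

lemma tens_inj (s : Fin (t + 1)) {A : Matrix (Fin k) (Fin k) F} (hA : A ≠ 0) {G K : Matrix (Idx t k) (Idx t k) F}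
    (h : tens s A G = tens s A K) : G = K := by
  obtain ⟨i, hi⟩ := Function.ne_iff.mp hA
  obtain ⟨j, hij⟩ := Function.ne_iff.mp hi
  ext a b
  have h1 := congrFun (congrFun h (Fin.insertNth s i a)) (Fin.insertNth s j b)
  simp [tens_apply] at h1
  exact h1.resolve_right hij

/-- A matrix with all blocks at one slot in the span of two independent matrices. -/
theorem exists_tens_of_pair (s : Fin (t + 1)) {A B : Matrix (Fin k) (Fin k) F}
    {X : Matrix (Idx (t + 1) k) (Idx (t + 1) k) F} (h : ∀ x y, ∃ a b : F, blk s x y X = a • A + b • B) :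
    ∃ G S, X = tens s A G + tens s B S := by
  rcases k.eq_zero_or_pos with hk | hk
  · subst hk
    exact ⟨0, 0, Matrix.ext fun x _ => (x s).elim0⟩
  obtain ⟨o⟩ : Nonempty (Fin k) := ⟨⟨0, hk⟩⟩
  choose a b hab using h
  obtain ⟨G, hG⟩ : ∃ G : Matrix (Idx t k) (Idx t k) F,
      ∀ p q, G p q = a (Fin.insertNth s o p) (Fin.insertNth s o q) := ⟨fun p q => _, fun p q => rfl⟩
  obtain ⟨S, hS⟩ : ∃ S : Matrix (Idx t k) (Idx t k) F,
      ∀ p q, S p q = b (Fin.insertNth s o p) (Fin.insertNth s o q) := ⟨fun p q => _, fun p q => rfl⟩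
  refine ⟨G, S, blk_ext s fun x y => ?_⟩
  obtain ⟨x', hx'⟩ : ∃ x' : Idx (t + 1) k, x' = Fin.insertNth s o fun j => x (s.succAbove j) := ⟨_, rfl⟩
  obtain ⟨y', hy'⟩ : ∃ y' : Idx (t + 1) k, y' = Fin.insertNth s o fun j => y (s.succAbove j) := ⟨_, rfl⟩
  have e : ∀ (z : Idx (t + 1) k) i, Function.update (Fin.insertNth s o fun j => z (s.succAbove j)) s i =
      Function.update z s i := fun z i => funext fun m => by
    by_cases hm : m = s
    · subst hm; simp
    · obtain ⟨j, rfl⟩ := Fin.exists_succAbove_eq hm; simp [hm]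
  have hblk : blk s x y X = blk s x' y' X := by
    ext i j
    simp only [blk, hx', hy', e]
  rw [hblk, hab x' y', show blk s x y (tens s A G + tens s B S) =
    blk s x y (tens s A G) + blk s x y (tens s B S) from rfl, blk_tens, blk_tens, hG, hS, hx', hy']

lemma det_tens (s : Fin (t + 1)) (A : Matrix (Fin k) (Fin k) F) (G : Matrix (Idx t k) (Idx t k) F) :
    (tens s A G).det = G.det ^ k * A.det ^ (k ^ t) := by
  rw [tens, slotA, Matrix.reindexAlgEquiv_symm, Matrix.det_reindexAlgEquiv, det_kronecker, flatA,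
    Matrix.det_reindexAlgEquiv, Fintype.card_fin, Fintype.card_fin]

lemma det_slotEl (s : Fin (t + 1)) (B : GL (Fin k) F) : (slotEl s B).val.det = B.val.det ^ (k ^ t) := by
  rw [slotEl_val, ← tens_emb, det_tens, det_one, one_pow, one_mul]

variable {f : (Fin k → F) → (Fin k → F) → F}

section Iso
variable (hf : Cfsg.Geo.IsSymmetricForm f)
include hf

lemma pG_symm (T : ℕ) : (pG T f)ᵀ = pG T f := by
  have hg : (gram f)ᵀ = gram f := by
    ext i j
    have e := hf.symm (Pi.single j 1) (Pi.single i 1)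
    rw [sym_dot hf, sym_dot hf] at e
    simpa [mulVec_single_one, dotProduct_single] using e
  ext x y
  simp only [pG, tmat, transpose_apply]
  exact Finset.prod_congr rfl fun i _ => by
    conv_lhs => rw [← hg]
    rfl

lemma pG_tens (s : Fin (t + 1)) : tens s (gram f) (pG t f) = pG (t + 1) f := tens_tmat s fun _ => gram f

omit hf in
lemma piso_iff {T : ℕ} {g : GL (Idx T k) F} : PIso f g ↔ g.valᵀ * pG T f * g.val = pG T f := by
  have e : ∀ x y, bil f (g.val *ᵥ x) (g.val *ᵥ y) = ((g.valᵀ * pG T f * g.val) *ᵥ y) ⬝ᵥ x := fun x y => by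
    rw [bil, mul_assoc, ← mulVec_mulVec, ← mulVec_mulVec, mulVec_transpose, ← dotProduct_mulVec]
  constructor
  · intro h
    ext a b
    have h1 := h (Pi.single a 1) (Pi.single b 1)
    rw [e, bil] at h1
    simpa using h1
  · intro h x y
    rw [e, h, bil]

lemma det_sq_of_piso {T : ℕ} {g : GL (Idx T k) F} (h : PIso f g) : g.val.det * g.val.det = 1 := by
  have hu : IsUnit (pG T f).det := by
    refine Matrix.isUnit_det_of_right_inverse (B := tmat fun _ => (gram f)⁻¹) ?_
    rw [pG, tmat_mul]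
    simp only [sym_gram_mul_inv hf, TWMax.tmat_one]
  have h1 := congrArg Matrix.det (piso_iff.mp h)
  rw [det_mul, det_mul, det_transpose] at h1
  exact mul_right_cancel₀ hu.ne_zero (by linear_combination h1)

lemma det_isoF {A : GL (Fin k) F} (hA : A ∈ isoF f) : A.val.det * A.val.det = 1 := by
  have e : A.valᵀ * gram f * A.val = gram f := by
    ext a b
    have h1 := hA (Pi.single a 1) (Pi.single b 1)
    rw [sym_dot hf, sym_dot hf, mulVec_mulVec, dotProduct_mulVec, ← mulVec_transpose, mulVec_mulVec,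
      ← mul_assoc] at h1
    simpa using h1
  have hu : IsUnit (gram f).det := Matrix.isUnit_det_of_right_inverse (sym_gram_mul_inv hf)
  have h1 := congrArg Matrix.det e
  rw [det_mul, det_mul, det_transpose] at h1
  exact mul_right_cancel₀ hu.ne_zero (by linear_combination h1)

variable [Fintype F]

/-- The slot maps of a tensor wreath isometry are similitudes. -/
theorem sim_of_tw (h2 : (2 : F) ≠ 0) (h3 : 3 ≤ k) {g : GL (Idx (t + 1) k) F}
    {σ : Equiv.Perm (Fin (t + 1))} {gs : Fin (t + 1) → GL (Fin k) F} (hg : TWData g σ gs) (hiso : PIso f g) :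
    ∀ i, ∃ μ : F, μ ≠ 0 ∧ ∀ x y, f ((gs i).val *ᵥ x) ((gs i).val *ᵥ y) = μ * f x y := by
  classical
  obtain ⟨e, he0, hee⟩ := SpO.exists_singular_sym hf h2 h3
  obtain ⟨e', he', hp, -⟩ := OO.exists_partner_sym hf h2 he0 hee
  have key : ∀ xs ys : Fin (t + 1) → Fin k → F,
      ∏ i, f ((gs i).val *ᵥ xs (σ i)) ((gs i).val *ᵥ ys (σ i)) = ∏ i, f (xs i) (ys i) := fun xs ys => by
    have := hiso (pv xs) (pv ys)
    rwa [hg, hg, bil_pv hf, bil_pv hf] at this
  intro i
  obtain ⟨π, hπ⟩ : ∃ π : F, π = ∏ j ∈ Finset.univ.erase i, f ((gs j).val *ᵥ e) ((gs j).val *ᵥ e') := ⟨_, rfl⟩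
  have h1 : ∀ x y, f ((gs i).val *ᵥ x) ((gs i).val *ᵥ y) * π = f x y := fun x y => by
    have h := key (Function.update (fun _ => e) (σ i) x) (Function.update (fun _ => e') (σ i) y)
    rw [← Finset.mul_prod_erase _ _ (Finset.mem_univ i),
      Finset.prod_eq_single (s := Finset.univ) (σ i) (fun m _ hm => by
        rw [Function.update_of_ne hm, Function.update_of_ne hm, hp])
        (fun hn => absurd (Finset.mem_univ _) hn)] at h
    simp only [Function.update_self] at h
    rw [← h, hπ]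
    congr 1
    exact Finset.prod_congr rfl fun j hj => by
      rw [Function.update_of_ne (σ.injective.ne (Finset.ne_of_mem_erase hj)),
        Function.update_of_ne (σ.injective.ne (Finset.ne_of_mem_erase hj))]
  have hπ0 : π ≠ 0 := fun h => one_ne_zero (α := F) (by rw [← hp, ← h1 e e', h, mul_zero])
  exact ⟨π⁻¹, inv_ne_zero hπ0, fun x y => by rw [← h1 x y]; field_simp⟩

/-- A tensor wreath isometry is a product of isometries of the slots. -/
theorem isoF_of_tw (hk : Odd k) (h2 : (2 : F) ≠ 0) (h3 : 3 ≤ k) {g : GL (Idx (t + 1) k) F}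
    {σ : Equiv.Perm (Fin (t + 1))} {gs : Fin (t + 1) → GL (Fin k) F} (hg : TWData g σ gs) (hiso : PIso f g) :
    ∃ gs' : Fin (t + 1) → GL (Fin k) F, (∀ i, gs' i ∈ isoF f) ∧ TWData g σ gs' := by
  classical
  obtain ⟨e, he0, hee⟩ := SpO.exists_singular_sym hf h2 h3
  obtain ⟨e', he', hp, -⟩ := OO.exists_partner_sym hf h2 he0 hee
  have key : ∀ xs ys : Fin (t + 1) → Fin k → F,
      ∏ i, f ((gs i).val *ᵥ xs (σ i)) ((gs i).val *ᵥ ys (σ i)) = ∏ i, f (xs i) (ys i) := fun xs ys => by
    have := hiso (pv xs) (pv ys)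
    rwa [hg, hg, bil_pv hf, bil_pv hf] at this
  have hsim := sim_of_tw hf h2 h3 hg hiso
  choose μ hμ0 hμ using hsim
  have hμsq : ∀ i, ∃ β : F, β * β = μ i := fun i => by
    obtain ⟨A, hA⟩ : ∃ A, A = (gs i).val := ⟨_, rfl⟩
    have e1 : Aᵀ * gram f * A = μ i • gram f := by
      ext a b
      have h1 := hμ i (Pi.single a 1) (Pi.single b 1)
      rw [← hA, sym_dot hf, sym_dot hf, mulVec_mulVec, dotProduct_mulVec, ← mulVec_transpose, mulVec_mulVec,
        ← mul_assoc] at h1
      simpa using h1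
    have hu : IsUnit (gram f).det := Matrix.isUnit_det_of_right_inverse (sym_gram_mul_inv hf)
    have h1 := congrArg Matrix.det e1
    rw [det_mul, det_mul, det_transpose, det_smul, Fintype.card_fin] at h1
    obtain ⟨j, rfl⟩ := hk
    refine ⟨A.det / μ i ^ j, ?_⟩
    have h2' : A.det * A.det = μ i ^ (2 * j + 1) := mul_right_cancel₀ hu.ne_zero (by linear_combination h1)
    rw [div_mul_div_comm, h2', ← pow_add, show 2 * j + 1 = (j + j) + 1 by ring, pow_succ]
    field_simp [hμ0 i]
  choose β hβ using hμsq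
  have hβ0 : ∀ i, β i ≠ 0 := fun i h => hμ0 i (by rw [← hβ, h, mul_zero])
  have hprod : (∏ i, β i) = 1 ∨ (∏ i, β i) = -1 := by
    refine mul_self_eq_one_iff.mp ?_
    rw [← Finset.prod_mul_distrib, Finset.prod_congr rfl fun i _ => hβ i]
    have h := key (fun _ => e) (fun _ => e')
    simpa only [hμ, hp, mul_one, Finset.prod_const_one] using h
  obtain ⟨δ, hδ, hδp⟩ : ∃ δ : Fin (t + 1) → F, (∀ i, δ i * δ i = μ i) ∧ ∏ i, δ i = 1 := by
    rcases hprod with h | h
    · exact ⟨β, hβ, h⟩
    · refine ⟨Function.update β 0 (-β 0), fun i => ?_, ?_⟩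
      · by_cases hi : i = 0
        · subst hi; rw [Function.update_self, neg_mul_neg, hβ]
        · rw [Function.update_of_ne hi, hβ]
      · rw [Finset.prod_update_of_mem (Finset.mem_univ 0), neg_mul, ← Finset.erase_eq,
          Finset.mul_prod_erase _ _ (Finset.mem_univ 0), h, neg_neg]
  have hδ0 : ∀ i, δ i ≠ 0 := fun i h => hμ0 i (by rw [← hδ, h, mul_zero])
  obtain ⟨gs', hgs'⟩ : ∃ gs' : Fin (t + 1) → GL (Fin k) F, ∀ i, (gs' i).val = (δ i)⁻¹ • (gs i).val :=
    ⟨fun i => ⟨(δ i)⁻¹ • (gs i).val, δ i • (gs i)⁻¹.val,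
      by rw [Matrix.smul_mul, Matrix.mul_smul, Units.mul_inv, smul_smul, inv_mul_cancel₀ (hδ0 i), one_smul],
      by rw [Matrix.smul_mul, Matrix.mul_smul, Units.inv_mul, smul_smul, mul_inv_cancel₀ (hδ0 i), one_smul]⟩,
      fun i => rfl⟩
  refine ⟨gs', fun i x y => ?_, fun xs => ?_⟩
  · rw [hgs', smul_mulVec, smul_mulVec, hf.bilinear.smul_left, hf.bilinear.smul_right, hμ, ← hδ]
    have := hδ0 i
    field_simp
  · rw [hg]
    funext a
    simp only [pv, hgs', smul_mulVec, Pi.smul_apply, smul_eq_mul, Finset.prod_mul_distrib, Finset.prod_inv_distrib,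
      hδp, inv_one, one_mul]

end Iso

end CfsgLib.Classical22.OPow
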