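/-
An element stabilising a singular slot subspace splits into a slot part and a part on the other slots, up to a shear.
-/
import Cfsg.Agent.Lib.Classical22.OrthPower.FixThm
import Cfsg.Agent.Lib.Classical22.OrthPower.Tens

set_option autoImplicit false
set_option linter.unusedSectionVars false
set_option linter.unusedSimpArgs false

namespace CfsgLib.Classical22.OPow

open Matrix CfsgLib.Transvec CfsgLib.Classical22.TensorMax CfsgLib.Classical22.TensorMax.SympO
open CfsgLib.Classical22.TensorMax.SpO (sym_outer sym_zero_left sym_zero_right sym_sub_left sym_sub_right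
  sym_neg_left sym_adj_eq sym_gram_mul_inv sym_eq sym_quad_smul)
open CfsgLib.Classical22.TensorMax.OO (eA eA_mulVec sym_neg_right)
open CfsgLib.Classical22.TWMax (Idx pv emb emb_mul emb_one emb_smul slotEl slotEl_val slotEl_mul)
open CfsgLib.Classical22.TPow (pG)
open scoped MatrixGroups

variable {F : Type*} [Field F] {t k : ℕ} {f : (Fin k → F) → (Fin k → F) → F}

lemma outer_gram (hf : Cfsg.Geo.IsSymmetricForm f) (a b : Fin k → F) :
    (outer f a b)ᵀ * gram f = gram f * outer f b a := by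
  rw [← sym_adj_eq hf (outer_dual hf a b), adj, ← mul_assoc, ← mul_assoc, sym_gram_mul_inv hf, one_mul]

variable {M : Subgroup (GL (Idx (t + 2) k) F)} [Fintype F] {C : Ctx f M} {e e' : Fin k → F} {c : F}
  (H : Fr C e e' c) {s : Fin (t + 2)}
include H

/-- Conjugation by a stabilising element moves the slot stabiliser into the slot. -/
lemma Fr.stab_conj_slot (hbig : ¬ Big f M) {y : GL (Idx (t + 2) k) F} (hy : y ∈ M) (hs : H.Stab s y)
    {B : GL (Fin k) F} (hB : slotEl s B ∈ M) {α : F} (hα : α ≠ 0) (hBe : B.val *ᵥ e = α • e) :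
    ∃ B' : GL (Fin k) F, y.val * emb s B.val = emb s B'.val * y.val := by
  have hf := C.sym
  obtain ⟨x, hx⟩ : ∃ x, x = slotEl s B := ⟨_, rfl⟩
  have hxpe : x.val * H.pe s = α • H.pe s := by
    rw [hx, slotEl_val, Fr.pe, ← emb_mul, ← emb_smul]
    congr 1
    refine Matrix.ext_iff_mulVec.mpr fun z => ?_
    rw [← mulVec_mulVec, smul_mulVec, sym_outer hf, mulVec_smul, hBe, smul_comm]
  have hxi : x⁻¹.val * H.pe s = α⁻¹ • H.pe s := by
    have := congrArg (x⁻¹.val * ·) hxpe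
    simp only [← mul_assoc, Units.inv_mul, one_mul, Matrix.mul_smul] at this
    conv_rhs => rw [this]
    rw [smul_smul, inv_mul_cancel₀ hα, one_smul]
  have hyi : y⁻¹.val * H.pe s = H.pe s * y⁻¹.val * H.pe s := H.stab_inv hs
  obtain ⟨κ, hκ⟩ : ∃ κ, κ = y * x * y⁻¹ * x⁻¹ := ⟨_, rfl⟩
  have hfix : H.Fix s κ := by
    rw [Fr.Fix, hκ, Units.val_mul, mul_assoc, hxi, Matrix.mul_smul, Units.val_mul, Units.val_mul, mul_assoc,
      hyi, mul_assoc (H.pe s), ← mul_assoc (y.val * x.val), mul_assoc y.val, hxpe, Matrix.mul_smul, Matrix.smul_mul,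
      smul_smul, inv_mul_cancel₀ hα, one_smul, mul_assoc, ← mul_assoc (H.pe s), ← hyi, ← mul_assoc, Units.mul_inv,
      one_mul]
  have hxM : x ∈ M := hx ▸ hB
  obtain ⟨B₀, -, hB₀⟩ := H.fix_slot (by omega) hbig
    (hκ ▸ M.mul_mem (M.mul_mem (M.mul_mem hy hxM) (M.inv_mem hy)) (M.inv_mem hxM)) hfix
  refine ⟨B₀ * B, ?_⟩
  have e1 : y * x = slotEl s (B₀ * B) * y := by
    rw [← slotEl_mul, ← hB₀, ← hx, hκ]; group
  have := congrArg Units.val e1
  rwa [Units.val_mul, Units.val_mul, hx, slotEl_val, slotEl_val] at this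

/-- The splitting of an element stabilising a singular slot subspace, up to a multiplier. -/
theorem Fr.stab_split₀ (hbig : ¬ Big f M) {y : GL (Idx (t + 2) k) F} (hy : y ∈ M) (hs : H.Stab s y) :
    ∃ (C₁ : Matrix (Fin k) (Fin k) F) (β μ : F) (G S : Matrix (Idx (t + 1) k) (Idx (t + 1) k) F),
      IsUnit C₁.det ∧ y.val = tens s C₁ G + tens s (C₁ * outer f e e) S ∧ β ≠ 0 ∧ μ ≠ 0 ∧ C₁ *ᵥ e = β • e ∧
      (∀ x, f (C₁ *ᵥ x) e = μ * f x e) ∧ y.val * H.pe s = β • tens s (outer f e e') G ∧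
      Gᵀ * pG (t + 1) f * G = (β * μ)⁻¹ • pG (t + 1) f := by
  classical
  have hf := C.sym
  have h2 := C.two
  have hd := C.dim
  -- the matrices moved into the slot
  obtain ⟨𝒳, h𝒳⟩ : ∃ 𝒳 : Submodule F (Matrix (Fin k) (Fin k) F), ∀ X, X ∈ 𝒳 ↔
      ∃ X', y.val * emb s X = emb s X' * y.val :=
    ⟨{ carrier := {X | ∃ X', y.val * emb s X = emb s X' * y.val}
       zero_mem' := ⟨0, by rw [emb_zero, mul_zero, zero_mul]⟩
       add_mem' := fun {A B} hA hB => by
        obtain ⟨A', hA⟩ := hA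
        obtain ⟨B', hB⟩ := hB
        exact ⟨A' + B', by rw [TWMax.emb_add, TWMax.emb_add, mul_add, add_mul, hA, hB]⟩
       smul_mem' := fun a A hA => by
        obtain ⟨A', hA⟩ := hA
        exact ⟨a • A', by rw [emb_smul, emb_smul, Matrix.mul_smul, Matrix.smul_mul, hA]⟩ }, fun X => Iff.rfl⟩
  have hmul : ∀ A ∈ 𝒳, ∀ B ∈ 𝒳, A * B ∈ 𝒳 := fun A hA B hB => by
    obtain ⟨A', hA⟩ := (h𝒳 A).mp hA
    obtain ⟨B', hB⟩ := (h𝒳 B).mp hB
    exact (h𝒳 _).mpr ⟨A' * B', by rw [emb_mul, emb_mul, ← mul_assoc, hA, mul_assoc, hB, ← mul_assoc]⟩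
  have h1𝒳 : (1 : Matrix (Fin k) (Fin k) F) ∈ 𝒳 := (h𝒳 _).mpr ⟨1, by rw [emb_one, one_mul, mul_one]⟩
  have hgen : ∀ (B : GL (Fin k) F) (α : F), slotEl s B ∈ M → α ≠ 0 → B.val *ᵥ e = α • e → B.val ∈ 𝒳 :=
    fun B α hB hα hBe => by
      obtain ⟨B', hB'⟩ := H.stab_conj_slot hbig hy hs hB hα hBe
      exact (h𝒳 _).mpr ⟨B'.val, hB'⟩
  have hN : ∀ w, f e w = 0 → eA f e w ∈ 𝒳 := fun w hw => by
    rw [← eU_val hf h2 H.ee hw]
    exact hgen _ 1 (C.eich_mem s e w) one_ne_zero (by rw [eU_val hf h2 H.ee hw, OO.eA_self hf H.ee hw, one_smul])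
  obtain ⟨r₀, hr₀, hr₀', hrr₀⟩ := H.exists_r
  have hee : outer f e e ∈ 𝒳 := by
    have e1 : outer f e e = (-(f r₀ r₀))⁻¹ • (eA f e r₀ + eA f e (-r₀) - (2 : F) • 1) := by
      refine Matrix.ext_iff_mulVec.mpr fun z => ?_
      simp only [smul_mulVec, sub_mulVec, add_mulVec, one_mulVec, eA_mulVec hf, sym_outer hf, sym_neg_left hf,
        sym_neg_right hf, neg_neg]
      match_scalars <;> field_simp <;> ring
    rw [e1]
    exact 𝒳.smul_mem _ (𝒳.sub_mem (𝒳.add_mem (hN r₀ hr₀)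
      (hN _ (by rw [sym_neg_right hf, hr₀, neg_zero]))) (𝒳.smul_mem _ h1𝒳))
  -- the commutant
  have hcent : ∀ A : Matrix (Fin k) (Fin k) F, (∀ X ∈ 𝒳, A * X = X * A) →
      ∃ a b : F, A = a • 1 + b • outer f e e := by
    intro A hA
    have hq : k = 3 → 3 < Fintype.card F := fun h => by
      have := C.small h
      rw [Nat.card_eq_fintype_card] at this
      omega
    obtain ⟨a, b, v, hv, hv', hd'⟩ := commutant_root hf h2 hd hq H.ee H.ee'' H.pair fun w hw => (hA _ (hN w hw)).symm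
    refine ⟨a, b, ?_⟩
    suffices hv0 : v = 0 by
      rw [hd', hv0, show wd f e (0 : Fin k → F) = 0 from Matrix.ext_iff_mulVec.mpr fun z => by
        rw [wd_mulVec hf, sym_zero_right hf]; simp, add_zero]
    by_cases h5 : 4 ≤ k
    · refine H.perp_adm h5 hv hv' fun u hu hu' huv => ?_
      have huu : f u u ≠ 0 := by rw [huv]; exact neg_ne_zero.mpr (mul_ne_zero h2 H.c_ne)
      have hadm : slotEl s (eG hf u) ∈ M := by
        refine (C.adm_of_sq (H.flip s) huu ?_ s).2
        have hv : f (e - c • e') (e - c • e') = -(2 * c) := by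
          simp only [sym_sub_left hf, sym_sub_right hf, hf.bilinear.smul_left, hf.bilinear.smul_right, H.ee,
            H.ee'', H.pair, H.pair']
          ring
        rw [hv, huv]; exact ⟨_, rfl⟩
      have h1 := hA _ (hgen _ (-1) hadm (neg_ne_zero.mpr one_ne_zero) (by rw [eG_perp hf huu hu, neg_one_smul]))
      have h3 := H.eps_diff (l := a) (m := b) (v := v) hu huu
      rw [← hd', ← h1, mul_assoc A, Units.mul_inv, mul_one, sub_self, eq_comm, smul_eq_zero] at h3
      rcases h3 with h3 | h3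
      · exact (mul_eq_zero.mp ((div_eq_zero_iff.mp h3).resolve_right huu)).resolve_left h2
      · exact absurd h3 (Fr.Shape.ne_zero H (Or.inr (Or.inr ⟨u, hu, hu', huu, rfl⟩)))
    · have hk3 : k = 3 := C.three_of_lt (by omega)
      obtain ⟨α, hα0, hα⟩ : ∃ α : F, α ≠ 0 ∧ α * α ≠ 1 := by
        by_contra hno
        push Not at hno
        have hsub : (Finset.univ : Finset F) ⊆ {0, 1, -1} := fun x _ => by
          by_cases hx : x = 0
          · simp [hx]
          · rcases mul_self_eq_one_iff.mp (hno x hx) with h0 | h0 <;> simp [h0]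
        have h5' := Finset.card_le_card hsub
        rw [Finset.card_univ] at h5'
        have h3 : ({0, 1, -1} : Finset F).card ≤ 3 := Finset.card_le_three
        have := C.small hk3
        rw [Nat.card_eq_fintype_card] at this
        omega
      obtain ⟨B, hB, hBe, hBe', hBr⟩ := H.exists_torus hα0
      have h1 := hA _ (hgen B _ (C.sq s B hB) (mul_ne_zero hα0 hα0) hBe)
      have h3 := congrArg (fun X => X *ᵥ e') h1
      rw [← mulVec_mulVec, ← mulVec_mulVec, hBe', hd'] at h3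
      simp only [mulVec_smul, add_mulVec, smul_mulVec, one_mulVec, sym_outer hf, wd_mulVec hf, H.pair', hv',
        one_smul, zero_smul, sub_zero, mulVec_add, hBe, hBe', hBr v hv hv'] at h3
      have h4 := congrArg (fun z => f z v) h3
      simp only [hf.bilinear.add_left, hf.bilinear.smul_left, hv, hv', mul_zero, zero_add] at h4
      have hvv : f v v = 0 := by
        field_simp at h4
        have h5 : (1 - α * α) * f v v = 0 := by linear_combination h4
        exact (mul_eq_zero.mp h5).resolve_left (sub_ne_zero.mpr (Ne.symm hα))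
      rw [H.line_of_three hk3 hr₀ hr₀' hrr₀ hv hv'] at hvv ⊢
      rw [sym_quad_smul hf] at hvv
      rw [mul_eq_zero, mul_self_eq_zero] at hvv
      rw [hvv.resolve_right hrr₀, zero_smul]
  -- an invertible block
  have hblkX : ∀ a b, ∀ X ∈ 𝒳, ∃ X', blk s a b y.val * X = X' * blk s a b y.val := fun a b X hX => by
    obtain ⟨X', hX'⟩ := (h𝒳 X).mp hX
    exact ⟨X', by rw [← blk_right, ← blk_left, hX']⟩
  have hblk' : ∀ X ∈ 𝒳, ∃ X', ∀ a b, blk s a b y.val * X = X' * blk s a b y.val := fun X hX => by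
    obtain ⟨X', hX'⟩ := (h𝒳 X).mp hX
    exact ⟨X', fun a b => by rw [← blk_right, ← blk_left, hX']⟩
  obtain ⟨a₀, b₀, hab⟩ : ∃ a b, blk s a b y.val *ᵥ e ≠ 0 := by
    by_contra hno
    push Not at hno
    have h0 : y.val * H.pe s = 0 := blk_ext s fun a b => by
      rw [Fr.pe, blk_right, blk_zero]
      refine Matrix.ext_iff_mulVec.mpr fun z => ?_
      rw [← mulVec_mulVec, sym_outer hf, mulVec_smul, hno, smul_zero, zero_mulVec]
    have h1 := congrArg (y⁻¹.val * ·) h0
    simp only [← mul_assoc, Units.inv_mul, one_mul, mul_zero] at h1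
    obtain ⟨o⟩ : Nonempty (Idx (t + 2) k) := ⟨fun _ => ⟨0, by omega⟩⟩
    have h3 := congrArg (fun X => blk s o o X *ᵥ e) h1
    rw [Fr.pe, show emb s (outer f e e') = emb s (outer f e e') * 1 by rw [mul_one]] at h3
    simp only [blk_left, blk_zero, zero_mulVec] at h3
    rw [← emb_one (F := F) (m := k) s, show blk s o o (emb s (1 : Matrix (Fin k) (Fin k) F)) = 1 by
      ext i j; simp [blk, emb, Matrix.one_apply], mul_one, sym_outer hf, H.pair, one_smul] at h3
    exact H.e_ne h3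
  obtain ⟨C₁, hC₁⟩ : ∃ C₁, C₁ = blk s a₀ b₀ y.val := ⟨_, rfl⟩
  rw [← hC₁] at hab
  have hker : ∀ z, C₁ *ᵥ z = 0 → z = 0 := by
    intro z hz
    have hX : ∀ X ∈ 𝒳, C₁ *ᵥ (X *ᵥ z) = 0 := fun X hX => by
      obtain ⟨X', hX'⟩ := hblkX a₀ b₀ X hX
      rw [mulVec_mulVec, hC₁, hX', ← mulVec_mulVec, ← hC₁, hz, mulVec_zero]
    have hze : f z e = 0 := by
      have h1 := hX _ hee
      rw [sym_outer hf, mulVec_smul, smul_eq_zero] at h1
      exact h1.resolve_right hab
    have hzw : ∀ w, f e w = 0 → f z w = 0 := fun w hw => by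
      have h1 := hX _ (hN w hw)
      rw [eA_mulVec hf, hze, mulVec_sub, mulVec_sub, mulVec_add, hz] at h1
      simpa [mulVec_smul, hab] using h1
    have hz' : z = f z e' • e := OO.eq_smul_of_perp hf H.ee H.pair fun w hw => hzw w (by rw [hf.symm, hw])
    rw [hz', mulVec_smul, smul_eq_zero] at hz
    rw [hz', hz.resolve_right hab, zero_smul]
  have hdet : IsUnit C₁.det := by
    rw [isUnit_iff_ne_zero]
    intro h0
    obtain ⟨z, hz, hz'⟩ := Matrix.exists_mulVec_eq_zero_iff.mpr h0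
    exact hz (hker z hz')
  -- the decomposition
  have hdec : ∀ a b, ∃ p q : F, blk s a b y.val = p • C₁ + q • (C₁ * outer f e e) := fun a b => by
    obtain ⟨p, q, hpq⟩ := hcent (C₁⁻¹ * blk s a b y.val) fun X hX => by
      obtain ⟨X', hX'⟩ := hblk' X hX
      have h1 : C₁ * X = X' * C₁ := by rw [hC₁]; exact hX' a₀ b₀
      calc C₁⁻¹ * blk s a b y.val * X = C₁⁻¹ * (X' * blk s a b y.val) := by rw [mul_assoc, hX']
        _ = C₁⁻¹ * (X' * (C₁ * C₁⁻¹)) * blk s a b y.val := by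
            rw [Matrix.mul_nonsing_inv _ hdet, mul_one, mul_assoc]
        _ = C₁⁻¹ * (C₁ * X) * C₁⁻¹ * blk s a b y.val := by rw [h1]; simp only [mul_assoc]
        _ = X * (C₁⁻¹ * blk s a b y.val) := by
            rw [← mul_assoc C₁⁻¹, Matrix.nonsing_inv_mul _ hdet, one_mul, mul_assoc]
    refine ⟨p, q, ?_⟩
    have h1 := congrArg (C₁ * ·) hpq
    simpa [← mul_assoc, Matrix.mul_nonsing_inv _ hdet, mul_add] using h1
  obtain ⟨G, S, hGS⟩ := exists_tens_of_pair s hdec
  -- the two lines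
  have hP : C₁ * outer f e e' = outer f e e' * C₁ * outer f e e' := by
    have h1 := congrArg (blk s a₀ b₀) (show y.val * H.pe s = H.pe s * y.val * H.pe s from hs)
    rwa [Fr.pe, blk_right, blk_right, blk_left, ← hC₁] at h1
  obtain ⟨β, hβdef⟩ : ∃ β, β = f (C₁ *ᵥ e) e' := ⟨_, rfl⟩
  have hCe : C₁ *ᵥ e = β • e := by
    have h1 := congrArg (fun X => X *ᵥ e) hP
    simp only [← mulVec_mulVec, sym_outer hf, H.pair, one_smul] at h1
    rw [hβdef, ← h1]
  have hβ0 : β ≠ 0 := fun h => hab (by rw [hCe, h, zero_smul])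
  have hQ : outer f e' e * C₁ = outer f e' e * C₁ * outer f e' e := by
    have h1 := congrArg (blk s a₀ b₀) (H.stab_dual hy hs)
    rwa [Fr.qe, blk_right, blk_left, ← hC₁] at h1
  obtain ⟨μ, hμdef⟩ : ∃ μ, μ = f (C₁ *ᵥ e') e := ⟨_, rfl⟩
  have hCx : ∀ x, f (C₁ *ᵥ x) e = μ * f x e := fun x => by
    have h1 := congrArg (fun X => f (X *ᵥ x) e) hQ
    simp only [← mulVec_mulVec, sym_outer hf, mulVec_smul, hf.bilinear.smul_left, H.pair', mul_one] at h1
    rw [h1, hμdef, mul_comm]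
  have hμ0 : μ ≠ 0 := fun h => by
    obtain ⟨x, hx⟩ := Matrix.mulVec_surjective_iff_isUnit.mpr ((Matrix.isUnit_iff_isUnit_det _).mpr hdet) e'
    have := hCx x
    rw [hx, H.pair', h, zero_mul] at this
    exact one_ne_zero this
  -- the similitude on the other slots
  have k1 : C₁ * outer f e e' = β • outer f e e' := Matrix.ext_iff_mulVec.mpr fun x => by
    rw [← mulVec_mulVec, smul_mulVec, sym_outer hf, mulVec_smul, hCe, smul_comm]
  have k2 : outer f e e * outer f e e' = 0 := Matrix.ext_iff_mulVec.mpr fun x => by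
    rw [← mulVec_mulVec, zero_mulVec, sym_outer hf, sym_outer hf, hf.bilinear.smul_left, H.ee, mul_zero, zero_smul]
  have k3 : outer f e' e * C₁ = μ • outer f e' e := Matrix.ext_iff_mulVec.mpr fun x => by
    rw [← mulVec_mulVec, smul_mulVec, sym_outer hf, sym_outer hf, hCx, smul_smul]
  have k4 : outer f e' e * outer f e e = 0 := Matrix.ext_iff_mulVec.mpr fun x => by
    rw [← mulVec_mulVec, zero_mulVec, sym_outer hf, sym_outer hf, hf.bilinear.smul_left, H.ee, mul_zero, zero_smul]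
  have hype : y.val * H.pe s = β • tens s (outer f e e') G := by
    rw [hGS, Fr.pe, ← tens_emb, add_mul, tens_mul, tens_mul, mul_one, mul_assoc, k2, mul_zero, tens_zero_left,
      add_zero, k1, tens_smul_left]
  have hsim : Gᵀ * pG (t + 1) f * G = (β * μ)⁻¹ • pG (t + 1) f := by
    have h1 := congrArg (fun X => (H.pe s)ᵀ * X * H.qe s) (piso_iff.mp (C.iso y hy))
    rw [show (H.pe s)ᵀ * (y.valᵀ * pG (t + 2) f * y.val) * H.qe s =
      (y.val * H.pe s)ᵀ * pG (t + 2) f * (y.val * H.qe s) by rw [transpose_mul]; simp only [mul_assoc], hype,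
      transpose_smul, tens_transpose, Fr.qe, Fr.pe, ← tens_emb, ← tens_emb, tens_transpose, transpose_one, hGS,
      add_mul, tens_mul, tens_mul, ← pG_tens hf s, Matrix.smul_mul, Matrix.smul_mul, tens_mul, tens_mul, tens_mul,
      mul_add, tens_mul, tens_mul, outer_gram hf] at h1
    have k5 : ∀ X : Matrix (Fin k) (Fin k) F, gram f * outer f e' e * (C₁ * X) = μ • (gram f * outer f e' e * X) :=
      fun X => by rw [mul_assoc, ← mul_assoc (outer f e' e), k3, Matrix.smul_mul, Matrix.mul_smul, mul_assoc]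
    rw [k5, mul_assoc C₁ (outer f e e), k5, mul_assoc (gram f), H.P_idem.2.1, one_mul, mul_one,
      mul_assoc (gram f) (outer f e' e) (outer f e e * _), ← mul_assoc (outer f e' e) (outer f e e), k4, zero_mul,
      mul_zero, smul_zero, tens_zero_left, add_zero, tens_smul_left, smul_smul, mul_one, ← tens_smul_right] at h1
    have hne : gram f * outer f e' e ≠ 0 := fun h0 => by
      have h6 := congrArg ((gram f)⁻¹ * ·) h0
      simp only [← mul_assoc, mul_eq_one_comm.mp (sym_gram_mul_inv hf), one_mul, mul_zero] at h6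
      have h7 := congrArg (fun X => X *ᵥ e) h6
      simp only [sym_outer hf, H.ee, zero_mulVec] at h7
      have h8 := congrArg (fun X => X *ᵥ e') h6
      simp only [sym_outer hf, H.pair', one_smul, zero_mulVec] at h8
      exact H.e'_ne h8
    have h9 := tens_inj s hne h1
    rw [eq_inv_smul_iff₀ (mul_ne_zero hβ0 hμ0)]
    simpa only [mul_assoc] using h9
  exact ⟨C₁, β, μ, G, S, hdet, hGS, hβ0, hμ0, hCe, hCx, hype, hsim⟩

/-- The splitting, when the multiplier is a square. -/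
theorem Fr.stab_split (hbig : ¬ Big f M) {y : GL (Idx (t + 2) k) F} (hy : y ∈ M) (hs : H.Stab s y)
    (hsq : Odd k ∨ ∃ (G' : GL (Idx (t + 1) k) F) (β' : F), PIso f G' ∧ β' ≠ 0 ∧
      y.val * H.pe s = β' • tens s (outer f e e') G'.val) :
    ∃ (C₀ : GL (Fin k) F) (β : F) (G : GL (Idx (t + 1) k) F) (S : Matrix (Idx (t + 1) k) (Idx (t + 1) k) F),
      y.val = tens s C₀.val G.val + tens s (C₀.val * outer f e e) S ∧ β ≠ 0 ∧ C₀.val *ᵥ e = β • e ∧
      (∀ x, f (C₀.val *ᵥ x) e = β⁻¹ * f x e) ∧ PIso f G ∧ (Odd k → G.val.det = 1) := by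
  classical
  have hf := C.sym
  obtain ⟨C₁, β, μ, G, S, hdet, hGS, hβ0, hμ0, hCe, hCx, hype, hsim⟩ := H.stab_split₀ hbig hy hs
  have hu : IsUnit (pG (t + 1) f).det := by
    refine Matrix.isUnit_det_of_right_inverse (B := TWMax.tmat fun _ => (gram f)⁻¹) ?_
    rw [pG, TWMax.tmat_mul]
    simp only [sym_gram_mul_inv hf, TWMax.tmat_one]
  obtain ⟨δ, hδ0, hδdet, hδsq, hδu⟩ : ∃ δ : F, δ ≠ 0 ∧ (Odd k → (δ • G).det = 1) ∧ δ * δ = β * μ ∧
      IsUnit (δ • G).det := by
    rcases Nat.even_or_odd k with hev | hodd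
    · obtain ⟨G', β', hG', hβ', he⟩ := hsq.resolve_left (Nat.not_odd_iff_even.mpr hev)
      have hne : outer f e e' ≠ 0 := fun h0 => H.e_ne (by
        have := congrArg (· *ᵥ e) h0
        simpa [sym_outer hf, H.pair] using this)
      have h1 := he.symm.trans hype
      rw [← tens_smul_right, ← tens_smul_right] at h1
      have hG : G = (β' / β) • G'.val := by
        rw [div_eq_inv_mul, mul_smul, tens_inj s hne h1, inv_smul_smul₀ hβ0]
      have hz : pG (t + 1) f ≠ 0 := fun h0 => hu.ne_zero (by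
        haveI : Nonempty (Idx (t + 1) k) := ⟨fun _ => ⟨0, by have := C.dim; omega⟩⟩
        rw [h0, Matrix.det_zero])
      have h2 : (β' / β) * (β' / β) = (β * μ)⁻¹ := by
        have h3 := hsim
        rw [hG, transpose_smul, Matrix.smul_mul, Matrix.smul_mul, Matrix.mul_smul, piso_iff.mp hG', smul_smul,
          ← sub_eq_zero, ← sub_smul, smul_eq_zero, sub_eq_zero] at h3
        exact h3.resolve_right hz
      refine ⟨β / β', div_ne_zero hβ0 hβ', fun h => absurd h (Nat.not_odd_iff_even.mpr hev), ?_, ?_⟩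
      · rw [← inv_inv (β * μ), ← h2, mul_inv, inv_div]
      · rw [hG, smul_smul, div_mul_div_cancel₀ hβ', div_self hβ0, one_smul]
        exact (Matrix.isUnit_iff_isUnit_det _).mp G'.isUnit
    suffices h : ∃ δ : F, δ ≠ 0 ∧ (δ • G).det = 1 ∧ δ * δ = β * μ by
      obtain ⟨δ, h1, h2, h3⟩ := h
      exact ⟨δ, h1, fun _ => h2, h3, by rw [h2]; exact isUnit_one⟩
    obtain ⟨ν, hν⟩ : ∃ ν, ν = (β * μ)⁻¹ := ⟨_, rfl⟩
    have hν0 : ν ≠ 0 := hν ▸ inv_ne_zero (mul_ne_zero hβ0 hμ0)
    have h1 := congrArg Matrix.det hsim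
    rw [det_mul, det_mul, det_transpose, det_smul, Fintype.card_fun, Fintype.card_fin, Fintype.card_fin, ← hν] at h1
    obtain ⟨j, hj⟩ : Odd (k ^ (t + 1)) := hodd.pow
    rw [hj] at h1
    have h2' : G.det * G.det = ν ^ (2 * j + 1) := mul_right_cancel₀ hu.ne_zero (by linear_combination h1)
    obtain ⟨ε, hε⟩ : ∃ ε, ε = G.det / ν ^ j := ⟨_, rfl⟩
    have hεε : ε * ε = ν := by
      rw [hε, div_mul_div_comm, h2', ← pow_add, show 2 * j + 1 = (j + j) + 1 by ring, pow_succ]
      field_simp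
    have hε0 : ε ≠ 0 := fun h => hν0 (by rw [← hεε, h, mul_zero])
    refine ⟨ε⁻¹, inv_ne_zero hε0, ?_, ?_⟩
    · rw [det_smul, Fintype.card_fun, Fintype.card_fin, Fintype.card_fin, hj]
      have hG : G.det = ε ^ (2 * j + 1) := by
        have h3 : G.det = ε * ν ^ j := by rw [hε]; field_simp
        rw [h3, ← hεε, ← sq, ← pow_mul, ← pow_succ']
      rw [hG, ← mul_pow, inv_mul_cancel₀ hε0, one_pow]
    · rw [← mul_inv, hεε, hν, inv_inv]
  obtain ⟨G₀, hG₀⟩ : ∃ G₀ : GL (Idx (t + 1) k) F, G₀.val = δ • G :=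
    ⟨Matrix.GeneralLinearGroup.mkOfDetNeZero (δ • G) hδu.ne_zero, rfl⟩
  obtain ⟨C₀, hC₀⟩ : ∃ C₀ : GL (Fin k) F, C₀.val = δ⁻¹ • C₁ :=
    ⟨Matrix.GeneralLinearGroup.mkOfDetNeZero (δ⁻¹ • C₁) (by
      rw [det_smul]; exact mul_ne_zero (pow_ne_zero _ (inv_ne_zero hδ0)) hdet.ne_zero), rfl⟩
  refine ⟨C₀, β / δ, G₀, δ • S, ?_, div_ne_zero hβ0 hδ0, ?_, fun x => ?_, ?_, hG₀ ▸ hδdet⟩
  · rw [hGS, hG₀, hC₀, Matrix.smul_mul, tens_smul_left, tens_smul_left, tens_smul_right, tens_smul_right, smul_smul,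
      smul_smul, inv_mul_cancel₀ hδ0, one_smul, one_smul]
  · rw [hC₀, smul_mulVec, hCe, smul_smul, div_eq_inv_mul]
  · rw [hC₀, smul_mulVec, hf.bilinear.smul_left, hCx]
    field_simp
    linear_combination -(f x e) * hδsq
  · rw [piso_iff, hG₀, transpose_smul, Matrix.smul_mul, Matrix.smul_mul, Matrix.mul_smul, hsim, smul_smul, smul_smul,
      hδsq, mul_inv_cancel₀ (mul_ne_zero hβ0 hμ0), one_smul]

end CfsgLib.Classical22.OPow
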