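/-
The group induced on the other slots by the stabiliser of a singular slot subspace.
-/
import Cfsg.Agent.Lib.Classical22.OrthPower.Split
import Mathlib.LinearAlgebra.Matrix.SchurComplement

set_option autoImplicit false
set_option linter.unusedSectionVars false
set_option linter.unusedSimpArgs false

namespace CfsgLib.Classical22.OPow

open Matrix CfsgLib.Transvec CfsgLib.Classical22.TensorMax CfsgLib.Classical22.TensorMax.SympO
open CfsgLib.Classical22.TensorMax.SpO (sym_outer sym_dot refl sym_zero_left)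
open CfsgLib.Classical22.TWMax (Idx pv tmat tmat_mulVec emb emb_mul emb_one slotEl slotEl_val TWData tGL tGL_apply)
open scoped MatrixGroups

variable {F : Type*} [Field F] {t k : ℕ} {f : (Fin k → F) → (Fin k → F) → F}

lemma det_eG (hf : Cfsg.Geo.IsSymmetricForm f) (hk : Odd k) {v : Fin k → F} (hv : f v v ≠ 0) :
    (eG hf v).val.det = 1 := by
  rw [eG, Units.val_neg, rG_val hf hv, det_neg, Fintype.card_fin, hk.neg_one_pow, SpO.refl, outer, sub_eq_add_neg,
    ← neg_smul, ← Matrix.smul_vecMulVec, vecMulVec_eq Unit, det_one_add_replicateCol_mul_replicateRow,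
    dotProduct_smul, smul_eq_mul, ← sym_dot hf]
  field_simp
  norm_num

lemma det_isoSq (hf : Cfsg.Geo.IsSymmetricForm f) {B : GL (Fin k) F} (hB : B ∈ isoSq f) : B.val.det = 1 := by
  induction hB using Subgroup.closure_induction with
  | mem x hx =>
    obtain ⟨A, hA, rfl⟩ := hx
    rw [Units.val_mul, det_mul, det_isoF hf hA]
  | one => rw [Units.val_one, det_one]
  | mul x y _ _ hx hy => rw [Units.val_mul, det_mul, hx, hy, mul_one]
  | inv x _ hx =>
    have h := congrArg Matrix.det (Units.mul_inv x)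
    rwa [det_mul, hx, one_mul, det_one] at h

variable {M : Subgroup (GL (Idx (t + 2) k) F)} {C : Ctx f M} {e e' : Fin k → F} {c : F} (H : Fr C e e' c)
  {s : Fin (t + 2)}
include H

lemma Fr.pe_tens : H.pe s = tens s (outer f e e') 1 := (tens_emb _ _).symm

variable [Fintype F]

/-- The group induced on the other slots. -/
def Fr.Ms (H : Fr C e e' c) (s : Fin (t + 2)) : Subgroup (GL (Idx (t + 1) k) F) where
  carrier := {G | PIso f G ∧ (Odd k → G.val.det = 1) ∧ ∃ y ∈ M, H.Stab s y ∧ ∃ β : F, β ≠ 0 ∧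
    y.val * H.pe s = β • tens s (outer f e e') G.val}
  one_mem' := ⟨fun x y => by rw [Units.val_one, one_mulVec, one_mulVec], fun _ => by rw [Units.val_one, det_one],
    1, M.one_mem, H.stab_one, 1, one_ne_zero, by rw [Units.val_one, one_smul, one_mul, Units.val_one, H.pe_tens]⟩
  mul_mem' := by
    rintro G K ⟨hG, dG, y, hy, hs, β, hβ, e1⟩ ⟨hK, dK, z, hz, hsz, γ, hγ, e2⟩
    refine ⟨piso_mul hG hK, fun h => by rw [Units.val_mul, det_mul, dG h, dK h, mul_one], y * z, M.mul_mem hy hz,
      H.stab_mul hs hsz, β * γ, mul_ne_zero hβ hγ, ?_⟩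
    rw [Units.val_mul, mul_assoc, show z.val * H.pe s = H.pe s * (z.val * H.pe s) by rw [← mul_assoc, ← hsz],
      ← mul_assoc, e1, e2, Matrix.smul_mul, Matrix.mul_smul, smul_smul, tens_mul, H.P_idem.1, Units.val_mul]
  inv_mem' := by
    rintro G ⟨hG, dG, y, hy, hs, β, hβ, e1⟩
    refine ⟨piso_inv hG, ?_, y⁻¹, M.inv_mem hy, H.stab_inv hs, β⁻¹, inv_ne_zero hβ, ?_⟩
    · intro ho
      have h := congrArg Matrix.det (Units.mul_inv G)
      rwa [det_mul, dG ho, one_mul, det_one] at h
    · have h := congrArg (fun X => y⁻¹.val * X * tens s 1 G⁻¹.val) e1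
      simp only [← mul_assoc, Units.inv_mul, one_mul, Matrix.mul_smul, Matrix.smul_mul] at h
      rw [H.pe_tens, tens_mul, mul_one, one_mul, mul_assoc, tens_mul, mul_one, Units.mul_inv, ← H.pe_tens] at h
      rw [h, smul_smul, inv_mul_cancel₀ hβ, one_smul]

lemma Fr.ms_slot {j : Fin (t + 1)} {B : GL (Fin k) F} (hB : B ∈ isoF f) (hd : Odd k → B.val.det = 1)
    (hM : slotEl (s.succAbove j) B ∈ M) : slotEl j B ∈ H.Ms s := by
  refine ⟨piso_slotEl C.sym j hB, fun h => by rw [det_slotEl, hd h, one_pow], _, hM, ?_, 1, one_ne_zero, ?_⟩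
  · obtain ⟨h1, -⟩ := H.cm_slot (s := s) (Fin.succAbove_ne s j) B
    rw [Fr.Stab, mul_assoc, h1, ← mul_assoc, H.pe_pe]
  · rw [H.pe_tens, slotEl_val, slotEl_val, ← tens_emb_other, tens_mul, one_mul, mul_one, one_smul]

/-- The induced group satisfies the hypotheses of the setting. -/
theorem Fr.ctx_Ms : Ctx f (H.Ms s) where
  sym := C.sym
  two := C.two
  dim := C.dim
  four := C.four
  small := C.small
  iso g hg := hg.1
  sq j B hB := H.ms_slot (isoSq_le hB) (fun _ => det_isoSq C.sym hB) (C.sq _ B hB)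
  refl hk j v hv := H.ms_slot (eG_iso C.sym v) (fun h => absurd h (Nat.not_odd_iff_even.mpr hk)) (C.refl hk _ v hv)
  sim hk j l A μ hjl hA := by
    have h := C.sim hk (s.succAbove j) (s.succAbove l) A μ (Fin.succAbove_right_injective.ne hjl) hA
    refine ⟨piso_sim_pair C.sym hjl hA, fun h => absurd h (Nat.not_odd_iff_even.mpr hk), _, h, ?_, 1, one_ne_zero, ?_⟩
    · obtain ⟨h1, -⟩ := H.cm_slot (s := s) (Fin.succAbove_ne s j) A
      obtain ⟨h2, -⟩ := H.cm_slot (s := s) (Fin.succAbove_ne s l) A⁻¹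
      refine H.stab_mul ?_ ?_
      · rw [Fr.Stab, mul_assoc, h1, ← mul_assoc, H.pe_pe]
      · rw [Fr.Stab, mul_assoc, h2, ← mul_assoc, H.pe_pe]
    · rw [H.pe_tens, Units.val_mul, Units.val_mul, slotEl_val, slotEl_val, slotEl_val, slotEl_val, ← tens_emb_other,
        ← tens_emb_other, tens_mul, tens_mul, one_mul, one_mul, mul_one, one_smul]
  pair v j l hv hjl := by
    have h := C.pair v (s.succAbove j) (s.succAbove l) hv (Fin.succAbove_right_injective.ne hjl)
    refine ⟨piso_mul (piso_slotEl C.sym j (eG_iso C.sym v)) (piso_slotEl C.sym l (eG_iso C.sym v)),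
      fun ho => by rw [Units.val_mul, det_mul, det_slotEl, det_slotEl, det_eG C.sym ho hv, one_pow, mul_one],
      _, h, ?_, 1, one_ne_zero, ?_⟩
    · obtain ⟨h1, -⟩ := H.cm_slot (s := s) (Fin.succAbove_ne s j) (eG C.sym v)
      obtain ⟨h2, -⟩ := H.cm_slot (s := s) (Fin.succAbove_ne s l) (eG C.sym v)
      refine H.stab_mul ?_ ?_
      · rw [Fr.Stab, mul_assoc, h1, ← mul_assoc, H.pe_pe]
      · rw [Fr.Stab, mul_assoc, h2, ← mul_assoc, H.pe_pe]
    · rw [H.pe_tens, Units.val_mul, Units.val_mul, slotEl_val, slotEl_val, slotEl_val, slotEl_val, ← tens_emb_other,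
        ← tens_emb_other, tens_mul, tens_mul, one_mul, one_mul, mul_one, one_smul]
  perm π hπ := by
    classical
    obtain ⟨σ, hσs, hσ, hsign⟩ : ∃ σ : Equiv.Perm (Fin (t + 2)), σ s = s ∧
        (∀ j, σ (s.succAbove j) = s.succAbove (π j)) ∧ Equiv.Perm.sign σ = Equiv.Perm.sign π := by
      refine ⟨(finSuccEquiv' s).trans ((Equiv.optionCongr π).trans (finSuccEquiv' s).symm), ?_, fun j => ?_, ?_⟩
      · simp
      · simp
      · rw [show (finSuccEquiv' s).trans ((Equiv.optionCongr π).trans (finSuccEquiv' s).symm) =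
          (finSuccEquiv' s).symm.permCongr (Equiv.optionCongr π) from rfl, Equiv.Perm.sign_permCongr,
          Equiv.optionCongr_sign]
    obtain ⟨y, hy, gs, hgs, hdata⟩ := H.exists_perm σ (hπ.imp_right fun h => h.imp_right fun h => hsign.trans h)
    obtain ⟨α, hα, hαe⟩ := (hgs s).2
    obtain ⟨A, π', hA, hπ', -⟩ := hdata.slot hσs
    have hππ : π' = π := Equiv.ext fun j =>
      Fin.succAbove_right_injective (by rw [← hπ' j, hσ j])
    rw [hππ] at hA
    have hAiso : PIso f A := piso_of_pv C.sym fun xs ys => by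
      rw [hA, hA, bil_pv C.sym]
      conv_rhs => rw [← Equiv.prod_comp π]
      exact Finset.prod_congr rfl fun j _ => (hgs _).1 _ _
    have hype : y.val * H.pe s = α • tens s (outer f e e') A.val := by
      refine TWMax.mat_ext_pv fun xs => ?_
      have hag : ∀ z : Fin k → F, (gs s).val *ᵥ (f z e' • e) = α • (f z e' • e) := fun z => by
        rw [mulVec_smul, hαe, smul_comm]
      rw [← mulVec_mulVec, Fr.pe, TWMax.emb_mulVec_pv, hdata, smul_mulVec]
      have hAm : A.val = tmat (fun j => (gs (s.succAbove j)).val) * (TWMax.permGL π.symm).val := by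
        refine TWMax.mat_ext_pv fun zs => ?_
        rw [hA, ← mulVec_mulVec, TWMax.permGL_apply, tmat_mulVec]
        simp
      obtain ⟨Y, hY⟩ : ∃ Y, Y = fun i => (gs i).val *ᵥ Function.update xs s (outer f e e' *ᵥ xs s) (σ i) := ⟨_, rfl⟩
      rw [← hY]
      funext p
      rw [Pi.smul_apply, smul_eq_mul]
      have e2 : tens s (outer f e e') A.val *ᵥ pv xs =
          pv (Fin.insertNth s (outer f e e' *ᵥ xs s) fun j => (gs (s.succAbove j)).val *ᵥ xs (s.succAbove (π j))) := by
        funext q
        rw [Matrix.mulVec, dotProduct, ← (Fin.insertNthEquiv (fun _ => Fin k) s).sum_comp]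
        simp only [Fintype.sum_prod_type, tens_apply, pv, Fin.insertNthEquiv_apply, Fin.insertNth_apply_same,
          Fin.insertNth_apply_succAbove, Fin.prod_univ_succAbove _ s]
        rw [show (∏ j, ((gs (s.succAbove j)).val *ᵥ xs (s.succAbove (π j))) (q (s.succAbove j))) =
          (A.val *ᵥ pv fun j => xs (s.succAbove j)) fun j => q (s.succAbove j) by rw [hA]; rfl]
        simp only [Matrix.mulVec, dotProduct, pv, Finset.sum_mul_sum]
        exact Finset.sum_congr rfl fun a _ => Finset.sum_congr rfl fun b _ => by ring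
      rw [e2, hY]
      simp only [pv, Fin.prod_univ_succAbove _ s, Fin.insertNth_apply_same, Fin.insertNth_apply_succAbove, hσs,
        Function.update_self, hσ, Function.update_of_ne (Fin.succAbove_ne s _), sym_outer C.sym, hag, Pi.smul_apply,
        smul_eq_mul]
      ring
    have hs : H.Stab s y := by
      have hfix : H.pe s * tens s (outer f e e') A.val = tens s (outer f e e') A.val := by
        rw [H.pe_tens, tens_mul, H.P_idem.1, one_mul]
      rw [Fr.Stab, mul_assoc, hype, Matrix.mul_smul, hfix]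
    rcases (Nat.even_or_odd k).symm with hodd | hev
    swap
    · exact ⟨A, ⟨hAiso, fun h => absurd h (Nat.not_odd_iff_even.mpr hev), y, hy, hs, α, hα, hype⟩, _,
        fun j => (hgs _).1, hA⟩
    rcases mul_self_eq_one_iff.mp (det_sq_of_piso C.sym hAiso) with hd | hd
    · exact ⟨A, ⟨hAiso, fun _ => hd, y, hy, hs, α, hα, hype⟩, _, fun j => (hgs _).1, hA⟩
    · refine ⟨-A, ⟨fun u v => ?_, ?_, y, hy, hs, -α, neg_ne_zero.mpr hα, ?_⟩,
        Function.update (fun j => gs (s.succAbove j)) 0 (-gs (s.succAbove 0)), fun j => ?_, fun xs => ?_⟩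
      · rw [Units.val_neg, neg_mulVec, neg_mulVec, bil_neg_left, bil_neg_right, neg_neg]; exact hAiso u v
      · intro _
        rw [Units.val_neg, det_neg, hd, Fintype.card_fun, Fintype.card_fin, Fintype.card_fin, hodd.pow.neg_one_pow,
          neg_one_mul, neg_neg]
      · rw [hype, Units.val_neg, neg_smul, ← neg_one_smul F A.val, tens_smul_right, smul_smul, mul_neg_one, neg_smul]
        simp
      · by_cases hj : j = 0
        · subst hj
          rw [Function.update_self]
          intro u v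
          rw [Units.val_neg, neg_mulVec, neg_mulVec, SpO.sym_neg_left C.sym, OO.sym_neg_right C.sym, neg_neg]
          exact (hgs _).1 u v
        · rw [Function.update_of_ne hj]; exact (hgs _).1
      · rw [Units.val_neg, neg_mulVec, hA]
        funext p
        simp only [Pi.neg_apply, pv, Fin.prod_univ_succ, Function.update_self]
        simp [Function.update_of_ne (Fin.succ_ne_zero _), neg_mulVec]
  adm := by
    obtain ⟨c₀, hc₀, hadm⟩ := C.adm
    exact ⟨c₀, hc₀, fun j v hv hsq => H.ms_slot (eG_iso C.sym v) (fun ho => det_eG C.sym ho hv) (hadm _ v hv hsq)⟩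

end CfsgLib.Classical22.OPow
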