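/-
Similitudes of an even dimensional orthogonal space with a prescribed multiplier, stabilising a singular line.
-/
import Cfsg.Agent.Lib.Classical22.OrthPower.Grow

set_option autoImplicit false
set_option linter.unusedSectionVars false

namespace CfsgLib.Classical22.OPow

open Matrix CfsgLib.Transvec CfsgLib.Classical22.TensorMax CfsgLib.Classical22.TensorMax.SympO
open CfsgLib.Classical22.TensorMax.SpO (NdSub exists_value exists_aniso nd_perpIn perpIn mem_perpIn finrank_perpIn
  sym_sub_left sym_sub_right sym_zero_left sym_zero_right)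
open CfsgLib.Classical22.TensorMax.OO (pairW mem_pairW nd_pairW finrank_pairW)
open scoped MatrixGroups

variable {F : Type*} [Field F] [Fintype F] {k : ℕ} {f : (Fin k → F) → (Fin k → F) → F}
  (hf : Cfsg.Geo.IsSymmetricForm f) (h2 : (2 : F) ≠ 0)
include hf h2

/-- Every multiplier occurs on a non-degenerate subspace of even dimension. -/
lemma exists_sim_sub {ν : F} (hν : ν ≠ 0) : ∀ (j : ℕ) (W : Submodule F (Fin k → F)), NdSub f W →
    Module.finrank F W = 2 * j →
    ∃ L : (Fin k → F) →ₗ[F] (Fin k → F), ∀ x ∈ W, L x ∈ W ∧ ∀ y ∈ W, f (L x) (L y) = ν * f x y := by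
  intro j
  induction j with
  | zero =>
    intro W _ hd
    have h0 : W = ⊥ := Submodule.finrank_eq_zero.mp (by omega)
    refine ⟨0, fun x hx => ⟨W.zero_mem, fun y _ => ?_⟩⟩
    rw [h0, Submodule.mem_bot] at hx
    simp [hx, sym_zero_left hf]
  | succ j ih =>
    intro W hW hd
    obtain ⟨a, ha, haq⟩ := exists_value hf h2 hW (by omega) 1
    have ha0 : f a a ≠ 0 := by rw [haq]; exact one_ne_zero
    have hperp : ∀ (U : Submodule F (Fin k → F)) z, z ∈ U → f z z ≠ 0 →
        Module.finrank F (perpIn f U z) + 1 = Module.finrank F U := fun U z hz hq => by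
      have h1 := finrank_perpIn hf U z
      have h3 : perpIn f U z < U := lt_of_le_of_ne (fun x hx => ((mem_perpIn hf).mp hx).1)
        fun h => hq ((mem_perpIn hf).mp (by rw [h]; exact hz : z ∈ perpIn f U z)).2
      have := Submodule.finrank_lt_finrank_of_lt h3
      omega
    have hd1 := hperp W a ha ha0
    obtain ⟨b, hb, hbb⟩ := exists_aniso hf h2 (nd_perpIn hf hW ha ha0) (by omega)
    have hd2 := hperp _ b hb hbb
    obtain ⟨hbW, hba⟩ := (mem_perpIn hf).mp hb
    obtain ⟨W', hW'⟩ : ∃ W', W' = perpIn f (perpIn f W a) b := ⟨_, rfl⟩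
    have hmem : ∀ x, x ∈ W' ↔ x ∈ W ∧ f x a = 0 ∧ f x b = 0 := fun x => by
      rw [hW', mem_perpIn hf, mem_perpIn hf, and_assoc]
    obtain ⟨L', hL'⟩ := ih W' (hW' ▸ nd_perpIn hf (nd_perpIn hf hW ha ha0) hb hbb) (by rw [hW']; omega)
    obtain ⟨d, hd'⟩ : ∃ d, d = f b b := ⟨_, rfl⟩
    have hd0 : d ≠ 0 := hd' ▸ hbb
    -- a vector of norm `ν` in the plane
    obtain ⟨p, q, hpq⟩ : ∃ p q : F, p * p + d * (q * q) = ν := by
      have hc : ringChar F ≠ 2 := fun hc => by
        haveI : CharP F 2 := hc ▸ ringChar.charP F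
        exact h2 CharTwo.two_eq_zero
      have ho : Fintype.card F % 2 = 1 := by
        rcases Nat.mod_two_eq_zero_or_one (Fintype.card F) with h | h
        · exact absurd (FiniteField.even_card_iff_char_two.mpr h) hc
        · exact h
      obtain ⟨p, q, h⟩ := FiniteField.exists_root_sum_quadratic
        (f := Polynomial.X ^ 2 - Polynomial.C ν) (g := Polynomial.C d * Polynomial.X ^ 2)
        (Polynomial.degree_X_pow_sub_C (by norm_num) ν) (Polynomial.degree_C_mul_X_pow 2 hd0) ho
      exact ⟨p, q, by simp at h; linear_combination h⟩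
    obtain ⟨u, hu⟩ : ∃ u, u = p • a + q • b := ⟨_, rfl⟩
    obtain ⟨w, hw⟩ : ∃ w, w = (-(d * q)) • a + p • b := ⟨_, rfl⟩
    have hab : f a b = 0 := by rw [hf.symm, hba]
    have hq : f u u = ν ∧ f w w = d * ν ∧ f u w = 0 := by
      simp only [hu, hw, hf.bilinear.add_left, hf.bilinear.add_right, hf.bilinear.smul_left, hf.bilinear.smul_right,
        haq, hab, hba, ← hd']
      exact ⟨by linear_combination hpq, by linear_combination d * hpq, by ring⟩
    obtain ⟨φ, hφ⟩ : ∃ φ : (Fin k → F) →ₗ[F] (Fin k → F), ∀ x, φ x = x - f x a • a - (f x b / d) • b :=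
      ⟨{ toFun := fun x => x - f x a • a - (f x b / d) • b
         map_add' := fun x y => by rw [hf.bilinear.add_left, hf.bilinear.add_left]; module
         map_smul' := fun r x => by rw [hf.bilinear.smul_left, hf.bilinear.smul_left, RingHom.id_apply]; module },
       fun x => rfl⟩
    obtain ⟨L, hL⟩ : ∃ L : (Fin k → F) →ₗ[F] (Fin k → F),
        ∀ x, L x = f x a • u + (f x b / d) • w + L' (φ x) :=
      ⟨{ toFun := fun x => f x a • u + (f x b / d) • w + L' (φ x)
         map_add' := fun x y => by rw [hf.bilinear.add_left, hf.bilinear.add_left, map_add, map_add]; module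
         map_smul' := fun r x => by
           rw [hf.bilinear.smul_left, hf.bilinear.smul_left, map_smul, map_smul, RingHom.id_apply]; module },
       fun x => rfl⟩
    have hφW : ∀ x ∈ W, φ x ∈ W' := fun x hx => (hmem _).mpr ⟨hφ x ▸ W.sub_mem (W.sub_mem hx (W.smul_mem _ ha))
      (W.smul_mem _ hbW), by
        rw [hφ, sym_sub_left hf, sym_sub_left hf, hf.bilinear.smul_left, hf.bilinear.smul_left, haq, hba]; ring, by
        rw [hφ, sym_sub_left hf, sym_sub_left hf, hf.bilinear.smul_left, hf.bilinear.smul_left, hab, ← hd']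
        field_simp
        ring⟩
    have huW : u ∈ W ∧ w ∈ W := ⟨hu ▸ W.add_mem (W.smul_mem _ ha) (W.smul_mem _ hbW),
      hw ▸ W.add_mem (W.smul_mem _ ha) (W.smul_mem _ hbW)⟩
    refine ⟨L, fun x hx => ?_⟩
    obtain ⟨hLx, hLxy⟩ := hL' _ (hφW x hx)
    refine ⟨hL x ▸ W.add_mem (W.add_mem (W.smul_mem _ huW.1) (W.smul_mem _ huW.2)) ((hmem _).mp hLx).1,
      fun y hy => ?_⟩
    obtain ⟨hLy, -⟩ := hL' _ (hφW y hy)
    have hz : ∀ z ∈ W', f u z = 0 ∧ f w z = 0 := fun z hz => by
      obtain ⟨-, h1, h2'⟩ := (hmem z).mp hz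
      rw [hu, hw]
      simp [← neg_smul, hf.bilinear.add_left, hf.bilinear.smul_left, hf.symm a z, hf.symm b z, h1, h2']
    rw [hL, hL]
    simp only [hf.bilinear.add_left, hf.bilinear.add_right, hf.bilinear.smul_left, hf.bilinear.smul_right,
      hf.symm w u, hq.1, hq.2.1, hq.2.2, (hz _ hLy).1, (hz _ hLy).2, hf.symm (L' (φ x)) u, hf.symm (L' (φ x)) w,
      (hz _ hLx).1, (hz _ hLx).2, hLxy _ (hφW y hy)]
    simp only [hφ, sym_sub_left hf, sym_sub_right hf, hf.bilinear.smul_left, hf.bilinear.smul_right, haq, hab, hba,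
      ← hd', hf.symm a y, hf.symm b y]
    field_simp
    ring

/-- A similitude of the given multiplier stabilising two opposite singular lines. -/
theorem exists_sim {e e' : Fin k → F} (hee : f e e = 0) (hee' : f e' e' = 0) (hp : f e e' = 1) (hk : Even k)
    {ν : F} (hν : ν ≠ 0) : ∃ A : GL (Fin k) F, IsSim f ν A.val ∧ A.val *ᵥ e = ν • e := by
  have hp' : f e' e = 1 := by rw [hf.symm, hp]
  have hmem : ∀ x, x ∈ pairW f e e' ↔ f x e = 0 ∧ f x e' = 0 := fun x => mem_pairW hf
  have hdim : ∃ j, Module.finrank F (pairW f e e') = 2 * j := by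
    have h1 := finrank_pairW hf e e'
    obtain ⟨i, hi⟩ := hk
    have hle : Module.finrank F (pairW f e e') + 2 ≤ k := by
      obtain ⟨U, hU⟩ : ∃ U, U = Submodule.span F ({e, e'} : Set (Fin k → F)) := ⟨_, rfl⟩
      have hdis : pairW f e e' ⊓ U = ⊥ := (Submodule.eq_bot_iff _).mpr fun x hx => by
        obtain ⟨h1, h2'⟩ := Submodule.mem_inf.mp hx
        rw [hU] at h2'
        obtain ⟨r, s, rfl⟩ := Submodule.mem_span_pair.mp h2'
        obtain ⟨k1, k2⟩ := (hmem _).mp h1
        simp only [hf.bilinear.add_left, hf.bilinear.smul_left, hee, hee', hp, hp'] at k1 k2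
        rw [show r = 0 by linear_combination k2, show s = 0 by linear_combination k1]
        simp
      have hU2 : 2 ≤ Module.finrank F U := by
        have hli : LinearIndependent F ![e, e'] := LinearIndependent.pair_iff.mpr fun r s h => by
          have k1 := congrArg (fun z => f z e) h
          have k2 := congrArg (fun z => f z e') h
          simp only [hf.bilinear.add_left, hf.bilinear.smul_left, hee, hee', hp, hp', sym_zero_left hf] at k1 k2
          exact ⟨by linear_combination k2, by linear_combination k1⟩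
        have := finrank_span_eq_card hli
        rw [Matrix.range_cons, Matrix.range_cons, Matrix.range_empty, Set.union_empty, Set.singleton_union,
          Fintype.card_fin] at this
        rw [hU, this]
      have := Submodule.finrank_sup_add_finrank_inf_eq (pairW f e e') U
      rw [hdis, finrank_bot, add_zero] at this
      have := Submodule.finrank_le (pairW f e e' ⊔ U)
      rw [Module.finrank_fin_fun] at this
      omega
    exact ⟨i - 1, by omega⟩
  obtain ⟨j, hj⟩ := hdim
  obtain ⟨L, hL⟩ := exists_sim_sub hf h2 hν j _ (nd_pairW hf hee hee' hp) hj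
  obtain ⟨φ, hφ⟩ : ∃ φ : (Fin k → F) →ₗ[F] (Fin k → F), ∀ x, φ x = x - f x e' • e - f x e • e' :=
    ⟨{ toFun := fun x => x - f x e' • e - f x e • e'
       map_add' := fun x y => by rw [hf.bilinear.add_left, hf.bilinear.add_left]; module
       map_smul' := fun r x => by rw [hf.bilinear.smul_left, hf.bilinear.smul_left, RingHom.id_apply]; module },
     fun x => rfl⟩
  obtain ⟨N, hN⟩ : ∃ N : (Fin k → F) →ₗ[F] (Fin k → F), ∀ x, N x = (f x e' * ν) • e + f x e • e' + L (φ x) :=
    ⟨{ toFun := fun x => (f x e' * ν) • e + f x e • e' + L (φ x)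
       map_add' := fun x y => by rw [hf.bilinear.add_left, hf.bilinear.add_left, map_add, map_add]; module
       map_smul' := fun r x => by
         rw [hf.bilinear.smul_left, hf.bilinear.smul_left, map_smul, map_smul, RingHom.id_apply]; module },
     fun x => rfl⟩
  have hφW : ∀ x, φ x ∈ pairW f e e' := fun x => (hmem _).mpr ⟨by
    rw [hφ, sym_sub_left hf, sym_sub_left hf, hf.bilinear.smul_left, hf.bilinear.smul_left, hee, hp']; ring, by
    rw [hφ, sym_sub_left hf, sym_sub_left hf, hf.bilinear.smul_left, hf.bilinear.smul_left, hee', hp]; ring⟩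
  have hsim : ∀ x y, f (N x) (N y) = ν * f x y := fun x y => by
    obtain ⟨a1, a2⟩ := (hmem _).mp (hL _ (hφW x)).1
    obtain ⟨b1, b2⟩ := (hmem _).mp (hL _ (hφW y)).1
    rw [hN, hN]
    simp only [hf.bilinear.add_left, hf.bilinear.add_right, hf.bilinear.smul_left, hf.bilinear.smul_right,
      hee, hee', hp, hp', a1, a2, hf.symm e (L (φ y)), hf.symm e' (L (φ y)), b1, b2, (hL _ (hφW x)).2 _ (hφW y)]
    simp only [hφ, sym_sub_left hf, sym_sub_right hf, hf.bilinear.smul_left, hf.bilinear.smul_right, hee, hee', hp,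
      hp', hf.symm e y, hf.symm e' y]
    ring
  have hinj : Function.Injective N := fun x y h => by
    refine sub_eq_zero.mp (SpO.sym_eq hf fun z => ?_)
    have := hsim (x - y) z
    rw [map_sub, h, sub_self, sym_zero_left hf] at this
    rw [sym_zero_left hf]
    exact (mul_eq_zero.mp this.symm).resolve_left hν
  refine ⟨SpO.glOfLin N hinj, ⟨hν, fun x y => ?_⟩, ?_⟩
  · rw [SpO.glOfLin_mulVec, SpO.glOfLin_mulVec, hsim]
  · rw [SpO.glOfLin_mulVec, hN, hp, hee, hφ, hp, hee]
    simp

end CfsgLib.Classical22.OPow
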