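/-
Stabilisers of a singular slot subspace inducing tensor wreath elements are tensor wreath elements.
-/
import Cfsg.Agent.Lib.Classical22.OrthPower.Ms
import Cfsg.Agent.Lib.Classical22.OrthPower.Simil

set_option autoImplicit false
set_option linter.unusedSectionVars false
set_option linter.unusedSimpArgs false

namespace CfsgLib.Classical22.OPow

open Matrix CfsgLib.Transvec CfsgLib.Classical22.TensorMax CfsgLib.Classical22.TensorMax.SympO
open CfsgLib.Classical22.TensorMax.SpO (sym_outer sym_zero_left kr)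
open CfsgLib.Classical22.TWMax (Idx pv emb emb_mul emb_one slotEl slotEl_val slotEl_apply slotG flatG IsTW TWData twData_of_kr)
open CfsgLib.Classical22.TPow (slotA flatA pG)
open scoped MatrixGroups

variable {F : Type*} [Field F] {t k : ℕ} {f : (Fin k → F) → (Fin k → F) → F}

lemma isTW_mul {T : ℕ} {g h : GL (Idx T k) F} (hg : IsTW g) (hh : IsTW h) : IsTW (g * h) :=
  let ⟨_, _, hg⟩ := hg
  let ⟨_, _, hh⟩ := hh
  ⟨_, _, hg.mul hh⟩

lemma isTW_inv {T : ℕ} {g : GL (Idx T k) F} (hg : IsTW g) : IsTW g⁻¹ :=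
  let ⟨_, _, hg⟩ := hg
  ⟨_, _, hg.inv⟩

/-- Two matrices of the form, tested on pure vectors. -/
lemma piso_ext {T : ℕ} {c₀ : F} {M N : Matrix (Idx T k) (Idx T k) F}
    (h : ∀ xs ys, bil f (M *ᵥ pv xs) (N *ᵥ pv ys) = c₀ * bil f (pv xs) (pv ys)) :
    Mᵀ * pG T f * N = c₀ • pG T f := by
  refine Matrix.ext fun a b => ?_
  have h1 := h (fun i => Pi.single (a i) 1) (fun i => Pi.single (b i) 1)
  rw [← TWMax.single_eq_pv, ← TWMax.single_eq_pv] at h1
  have e : ∀ x y, bil f (M *ᵥ x) (N *ᵥ y) = ((Mᵀ * pG T f * N) *ᵥ y) ⬝ᵥ x := fun x y => by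
    rw [bil, mul_assoc, ← mulVec_mulVec, ← mulVec_mulVec, mulVec_transpose, ← dotProduct_mulVec]
  rw [e] at h1
  simpa [bil, dotProduct_single] using h1

/-- An element that is a slot matrix times a wreath element of the other slots. -/
theorem isTW_of_tens (s : Fin (t + 1)) {y : GL (Idx (t + 1) k) F} {A : GL (Fin k) F} {G : GL (Idx t k) F}
    {π : Equiv.Perm (Fin t)} {gs : Fin t → GL (Fin k) F} (hG : TWData G π gs) (h : y.val = tens s A.val G.val) :
    IsTW y := by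
  refine twData_of_kr s hG A (Units.ext ?_)
  change slotA s y.val = Matrix.kroneckerMap (· * ·) (flatA t k G.val) A.val
  rw [h, tens, AlgEquiv.apply_symm_apply]

variable {M : Subgroup (GL (Idx (t + 2) k) F)} [Fintype F] {C : Ctx f M} {e e' : Fin k → F} {c : F}
  (H : Fr C e e' c) {s : Fin (t + 2)}
include H

lemma Fr.ee_ee' : outer f e e * outer f e e' = 0 := Matrix.ext_iff_mulVec.mpr fun x => by
  rw [← mulVec_mulVec, zero_mulVec, sym_outer C.sym, sym_outer C.sym, C.sym.bilinear.smul_left, H.ee, mul_zero,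
    zero_smul]

lemma Fr.e'e_ee : outer f e e * outer f e' e = outer f e e ∧ outer f e e' * outer f e e = outer f e e :=
  ⟨H.outer_cross_sq.2, H.outer_cross_sq.1⟩

/-- Two elements differing by a shear are equal, unless the group is big. -/
theorem Fr.ee_eq (hbig : ¬ Big f M) {u v : GL (Idx (t + 2) k) F} (hu : u ∈ M) (hv : v ∈ M) (hs : H.Stab s v)
    {X : Matrix (Idx (t + 1) k) (Idx (t + 1) k) F} (h : u.val - v.val = tens s (outer f e e) X) :
    u = v ∧ X = 0 := by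
  obtain ⟨D, hD⟩ : ∃ D, D = tens s (outer f e e) X * v⁻¹.val := ⟨_, rfl⟩
  have hEE : H.EE s D := by
    constructor
    · rw [hD, H.pe_tens, ← mul_assoc, tens_mul, H.e'e_ee.2, one_mul]
    · have e1 : tens s (outer f e e) X * H.qe s = tens s (outer f e e) X := by
        rw [Fr.qe, ← tens_emb, tens_mul, H.e'e_ee.1, mul_one]
      calc D * H.qe s = tens s (outer f e e) X * H.qe s * (v⁻¹.val * H.qe s) := by rw [hD, e1, mul_assoc]
        _ = tens s (outer f e e) X * (H.qe s * v⁻¹.val * H.qe s) := by simp only [mul_assoc]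
        _ = D := by rw [← H.stab_dual (M.inv_mem hv) (H.stab_inv hs), ← mul_assoc, e1, hD]
  have hmem : Mem M D := ⟨u * v⁻¹, M.mul_mem hu (M.inv_mem hv), by
    rw [hD, ← h, sub_mul, Units.mul_inv, Units.val_mul]; abel⟩
  have hD0 : D = 0 := by
    by_contra hne
    exact hbig (H.big_of_shear (by omega) ⟨hmem, H.ee_iff.mp hEE⟩ hne)
  have h0 : tens s (outer f e e) X = 0 := by
    have h1 := congrArg (· * v.val) hD0
    simp only [hD, mul_assoc, Units.inv_mul, mul_one, zero_mul] at h1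
    exact h1
  exact ⟨Units.ext (sub_eq_zero.mp (h.trans h0)),
    tens_inj s H.outer_ne (h0.trans (tens_zero_right s _).symm)⟩

/-- The two relations of the slot part with the singular square. -/
lemma Fr.split_rel {C₀ : GL (Fin k) F} {β : F} (hβ : β ≠ 0) (hCe : C₀.val *ᵥ e = β • e)
    (hCx : ∀ x, f (C₀.val *ᵥ x) e = β⁻¹ * f x e) :
    C₀.val * outer f e e' = β • outer f e e' ∧ C₀.val * outer f e e = β • outer f e e ∧
      outer f e e * C₀.val = β⁻¹ • outer f e e := by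
  refine ⟨?_, ?_, ?_⟩ <;> refine Matrix.ext_iff_mulVec.mpr fun x => ?_
  · rw [← mulVec_mulVec, smul_mulVec, sym_outer C.sym, mulVec_smul, hCe, smul_comm]
  · rw [← mulVec_mulVec, smul_mulVec, sym_outer C.sym, mulVec_smul, hCe, smul_comm]
  · rw [← mulVec_mulVec, smul_mulVec, sym_outer C.sym, sym_outer C.sym, hCx, smul_smul]

/-- The part on the other slots lies in the induced group. -/
lemma Fr.split_mem_Ms {y : GL (Idx (t + 2) k) F} (hy : y ∈ M) (hs : H.Stab s y) {C₀ : GL (Fin k) F} {β : F}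
    {G : GL (Idx (t + 1) k) F} {S : Matrix (Idx (t + 1) k) (Idx (t + 1) k) F}
    (hyv : y.val = tens s C₀.val G.val + tens s (C₀.val * outer f e e) S) (hβ : β ≠ 0)
    (hCe : C₀.val *ᵥ e = β • e) (hCx : ∀ x, f (C₀.val *ᵥ x) e = β⁻¹ * f x e) (hG : PIso f G)
    (hd : Odd k → G.val.det = 1) : G ∈ H.Ms s :=
  ⟨hG, hd, y, hy, hs, β, hβ, by
    rw [hyv, H.pe_tens, add_mul, tens_mul, tens_mul, mul_one, mul_assoc, H.ee_ee', mul_zero, tens_zero_left, add_zero,
      (H.split_rel hβ hCe hCx).1, tens_smul_left]⟩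

/-- The lift of a commutator with a slot element. -/
theorem Fr.exists_comm_lift (hbig : ¬ Big f M) {G : GL (Idx (t + 1) k) F} (hG : G ∈ H.Ms s) {j : Fin (t + 1)}
    {B : GL (Fin k) F} (hB : slotEl (s.succAbove j) B ∈ M) :
    ∃ h ∈ M, H.Stab s h ∧ ∃ S, h.val =
      tens s 1 (G * slotEl j B * G⁻¹ * (slotEl j B)⁻¹).val + tens s (outer f e e) S := by
  classical
  obtain ⟨hGiso, -, y, hy, hs, β', hβ', hype⟩ := hG
  obtain ⟨C₀, β, G', S, hyv, hβ, hCe, hCx, hG', hd⟩ := H.stab_split hbig hy hs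
    (Or.inr ⟨G, β', hGiso, hβ', hype⟩)
  obtain ⟨r1, r2, r3⟩ := H.split_rel hβ hCe hCx
  have hype' : y.val * H.pe s = β • tens s (outer f e e') G'.val := by
    rw [hyv, H.pe_tens, add_mul, tens_mul, tens_mul, mul_one, mul_assoc, H.ee_ee', mul_zero, tens_zero_left, add_zero,
      r1, tens_smul_left]
  obtain ⟨ρ, hρ0, hρ⟩ : ∃ ρ : F, ρ ≠ 0 ∧ G.val = ρ • G'.val := by
    refine ⟨β'⁻¹ * β, mul_ne_zero (inv_ne_zero hβ') hβ, ?_⟩
    have hne : outer f e e' ≠ 0 := fun h0 => H.e_ne (by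
      have := congrArg (· *ᵥ e) h0
      simpa [sym_outer C.sym, H.pair] using this)
    have h1 := hype.symm.trans hype'
    rw [← tens_smul_right, ← tens_smul_right] at h1
    rw [mul_smul, ← tens_inj s hne h1, inv_smul_smul₀ hβ']
  obtain ⟨Gi, hGi⟩ : ∃ Gi, Gi = (G * slotEl j B * G⁻¹ * (slotEl j B)⁻¹) := ⟨_, rfl⟩
  rw [← hGi]
  have hcomm : Gi.val = (G' * slotEl j B * G'⁻¹ * (slotEl j B)⁻¹).val := by
    have hinv : G⁻¹.val = ρ⁻¹ • G'⁻¹.val := left_inv_eq_right_inv (Units.inv_mul G) (by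
      rw [hρ, Matrix.smul_mul, Matrix.mul_smul, Units.mul_inv, smul_smul, mul_inv_cancel₀ hρ0, one_smul])
    simp only [hGi, Units.val_mul, hρ, hinv, Matrix.smul_mul, Matrix.mul_smul, smul_smul]
    rw [inv_mul_cancel₀ hρ0, one_smul]
  obtain ⟨x, hx⟩ : ∃ x, x = slotEl (s.succAbove j) B := ⟨_, rfl⟩
  obtain ⟨X, hX⟩ : ∃ X, X = slotEl j B := ⟨_, rfl⟩
  have hxv : x.val = tens s 1 X.val := by rw [hx, hX, slotEl_val, slotEl_val, tens_emb_other]
  have hxs : H.Stab s x := by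
    obtain ⟨h1, -⟩ := H.cm_slot (s := s) (Fin.succAbove_ne s j) B
    rw [hx, Fr.Stab, mul_assoc, h1, ← mul_assoc, H.pe_pe]
  have hxm : x ∈ M := hx ▸ hB
  obtain ⟨h, hh⟩ : ∃ h, h = y * x * y⁻¹ * x⁻¹ := ⟨_, rfl⟩
  refine ⟨h, hh ▸ M.mul_mem (M.mul_mem (M.mul_mem hy hxm) (M.inv_mem hy)) (M.inv_mem hxm),
    hh ▸ H.stab_mul (H.stab_mul (H.stab_mul hs hxs) (H.stab_inv hs)) (H.stab_inv hxs),
    (β * β) • ((S * X.val - Gi.val * X.val * S) * (X * G')⁻¹.val), ?_⟩
  obtain ⟨K, hK⟩ : ∃ K, K = tens s 1 Gi.val +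
      tens s (outer f e e) ((β * β) • ((S * X.val - Gi.val * X.val * S) * (X * G')⁻¹.val)) := ⟨_, rfl⟩
  have hGX : Gi.val * X.val * G'.val = G'.val * X.val := by
    rw [hcomm, ← hX, ← Units.val_mul, ← Units.val_mul, ← Units.val_mul]
    congr 1
    group
  have key : K * (x.val * y.val) = y.val * x.val := by
    have hcc : outer f e e * (C₀.val * outer f e e) = 0 := by
      rw [r2, Matrix.mul_smul, H.ee_sq, smul_zero]
    rw [hK, hxv, hyv, mul_add, tens_mul, tens_mul, add_mul, mul_add, mul_add, tens_mul, tens_mul, tens_mul, tens_mul,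
      add_mul, tens_mul, tens_mul]
    simp only [one_mul, mul_one, hcc, tens_zero_left, add_zero]
    rw [← mul_assoc Gi.val, hGX, ← mul_assoc Gi.val X.val S, r3, r2, tens_smul_left s β⁻¹, tens_smul_left s β,
      ← tens_smul_right s β⁻¹, ← tens_smul_right s β, Matrix.smul_mul, smul_smul,
      mul_assoc _ (X * G')⁻¹.val, ← Units.val_mul X G', Units.inv_mul, mul_one, ← mul_assoc β⁻¹ β β,
      inv_mul_cancel₀ hβ, one_mul, tens_smul_left s β, ← tens_smul_right s β,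
      add_assoc (tens s C₀.val _), ← tens_add_right, ← smul_add]
    congr 3
    abel
  rw [hh, ← hK, Units.val_mul, Units.val_mul, Units.val_mul, ← key]
  simp only [mul_assoc]
  rw [← mul_assoc y.val y⁻¹.val, Units.mul_inv, one_mul, Units.mul_inv, mul_one]

/-- The stabiliser element with square multiplier is in the tensor wreath group. -/
theorem Fr.flag_tw_sq (hbig : ¬ Big f M) (htw : ∀ g ∈ H.Ms s, IsTW g) {y : GL (Idx (t + 2) k) F} (hy : y ∈ M)
    (hs : H.Stab s y) (hsq : Odd k ∨ ∃ (G' : GL (Idx (t + 1) k) F) (β' : F), PIso f G' ∧ β' ≠ 0 ∧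
      y.val * H.pe s = β' • tens s (outer f e e') G'.val) : IsTW y := by
  classical
  have hf := C.sym
  obtain ⟨C₀, β, G, S, hyv, hβ, hCe, hCx, hG, hd⟩ := H.stab_split hbig hy hs hsq
  obtain ⟨r1, r2, r3⟩ := H.split_rel hβ hCe hCx
  obtain ⟨π, gs₀, hdata₀⟩ := htw G (H.split_mem_Ms hy hs hyv hβ hCe hCx hG hd)
  obtain ⟨gs, hdata, hconj, hadm⟩ : ∃ gs, TWData G π gs ∧
      (∀ j v, gs j * eG hf v * (gs j)⁻¹ = eG hf ((gs j).val *ᵥ v)) ∧
      ∀ j v, Adm hf M (s.succAbove (π j)) v → Adm hf M (s.succAbove j) ((gs j).val *ᵥ v) := by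
    rcases Nat.even_or_odd k with hev | hodd
    · choose μ hμ0 hμ using sim_of_tw hf C.two C.dim hdata₀ hG
      exact ⟨gs₀, hdata₀, fun j v => eG_conj_sim hf (μ := μ j) ⟨hμ0 j, hμ j⟩ v, fun j v hv =>
        ⟨by rw [hμ]; exact mul_ne_zero (hμ0 j) hv.1, C.refl hev _ _ (by rw [hμ]; exact mul_ne_zero (hμ0 j) hv.1)⟩⟩
    · obtain ⟨gs, hgs, hdata⟩ := isoF_of_tw hf hodd C.two C.dim hdata₀ hG
      exact ⟨gs, hdata, fun j v => eG_conj hf (hgs j) v,
        fun j v hv => C.adm_of_sq hv (by rw [hgs j]; exact hv.1) (by rw [hgs j]; exact ⟨_, rfl⟩) _⟩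
  have hcom : ∀ (j : Fin (t + 1)) v, Adm hf M (s.succAbove (π j)) v →
      G⁻¹.val * S * emb (π j) (eG hf v).val = emb (π j) (eG hf v).val * (G⁻¹.val * S) := by
    intro j v hv
    obtain ⟨E, hE⟩ : ∃ E, E = slotEl (π j) (eG hf v) := ⟨_, rfl⟩
    obtain ⟨E', hE'⟩ : ∃ E', E' = slotEl j (eG hf ((gs j).val *ᵥ v)) := ⟨_, rfl⟩
    have hGE : G * E = E' * G := by
      rw [hE, hE', ← hconj j, ← hdata.conj_slotEl, inv_mul_cancel_right]
    obtain ⟨a, ha⟩ : ∃ a, a = slotEl (s.succAbove (π j)) (eG hf v) := ⟨_, rfl⟩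
    obtain ⟨a', ha'⟩ : ∃ a', a' = slotEl (s.succAbove j) (eG hf ((gs j).val *ᵥ v)) := ⟨_, rfl⟩
    have hav : a.val = tens s 1 E.val := by rw [ha, hE, slotEl_val, slotEl_val, tens_emb_other]
    have ha'v : a'.val = tens s 1 E'.val := by rw [ha', hE', slotEl_val, slotEl_val, tens_emb_other]
    have ham' : Adm hf M (s.succAbove j) ((gs j).val *ᵥ v) := hadm j v hv
    have hsa' : H.Stab s (a' * y) := H.stab_mul (by
      obtain ⟨h1, -⟩ := H.cm_slot (s := s) (Fin.succAbove_ne s j) (eG hf ((gs j).val *ᵥ v))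
      rw [ha', Fr.Stab, mul_assoc, h1, ← mul_assoc, H.pe_pe]) hs
    have hdiff : (y * a).val - (a' * y).val = tens s (outer f e e) (β • (S * E.val - E'.val * S)) := by
      rw [Units.val_mul, Units.val_mul, hav, ha'v, hyv, add_mul, mul_add, tens_mul, tens_mul, tens_mul, tens_mul]
      simp only [one_mul, mul_one]
      rw [← Units.val_mul G E, hGE, Units.val_mul, r2, tens_smul_left, tens_smul_left, ← tens_smul_right,
        ← tens_smul_right, smul_sub, tens_sub_right]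
      abel
    have h0 := (H.ee_eq hbig (M.mul_mem hy (ha ▸ hv.2)) (M.mul_mem (ha' ▸ ham'.2) hy) hsa' hdiff).2
    rw [smul_eq_zero, sub_eq_zero] at h0
    have h1 := h0.resolve_left hβ
    have hGE' : G⁻¹ * E' = E * G⁻¹ := by
      rw [eq_mul_inv_iff_mul_eq, mul_assoc, ← hGE, inv_mul_cancel_left]
    rw [mul_assoc, ← slotEl_val (π j), ← hE, h1, ← mul_assoc, ← Units.val_mul, hGE', Units.val_mul, mul_assoc]
  have hscal : ∀ i x y', ∃ a : F, blk i x y' (G⁻¹.val * S) = a • 1 := fun i x y' => by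
    obtain ⟨j, rfl⟩ := π.surjective i
    exact scalar_of_comm C (s.succAbove (π j)) fun v hv => by
      rw [← blk_left, ← blk_right, hcom j v hv]
  obtain ⟨B, hB⟩ := exists_emb_of_scalar (by have := C.dim; omega) (0 : Fin (t + 1))
    (fun l _ => hscal l)
  obtain ⟨o⟩ : Nonempty (Idx (t + 1) k) := ⟨fun _ => ⟨0, by have := C.dim; omega⟩⟩
  obtain ⟨a, ha⟩ := hscal 0 o o
  have hBa : B = a • 1 := by
    rw [← ha, hB]
    ext i l
    simp [blk, emb]
  have hS : S = a • G.val := by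
    have h1 := congrArg (G.val * ·) hB
    simp only [← mul_assoc, Units.mul_inv, one_mul, hBa, TWMax.emb_smul, emb_one, Matrix.mul_smul, mul_one] at h1
    exact h1
  obtain ⟨A, hA⟩ : ∃ A : GL (Fin k) F, A.val = C₀.val * (1 + a • outer f e e) := by
    refine ⟨C₀ * ⟨1 + a • outer f e e, 1 - a • outer f e e, ?_, ?_⟩, rfl⟩ <;>
      simp [add_mul, mul_add, sub_mul, mul_sub, H.ee_sq]
  refine isTW_of_tens s (A := A) hdata ?_
  rw [hyv, hS, hA, mul_add, mul_one, Matrix.mul_smul, tens_add_left, tens_smul_left, tens_smul_right]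

/-- The stabiliser is in the tensor wreath group when the induced group is. -/
theorem Fr.flag_tw (hbig : ¬ Big f M) (htw : ∀ g ∈ H.Ms s, IsTW g) {y : GL (Idx (t + 2) k) F} (hy : y ∈ M)
    (hs : H.Stab s y) : IsTW y := by
  classical
  rcases Nat.even_or_odd k with hev | hodd
  swap
  · exact H.flag_tw_sq hbig htw hy hs (Or.inl hodd)
  have hf := C.sym
  obtain ⟨C₁, β, μ, G, S, hdet, hGS, hβ, hμ, hCe, hCx, hype, hsim⟩ := H.stab_split₀ hbig hy hs
  obtain ⟨A, hA, hAe⟩ := exists_sim hf C.two H.ee H.ee'' H.pair hev (inv_ne_zero (mul_ne_zero hβ hμ))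
  obtain ⟨ν, hν⟩ : ∃ ν, ν = (β * μ)⁻¹ := ⟨_, rfl⟩
  rw [← hν] at hA hAe hsim
  have hν0 : ν ≠ 0 := hA.1
  obtain ⟨h, hh⟩ : ∃ h, h = slotEl s A * slotEl (s.succAbove 0) A⁻¹ := ⟨_, rfl⟩
  have hhM : h ∈ M := hh ▸ C.sim hev s (s.succAbove 0) A ν (Fin.succAbove_ne s 0).symm hA
  have hhtw : IsTW h := hh ▸ ⟨_, _, (TWMax.slotEl_data s A).mul (TWMax.slotEl_data _ A⁻¹)⟩
  have hAP : A.val * outer f e e' = ν • outer f e e' := Matrix.ext_iff_mulVec.mpr fun x => by
    rw [← mulVec_mulVec, smul_mulVec, sym_outer hf, mulVec_smul, hAe, smul_comm]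
  have hhpe : h.val * H.pe s = ν • tens s (outer f e e') (slotEl 0 A⁻¹).val := by
    rw [hh, H.pe_tens, Units.val_mul, slotEl_val, slotEl_val, slotEl_val, ← tens_emb, ← tens_emb_other, tens_mul,
      tens_mul, one_mul, mul_one, mul_one, hAP, tens_smul_left]
  have hhs : H.Stab s h := by
    rw [Fr.Stab, mul_assoc (H.pe s), hhpe, Matrix.mul_smul, H.pe_tens, tens_mul, H.P_idem.1, one_mul]
  obtain ⟨G', hG'⟩ : ∃ G' : Matrix (Idx (t + 1) k) (Idx (t + 1) k) F, G' = G * (slotEl 0 A⁻¹).val := ⟨_, rfl⟩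
  have hype' : (y * h).val * H.pe s = (β * ν) • tens s (outer f e e') G' := by
    have e1 : h.val * H.pe s = H.pe s * (h.val * H.pe s) := by
      rw [hhpe, Matrix.mul_smul, H.pe_tens, tens_mul, H.P_idem.1, one_mul]
    rw [Units.val_mul, mul_assoc, e1, ← mul_assoc y.val, hype, hhpe, Matrix.smul_mul, Matrix.mul_smul, tens_mul,
      H.P_idem.1, smul_smul, hG']
  have hpiso : G'ᵀ * pG (t + 1) f * G' = pG (t + 1) f := by
    have hA' : (slotEl (0 : Fin (t + 1)) A⁻¹).valᵀ * pG (t + 1) f * (slotEl 0 A⁻¹).val = ν⁻¹ • pG (t + 1) f := by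
      refine piso_ext fun xs ys => ?_
      rw [slotEl_apply, slotEl_apply, bil_pv hf, ← Finset.mul_prod_erase _ _ (Finset.mem_univ (0 : Fin (t + 1))),
        Function.update_self, Function.update_self, bil_pv hf,
        ← Finset.mul_prod_erase _ (fun i => f (xs i) (ys i)) (Finset.mem_univ (0 : Fin (t + 1)))]
      have h1 := hA.2 (A⁻¹.val *ᵥ xs 0) (A⁻¹.val *ᵥ ys 0)
      rw [Transvec.mulVec_inv_cancel, Transvec.mulVec_inv_cancel] at h1
      rw [h1, Finset.prod_congr rfl fun m hm => by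
        rw [Function.update_of_ne (Finset.ne_of_mem_erase hm), Function.update_of_ne (Finset.ne_of_mem_erase hm)]]
      field_simp
    calc G'ᵀ * pG (t + 1) f * G'
        = (slotEl (0 : Fin (t + 1)) A⁻¹).valᵀ * (Gᵀ * pG (t + 1) f * G) * (slotEl 0 A⁻¹).val := by
          rw [hG', transpose_mul]; simp only [mul_assoc]
      _ = pG (t + 1) f := by
          rw [hsim, Matrix.mul_smul, Matrix.smul_mul, hA', smul_smul, mul_inv_cancel₀ hν0, one_smul]
  have hu : IsUnit (pG (t + 1) f).det := by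
    refine Matrix.isUnit_det_of_right_inverse (B := TWMax.tmat fun _ => (TensorMax.SympO.gram f)⁻¹) ?_
    rw [pG, TWMax.tmat_mul]
    simp only [SpO.sym_gram_mul_inv hf, TWMax.tmat_one]
  have hG'u : G'.det ≠ 0 := fun h0 => hu.ne_zero (by rw [← hpiso, det_mul, det_mul, h0, mul_zero])
  have := H.flag_tw_sq hbig htw (M.mul_mem hy hhM) (H.stab_mul hs hhs) (Or.inr
    ⟨Matrix.GeneralLinearGroup.mkOfDetNeZero G' hG'u, β * ν, piso_iff.mpr hpiso, mul_ne_zero hβ hν0, hype'⟩)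
  have h2 := isTW_mul this (isTW_inv hhtw)
  rwa [mul_inv_cancel_right] at h2

end CfsgLib.Classical22.OPow
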