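/-
A group of isometries of a tensor product with a large second factor, described by how it meets a given subgroup
around the root elements of the second factor.
-/
import Cfsg.Agent.Lib.Classical22.OrthOrthTensor.Tens
import Mathlib.GroupTheory.Nilpotent

set_option autoImplicit false
set_option maxHeartbeats 800000

namespace CfsgLib.Classical22.OPow.Kc

open Matrix Kronecker CfsgLib.Transvec CfsgLib.Classical22.TensorMax CfsgLib.Classical22.TensorMax.SympO
  CfsgLib.Classical22.TensorMax.SpO CfsgLib.Classical22.TensorMax.OO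
open scoped MatrixGroups

variable {F : Type*} [Field F] {a b : ℕ} {f₁ : (Fin a → F) → (Fin a → F) → F}
  {f₂ : (Fin b → F) → (Fin b → F) → F}

/-- The root element of a singular line of the second factor; the identity unless it is defined. -/
noncomputable def rootK (hr : Cfsg.Geo.IsSymmetricForm f₂) (h2 : (2 : F) ≠ 0) (e p : Fin b → F) :
    GL (Fin a × Fin b) F :=
  haveI := Classical.propDecidable (f₂ e e = 0 ∧ f₂ e p = 0)
  if h : f₂ e e = 0 ∧ f₂ e p = 0 then kr 1 (OO.eU hr h2 h.1 h.2) else 1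

/-- The hypotheses on the group `M` and the subgroup `W`. -/
structure Core (f₁ : (Fin a → F) → (Fin a → F) → F) (f₂ : (Fin b → F) → (Fin b → F) → F)
    (W M : Subgroup (GL (Fin a × Fin b) F)) : Prop where
  left : Cfsg.Geo.IsSymmetricForm f₁
  right : Cfsg.Geo.IsSymmetricForm f₂
  two : (2 : F) ≠ 0
  dim : 3 ≤ a
  five : 5 ≤ b
  iso : ∀ g ∈ M, Iso f₁ f₂ g
  root : ∀ e p, IsLine f₂ e p → rootK right two e p ∈ M ∧ rootK right two e p ∈ W
  conj : ∀ n ∈ M, ∀ e p, IsLine f₂ e p → n * rootK right two e p * n⁻¹ ∈ W → n ∈ W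
  comm : ∀ n ∈ M, ∀ e p, IsLine f₂ e p → n * rootK right two e p = rootK right two e p * n → IsKron n
  fix : ∀ n ∈ M, ∀ e, e ≠ 0 → f₂ e e = 0 → (∀ x, n.val *ᵥ pt x e = pt x e) → n ∈ W

variable [Fintype F] {W M : Subgroup (GL (Fin a × Fin b) F)} (C : Core f₁ f₂ W M)

/-- The root element of a singular line. -/
noncomputable abbrev rootC {e p : Fin b → F} (_hL : IsLine f₂ e p) : GL (Fin a × Fin b) F := rootK C.right C.two e p

variable {e p : Fin b → F} (hL : IsLine f₂ e p)
include C hL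

lemma rootC_mem : rootC C hL ∈ M := (C.root e p hL).1

lemma rootC_vec (v : Fin a × Fin b → F) :
    (rootC C hL).val *ᵥ v = v + pt (s2 f₂ e v) p - pt (s2 f₂ p v) e := by
  have hr := C.right
  have hv := LinearMap.congr_fun (lin_ext (L := Matrix.mulVecLin (rootC C hL).val)
    (L' := LinearMap.id + (ptL p).comp (s2 f₂ e) - (ptL e).comp (s2 f₂ p)) fun x z => by
      simp only [Matrix.mulVecLin_apply, rootC, rootK, dif_pos (show f₂ e e = 0 ∧ f₂ e p = 0 from ⟨hL.1, hL.2.2.1⟩),
        kr_apply, Units.val_one, one_mulVec, LinearMap.sub_apply, LinearMap.add_apply, LinearMap.id_apply,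
        LinearMap.comp_apply, ptL_apply, s2q hr, pt_smul_left]
      rw [show (OO.eU hr C.two hL.1 hL.2.2.1).val = eA f₂ e p from rfl, eA_mulVec hr, hL.2.1]
      simp [pt_add_right, pt_sub_right, pt_smul_right]) v
  simpa [ptL_apply] using hv

lemma rootC_sub (v : Fin a × Fin b → F) :
    ((rootC C hL).val - 1) *ᵥ v = pt (s2 f₂ e v) p - pt (s2 f₂ p v) e := by
  rw [sub_mulVec, one_mulVec, rootC_vec]; abel

lemma rootC_sub_mem (v : Fin a × Fin b → F) :
    ((rootC C hL).val - 1) *ᵥ v ∈ tens a (Submodule.span F ({e, p} : Set (Fin b → F))) := by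
  rw [rootC_sub]
  exact sub_mem (pt_mem_tens _ (Submodule.subset_span (by simp))) (pt_mem_tens _ (Submodule.subset_span (by simp)))

lemma rootC_surj {w : Fin a × Fin b → F} (hw : w ∈ tens a (Submodule.span F ({e, p} : Set (Fin b → F)))) :
    ∃ v, ((rootC C hL).val - 1) *ᵥ v = w := by
  have hr := C.right
  obtain ⟨e', p', he'e, he'p, hp'e, hp'p⟩ := exists_duals hr hL
  have hle : tens a (Submodule.span F ({e, p} : Set (Fin b → F))) ≤
      LinearMap.range (Matrix.mulVecLin ((rootC C hL).val - 1)) := fun u hu => by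
    rw [eq_sum_rows u]
    refine Submodule.sum_mem _ fun i _ => ?_
    obtain ⟨s, t, hst⟩ := Submodule.mem_span_pair.mp (mem_tens.mp hu (Pi.single i (1 : F)))
    refine ⟨pt (t • Pi.single i (1 : F)) e' - pt (s • Pi.single i (1 : F)) p', ?_⟩
    rw [Matrix.mulVecLin_apply, mulVec_sub, rootC_sub, rootC_sub, s2q hr, s2q hr, s2q hr, s2q hr, he'e, he'p, hp'e,
      hp'p, ← hst, pt_add_right, pt_smul_right, pt_smul_right]
    simp only [one_smul, zero_smul, pt_zero_left, zero_sub, sub_zero, pt_smul_left]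
    abel
  obtain ⟨v, hv⟩ := hle hw
  exact ⟨v, hv⟩

lemma rootC_sq : ((rootC C hL).val - 1) * ((rootC C hL).val - 1) = 0 :=
  Matrix.ext_iff_mulVec.mpr fun v => by
    rw [← mulVec_mulVec, zero_mulVec, rootC_sub, rootC_sub]
    simp [s2q C.right, hL.1, hL.2.1, hL.2.2.1, C.right.symm p e, pt_zero_left]

lemma rootC_fix {v : Fin a × Fin b → F} (he : s2 f₂ e v = 0) (hp : s2 f₂ p v = 0) :
    (rootC C hL).val *ᵥ v = v := by
  rw [rootC_vec, he, hp, pt_zero_left, pt_zero_left, add_zero, sub_zero]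

/-- A subgroup of prime power order with a root element lies in `W`. -/
theorem mem_of_pgroup {q : ℕ} [Fact q.Prime] {P : Subgroup (GL (Fin a × Fin b) F)} (hP : IsPGroup q P)
    (hPM : P ≤ M) (hX : rootC C hL ∈ P) {g : GL (Fin a × Fin b) F} (hg : g ∈ P) : g ∈ W := by
  haveI : Finite (Matrix (Fin a × Fin b) (Fin a × Fin b) F) :=
    inferInstanceAs (Finite ((Fin a × Fin b) → (Fin a × Fin b) → F))
  haveI : Finite (GL (Fin a × Fin b) F) := Finite.of_injective _ Units.val_injective
  by_contra hk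
  have hlt : W.subgroupOf P < ⊤ := lt_of_le_of_ne le_top fun h => hk (by
    have h1 : (⟨g, hg⟩ : P) ∈ W.subgroupOf P := h ▸ Subgroup.mem_top _
    exact h1)
  have := hP.isNilpotent
  obtain ⟨n, hn, hnR⟩ := SetLike.exists_of_lt (Group.normalizerCondition_of_isNilpotent _ hlt)
  have hXR : (⟨_, hX⟩ : P) ∈ W.subgroupOf P := (C.root e p hL).2
  exact hnR (C.conj _ (hPM n.2) e p hL ((Subgroup.mem_normalizer_iff.mp hn ⟨_, hX⟩).mp hXR))

end CfsgLib.Classical22.OPow.Kc
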