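/-
An involution commuting with two root elements, from the Fitting decomposition of their products.
-/
import Cfsg.Agent.Lib.Classical22.OrthPower.KcBase
import Cfsg.Agent.Lib.Classical22.OrthOrthTensor.Line
import Cfsg.Agent.Lib.Classical22.OrthOrthTensor.Chain
import Cfsg.Agent.Lib.Classical22.SpOrthTensor.Inv
import Mathlib.RingTheory.Artinian.Module

set_option autoImplicit false
set_option maxHeartbeats 800000

namespace CfsgLib.Classical22.OPow.Kc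

open Matrix Kronecker CfsgLib.Transvec CfsgLib.Classical22.TensorMax CfsgLib.Classical22.TensorMax.SympO
  CfsgLib.Classical22.TensorMax.SpO CfsgLib.Classical22.TensorMax.OO
open scoped MatrixGroups

variable {F : Type*} [Field F] {a b : ℕ} {f₁ : (Fin a → F) → (Fin a → F) → F}
  {f₂ : (Fin b → F) → (Fin b → F) → F} [Fintype F] {W M : Subgroup (GL (Fin a × Fin b) F)} (C : Core f₁ f₂ W M)
include C

/-- An involution centralising two root elements, moving only their joint support. -/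
theorem exists_invol {g : GL (Fin a × Fin b) F} (hg : g ∈ M) (hgk : g ∉ W) {e p e₀ p₀ : Fin b → F}
    (hL : IsLine f₂ e p) (hL₀ : IsLine f₂ e₀ p₀) :
    ∃ z ∈ M, z * z = 1 ∧ z ≠ 1 ∧ z * rootC C hL = rootC C hL * z ∧ ∀ v, z.val *ᵥ v = -v →
      ∃ w₁ w₂, w₁ ∈ tens a (Submodule.span F ({e, p} : Set (Fin b → F))) ∧
        w₂ ∈ tens a (Submodule.span F ({e, p} : Set (Fin b → F))) ∧ z.val *ᵥ w₁ = -w₁ ∧ z.val *ᵥ w₂ = -w₂ ∧
        v = w₁ + ((g * rootC C hL₀ * g⁻¹).val - 1) *ᵥ w₂ := by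
  classical
  have h2 := C.two
  obtain ⟨pc, hpF⟩ := CharP.exists F
  haveI : Fact pc.Prime := ⟨CharP.char_is_prime F pc⟩
  have hpodd : Odd pc := (Fact.out : pc.Prime).odd_of_ne_two (by
    rintro rfl
    exact h2 (by simpa using CharP.cast_eq_zero F 2))
  haveI : Nonempty (Fin a × Fin b) := ⟨(⟨0, by have := C.dim; omega⟩, ⟨0, by have := C.five; omega⟩)⟩
  obtain ⟨X, hX⟩ : ∃ X, X = rootC C hL := ⟨_, rfl⟩
  obtain ⟨y, hy⟩ : ∃ y, y = g * rootC C hL₀ * g⁻¹ := ⟨_, rfl⟩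
  rw [← hy, ← hX]
  have hXM : X ∈ M := hX ▸ rootC_mem C hL
  have hyM : y ∈ M := hy ▸ M.mul_mem (M.mul_mem hg (rootC_mem C hL₀)) (M.inv_mem hg)
  obtain ⟨N, hN⟩ : ∃ N, N = X.val - 1 := ⟨_, rfl⟩
  obtain ⟨K, hK⟩ : ∃ K, K = y.val - 1 := ⟨_, rfl⟩
  rw [← hK]
  have hN2 : N * N = 0 := by rw [hN, hX, rootC_sq]
  have hK2 : K * K = 0 := Matrix.ext_iff_mulVec.mpr fun v => by
    rw [hK, hy, conj_sub_one]
    simp only [← mulVec_mulVec, Transvec.inv_mulVec_cancel]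
    rw [mulVec_mulVec _ ((rootC C hL₀).val - 1), rootC_sq, zero_mulVec, mulVec_zero, zero_mulVec]
  have eN : ∀ v, N *ᵥ (N *ᵥ v) = 0 := fun v => by rw [mulVec_mulVec, hN2, zero_mulVec]
  have eK : ∀ v, K *ᵥ (K *ᵥ v) = 0 := fun v => by rw [mulVec_mulVec, hK2, zero_mulVec]
  have eX : ∀ v, X.val *ᵥ v = v + N *ᵥ v := fun v => by rw [hN, sub_mulVec, one_mulVec]; abel
  have ey : ∀ v, y.val *ᵥ v = v + K *ᵥ v := fun v => by rw [hK, sub_mulVec, one_mulVec]; abel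
  obtain ⟨S, hS⟩ : ∃ S, S = N * K + K * N := ⟨_, rfl⟩
  have hSN : S * N = N * S := by
    rw [hS, add_mul, mul_add, mul_assoc K N N, hN2, mul_zero, add_zero, ← mul_assoc N N K, hN2, zero_mul, zero_add,
      mul_assoc]
  have hSK : S * K = K * S := by
    rw [hS, add_mul, mul_add, mul_assoc N K K, hK2, mul_zero, zero_add, ← mul_assoc K K N, hK2, zero_mul, add_zero,
      mul_assoc]
  have hSv : ∀ v, S *ᵥ v = N *ᵥ (K *ᵥ v) + K *ᵥ (N *ᵥ v) := fun v => by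
    rw [hS, add_mulVec, ← mulVec_mulVec, ← mulVec_mulVec]
  -- the Fitting decomposition
  obtain ⟨m, hm1, hcompl⟩ : ∃ m, 1 ≤ m ∧
      IsCompl (LinearMap.ker ((Matrix.mulVecLin S) ^ m)) (LinearMap.range ((Matrix.mulVecLin S) ^ m)) := by
    obtain ⟨m₀, hm₀⟩ := Filter.eventually_atTop.mp (Matrix.mulVecLin S).eventually_isCompl_ker_pow_range_pow
    exact ⟨m₀ + 1, by omega, hm₀ _ (by omega)⟩
  have hpow : ∀ (i : ℕ) v, ((Matrix.mulVecLin S) ^ i) v = (S ^ i) *ᵥ v := fun i => by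
    induction i with
    | zero => intro v; simp
    | succ i ih =>
      intro v
      rw [pow_succ', Module.End.mul_apply, ih, Matrix.mulVecLin_apply, mulVec_mulVec, pow_succ']
  obtain ⟨U₀, hU₀⟩ : ∃ U₀, U₀ = LinearMap.ker ((Matrix.mulVecLin S) ^ m) := ⟨_, rfl⟩
  obtain ⟨U₁, hU₁⟩ : ∃ U₁, U₁ = LinearMap.range ((Matrix.mulVecLin S) ^ m) := ⟨_, rfl⟩
  rw [← hU₀, ← hU₁] at hcompl
  have mem₀ : ∀ v, v ∈ U₀ ↔ (S ^ m) *ᵥ v = 0 := fun v => by rw [hU₀, LinearMap.mem_ker, hpow]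
  have mem₁ : ∀ v, v ∈ U₁ ↔ ∃ u, (S ^ m) *ᵥ u = v := fun v => by rw [hU₁, LinearMap.mem_range]; simp only [hpow]
  have hinv : ∀ R, S * R = R * S → (∀ v ∈ U₀, R *ᵥ v ∈ U₀) ∧ ∀ v ∈ U₁, R *ᵥ v ∈ U₁ := by
    intro R hR
    have hc : S ^ m * R = R * S ^ m := Commute.pow_left hR m
    refine ⟨fun v hv => (mem₀ _).mpr ?_, fun v hv => ?_⟩
    · rw [mulVec_mulVec, hc, ← mulVec_mulVec, (mem₀ v).mp hv, mulVec_zero]
    · obtain ⟨u, rfl⟩ := (mem₁ v).mp hv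
      exact (mem₁ _).mpr ⟨R *ᵥ u, by rw [mulVec_mulVec, hc, mulVec_mulVec]⟩
  have hN0 := hinv N hSN
  have hK0 := hinv K hSK
  have hS0 := hinv S rfl
  by_cases hbot : U₁ = ⊥
  · -- a unipotent group
    exfalso
    obtain ⟨P, hP⟩ : ∃ P, P = chainGroup (N := N) (K := K) (G := ⊤) (fun v _ => trivial) (fun v _ => trivial) ⊓ M :=
      ⟨_, rfl⟩
    have hPp : IsPGroup pc P := fun h => by
      have hh : h.1 ∈ chainGroup (N := N) (K := K) (G := ⊤) (fun v _ => trivial) (fun v _ => trivial) :=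
        (Subgroup.mem_inf.mp ((SetLike.le_def.mp hP.le) h.2)).1
      refine ⟨2 * m + 2, Subtype.ext (Transvec.gl_ext fun v => ?_)⟩
      rw [SubmonoidClass.coe_pow, Subgroup.coe_one, Units.val_one, one_mulVec]
      refine exists_pow_fix (p := pc) hN2 hK2 (fun u _ => ?_) hh v trivial
      have h1 : (S ^ m) *ᵥ u ∈ U₁ := (mem₁ _).mpr ⟨u, rfl⟩
      rw [hbot, Submodule.mem_bot] at h1
      rw [← hS, h1]
    have hXP : X ∈ P := hP ▸ Subgroup.mem_inf.mpr ⟨mem_chainGroup (Or.inl hN.symm), hXM⟩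
    have hyP : y ∈ P := hP ▸ Subgroup.mem_inf.mpr ⟨mem_chainGroup (Or.inr hK.symm), hyM⟩
    have hyk := mem_of_pgroup C hL hPp (hP ▸ inf_le_right) (hX ▸ hXP) hyP
    exact hgk (C.conj g hg _ _ hL₀ (hy ▸ hyk))
  have hSinj : ∀ v ∈ U₁, S *ᵥ v = 0 → v = 0 := fun v hv h0 => by
    have h1 : v ∈ U₀ := (mem₀ v).mpr (by
      obtain ⟨i, rfl⟩ := Nat.exists_eq_add_of_le hm1
      rw [add_comm, pow_succ, ← mulVec_mulVec, h0, mulVec_zero])
    exact (Submodule.disjoint_def.mp hcompl.disjoint) v h1 hv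
  have hSsurj : ∀ v ∈ U₁, ∃ u ∈ U₁, S *ᵥ u = v := by
    obtain ⟨S₁, hS₁⟩ : ∃ S₁ : U₁ →ₗ[F] U₁, ∀ v, (S₁ v).1 = S *ᵥ v.1 :=
      ⟨(Matrix.mulVecLin S).restrict hS0.2, fun v => rfl⟩
    have hi : Function.Injective S₁ := by
      rw [← LinearMap.ker_eq_bot, LinearMap.ker_eq_bot']
      exact fun v h => Subtype.ext (hSinj _ v.2 (by rw [← hS₁, h]; rfl))
    intro v hv
    obtain ⟨u, hu⟩ := LinearMap.surjective_of_injective hi ⟨v, hv⟩
    exact ⟨u.1, u.2, by rw [← hS₁, hu]⟩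
  -- the plane structure
  obtain ⟨Wp, hW⟩ : ∃ Wp, Wp = U₁.map (Matrix.mulVecLin N) := ⟨_, rfl⟩
  have hWU : Wp ≤ U₁ := hW ▸ Submodule.map_le_iff_le_comap.mpr hN0.2
  have hNW : ∀ w ∈ Wp, N *ᵥ w = 0 := by
    rw [hW]; rintro _ ⟨u, -, rfl⟩; exact eN u
  have hTmem : ∀ w ∈ Wp, N *ᵥ (K *ᵥ w) ∈ Wp := fun w hw => hW ▸ ⟨K *ᵥ w, hK0.2 w (hWU hw), rfl⟩
  obtain ⟨T, hT⟩ : ∃ T : Module.End F Wp, ∀ w, (T w).1 = N *ᵥ (K *ᵥ w.1) :=
    ⟨((Matrix.mulVecLin N).comp (Matrix.mulVecLin K)).restrict hTmem, fun w => rfl⟩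
  have hTS : ∀ w : Wp, (T w).1 = S *ᵥ w.1 := fun w => by rw [hT, hSv, hNW _ w.2, mulVec_zero, add_zero]
  have hTinj : Function.Injective T := by
    rw [← LinearMap.ker_eq_bot, LinearMap.ker_eq_bot']
    exact fun w h => Subtype.ext (hSinj _ (hWU w.2) (by rw [← hTS, h]; rfl))
  obtain ⟨θ, hθ⟩ : ∃ θ : (Wp × Wp) →ₗ[F] (Fin a × Fin b → F), ∀ q, θ q = N *ᵥ (K *ᵥ q.1.1) + K *ᵥ q.2.1 :=
    ⟨((Matrix.mulVecLin N).comp ((Matrix.mulVecLin K).comp Wp.subtype)).coprod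
      ((Matrix.mulVecLin K).comp Wp.subtype), fun q => rfl⟩
  have hθU : ∀ q, θ q ∈ U₁ := fun q => by
    rw [hθ]; exact add_mem (hN0.2 _ (hK0.2 _ (hWU q.1.2))) (hK0.2 _ (hWU q.2.2))
  have hθinj : Function.Injective θ := by
    rw [← LinearMap.ker_eq_bot, LinearMap.ker_eq_bot']
    intro q hq
    rw [hθ] at hq
    have h1 : N *ᵥ (K *ᵥ q.2.1) = 0 := by
      have := congrArg (N *ᵥ ·) hq
      simp only [mulVec_add, eN, zero_add, mulVec_zero] at this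
      exact this
    have h3 : q.2 = 0 := hTinj (Subtype.ext (by rw [hT, h1, map_zero]; rfl))
    rw [h3] at hq
    have h4 : q.1 = 0 := hTinj (Subtype.ext (by rw [hT, map_zero]; simpa using hq))
    exact Prod.ext h4 h3
  have hdec : ∀ v, ∃ u ∈ U₀, ∃ q, v = u + θ q := by
    intro v
    obtain ⟨u, hu, w, hw, rfl⟩ := Submodule.mem_sup.mp (hcompl.sup_eq_top ▸ Submodule.mem_top : v ∈ U₀ ⊔ U₁)
    obtain ⟨r, hr, rfl⟩ := hSsurj w hw
    have hmemN : N *ᵥ (K *ᵥ r) ∈ Wp := hW ▸ ⟨K *ᵥ r, hK0.2 r hr, rfl⟩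
    obtain ⟨q₁, hq₁⟩ := LinearMap.surjective_of_injective hTinj ⟨_, hmemN⟩
    refine ⟨u, hu, (q₁, ⟨N *ᵥ r, hW ▸ ⟨r, hr, rfl⟩⟩), ?_⟩
    rw [hθ, ← hT, hq₁, hSv]
  have hXθ : ∀ q, X.val *ᵥ θ q = θ (q.1 + q.2, q.2) := fun q => by
    rw [eX, hθ, hθ, mulVec_add, eN, zero_add, Submodule.coe_add, mulVec_add, mulVec_add]; abel
  have hyθ : ∀ q, y.val *ᵥ θ q = θ (q.1, q.2 + T q.1) := fun q => by
    rw [ey, hθ, hθ, mulVec_add, eK, add_zero, Submodule.coe_add, mulVec_add, hT]; abel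
  obtain ⟨Γ, hΓ⟩ : ∃ Γ, Γ = Subgroup.closure ({X, y} : Set (GL (Fin a × Fin b) F)) := ⟨_, rfl⟩
  have hΓX : X ∈ Γ := hΓ ▸ Subgroup.subset_closure (by simp)
  have hΓy : y ∈ Γ := hΓ ▸ Subgroup.subset_closure (by simp)
  obtain ⟨Δ, hΔ⟩ : ∃ Δ : Subgroup (GL (Fin a × Fin b) F), ∀ h, h ∈ Δ ↔
      ∀ v, h.val *ᵥ (S *ᵥ v) = S *ᵥ (h.val *ᵥ v) :=
    ⟨{ carrier := {h | ∀ v, h.val *ᵥ (S *ᵥ v) = S *ᵥ (h.val *ᵥ v)}
       one_mem' := fun v => by simp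
       mul_mem' := fun {h k} hh hk v => by
        rw [Units.val_mul, ← mulVec_mulVec, hk, hh, ← mulVec_mulVec]
       inv_mem' := fun {h} hh v => mulVec_injective h (by
        simp only
        rw [Transvec.mulVec_inv_cancel, hh, Transvec.mulVec_inv_cancel]) }, fun h => Iff.rfl⟩
  have hΓle : Γ ≤ M ⊓ Δ ⊓ chainGroup (G := U₀) hN0.1 hK0.1 := by
    rw [hΓ, Subgroup.closure_le]
    rintro k (rfl | rfl)
    · exact ⟨⟨hXM, (hΔ _).mpr fun v => by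
        rw [eX, eX, mulVec_add, mulVec_mulVec _ S N, hSN, mulVec_mulVec]⟩, mem_chainGroup (Or.inl hN.symm)⟩
    · exact ⟨⟨hyM, (hΔ _).mpr fun v => by
        rw [ey, ey, mulVec_add, mulVec_mulVec _ S K, hSK, mulVec_mulVec]⟩, mem_chainGroup (Or.inr hK.symm)⟩
  obtain ⟨Rep, hRep⟩ : ∃ Rep : Module.End F (Wp × Wp) → Prop,
      ∀ μ, Rep μ ↔ ∃ h ∈ Γ, ∀ q, h.val *ᵥ θ q = θ (μ q) := ⟨_, fun μ => Iff.rfl⟩
  haveI : Nontrivial Wp := by
    obtain ⟨v, hv, hv0⟩ := Submodule.exists_mem_ne_zero_of_ne_bot hbot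
    refine ⟨?_⟩
    by_contra hc
    push Not at hc
    haveI : Subsingleton Wp := ⟨hc⟩
    obtain ⟨u, hu, q, hq⟩ := hdec v
    have hθ0 : θ q = 0 := by rw [Subsingleton.elim q 0, map_zero]
    rw [hθ0, add_zero] at hq
    exact hv0 ((Submodule.disjoint_def.mp hcompl.disjoint) v (hq ▸ hu) hv)
  obtain ⟨σ, hσ2, hσ1, μ, hμR, hμ⟩ := exists_scalar_involution h2 T hTinj (Rep := Rep)
    ((hRep _).mpr ⟨1, Γ.one_mem, fun q => by simp⟩)
    (fun μ μ' h h' => by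
      obtain ⟨k, hk, hkq⟩ := (hRep _).mp h
      obtain ⟨k', hk', hkq'⟩ := (hRep _).mp h'
      exact (hRep _).mpr ⟨k * k', Γ.mul_mem hk hk', fun q => by
        rw [Units.val_mul, ← mulVec_mulVec, hkq', hkq]; rfl⟩)
    (fun μ μ' h h' hh => by
      obtain ⟨k, hk, hkq⟩ := (hRep _).mp hh
      refine (hRep _).mpr ⟨k⁻¹, Γ.inv_mem hk, fun q => mulVec_injective k ?_⟩
      simp only
      rw [Transvec.mulVec_inv_cancel, hkq, ← Module.End.mul_apply, h, Module.End.one_apply])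
    (fun μ h => (hRep _).mpr ⟨X, hΓX, fun q => by rw [hXθ, ← h]⟩)
    (fun μ h => (hRep _).mpr ⟨y, hΓy, fun q => by rw [hyθ, ← h]⟩)
  obtain ⟨h, hhΓ, hhθ⟩ := (hRep _).mp hμR
  obtain ⟨z, hz⟩ : ∃ z, z = h ^ pc ^ (2 * m + 2) := ⟨_, rfl⟩
  have hz₀ : ∀ u ∈ U₀, z.val *ᵥ u = u := fun u hu => by
    rw [hz]
    exact exists_pow_fix (p := pc) hN2 hK2 (fun v hv => by rw [← hS]; exact (mem₀ v).mp hv)
      (hΓle hhΓ).2 u hu
  have hμμ : ∀ q, μ (μ q) = q := fun q => by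
    rw [← Prod.mk.eta (p := q), hμ, hμ, ← Module.End.mul_apply, ← Module.End.mul_apply, hσ2]; rfl
  have hzθ : ∀ q, z.val *ᵥ θ q = θ (μ q) := by
    obtain ⟨i, hi⟩ := hpodd.pow (n := 2 * m + 2)
    have hh2 : ∀ (i : ℕ) q, (h ^ (2 * i + 1)).val *ᵥ θ q = θ (μ q) := fun i => by
      induction i with
      | zero => intro q; rw [mul_zero, zero_add, pow_one, hhθ]
      | succ i ih =>
        intro q
        rw [show 2 * (i + 1) + 1 = (2 * i + 1) + 2 by ring, pow_add, pow_two, Units.val_mul, Units.val_mul,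
          ← mulVec_mulVec, ← mulVec_mulVec, hhθ, hhθ, hμμ, ih]
    intro q
    rw [hz, hi, hh2]
  have hext : ∀ (P Q : Matrix (Fin a × Fin b) (Fin a × Fin b) F), (∀ u ∈ U₀, P *ᵥ u = Q *ᵥ u) →
      (∀ q, P *ᵥ θ q = Q *ᵥ θ q) → P = Q := fun P Q h1 h1' => Matrix.ext_iff_mulVec.mpr fun v => by
    obtain ⟨u, hu, q, rfl⟩ := hdec v
    rw [mulVec_add, mulVec_add, h1 u hu, h1']
  have hσT : ∀ w, σ (T w) = T (σ w) := fun w => by
    have hSθ : ∀ w, S *ᵥ θ (w, 0) = θ (T w, 0) := fun w => by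
      rw [hθ, hθ]
      simp only [Submodule.coe_zero, mulVec_zero, add_zero, hT, hSv, eN, zero_add]
    have e := (hΔ h).mp (hΓle hhΓ).1.2 (θ (w, 0))
    rw [hSθ, hhθ, hhθ, hμ, hμ, map_zero, hSθ] at e
    exact congrArg Prod.fst (hθinj e)
  refine ⟨z, hz ▸ M.pow_mem (hΓle hhΓ).1.1 _, Units.ext (hext _ _ (fun u hu => ?_) fun q => ?_), fun h1 => hσ1 ?_,
    Units.ext (hext _ _ (fun u hu => ?_) fun q => ?_), fun v hv => ?_⟩
  · rw [Units.val_mul, ← mulVec_mulVec, hz₀ u hu, hz₀ u hu, Units.val_one, one_mulVec]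
  · rw [Units.val_mul, ← mulVec_mulVec, hzθ, hzθ, hμμ, Units.val_one, one_mulVec]
  · refine LinearMap.ext fun w => ?_
    have e := hzθ (w, 0)
    rw [h1, Units.val_one, one_mulVec, hμ, map_zero] at e
    exact (congrArg Prod.fst (hθinj e)).symm
  · rw [Units.val_mul, Units.val_mul, ← mulVec_mulVec, ← mulVec_mulVec, hz₀ u hu,
      hz₀ _ (by rw [eX]; exact add_mem hu (hN0.1 u hu))]
  · rw [Units.val_mul, Units.val_mul, ← mulVec_mulVec, ← mulVec_mulVec, hzθ, hXθ, hzθ, hXθ]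
    obtain ⟨q₁, q₂⟩ := q
    simp only [hμ, map_add]
  · obtain ⟨u, hu, ⟨q₁, q₂⟩, rfl⟩ := hdec v
    rw [mulVec_add, hz₀ u hu, hzθ, hμ] at hv
    have h3 : u + u = -(θ (σ q₁, σ q₂) + θ (q₁, q₂)) := by linear_combination (norm := abel) hv
    have h4 : u = 0 := by
      have h5 : (2 : F) • u ∈ U₁ := by rw [two_smul, h3]; exact neg_mem (add_mem (hθU _) (hθU _))
      have h6 := (Submodule.disjoint_def.mp hcompl.disjoint) _ (Submodule.smul_mem _ _ hu) h5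
      exact (smul_eq_zero.mp h6).resolve_left h2
    subst h4
    rw [zero_add, zero_add, ← map_neg] at hv
    have h5 := hθinj hv
    have hp1 : σ q₁ = -q₁ := congrArg Prod.fst h5
    have hp2 : σ q₂ = -q₂ := congrArg Prod.snd h5
    have hWt : ∀ w : Wp, w.1 ∈ tens a (Submodule.span F ({e, p} : Set (Fin b → F))) := fun w => by
      obtain ⟨u, -, hu⟩ : w.1 ∈ U₁.map (Matrix.mulVecLin N) := hW ▸ w.2
      rw [← hu, Matrix.mulVecLin_apply, hN, hX]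
      exact rootC_sub_mem C hL u
    have hzW : ∀ w : Wp, σ w = -w → z.val *ᵥ (T w).1 = -(T w).1 := fun w hw => by
      have e := hzθ (w, 0)
      rw [hθ, hμ, map_zero, hw, hθ] at e
      simpa [hT, mulVec_neg] using e
    obtain ⟨q₂', hq₂'⟩ := LinearMap.surjective_of_injective hTinj q₂
    refine ⟨(T q₁).1, q₂.1, hWt _, hWt _, hzW q₁ hp1, ?_, ?_⟩
    · rw [← hq₂']
      refine hzW q₂' (hTinj ?_)
      rw [← hσT, hq₂', hp2, map_neg, hq₂']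
    · rw [zero_add, hθ, hT]

end CfsgLib.Classical22.OPow.Kc
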