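/-
Two root elements are either in the subgroup or span a pure subspace of rank four.
-/
import Cfsg.Agent.Lib.Classical22.OrthPower.KcInvol
import Cfsg.Agent.Lib.Classical22.OrthOrthTensor.Skew
import Cfsg.Agent.Lib.Classical22.OrthOrthTensor.Pair

set_option autoImplicit false
set_option maxHeartbeats 800000

namespace CfsgLib.Classical22.OPow.Kc

open Matrix Kronecker CfsgLib.Transvec CfsgLib.Classical22.TensorMax CfsgLib.Classical22.TensorMax.SympO
  CfsgLib.Classical22.TensorMax.SpO CfsgLib.Classical22.TensorMax.OO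
open scoped MatrixGroups

variable {F : Type*} [Field F] {a b : ℕ} {f₁ : (Fin a → F) → (Fin a → F) → F}
  {f₂ : (Fin b → F) → (Fin b → F) → F} [Fintype F] {W M : Subgroup (GL (Fin a × Fin b) F)} (C : Core f₁ f₂ W M)
include C

/-- An involution of tensor product form as a product of two isometric involutions. -/
lemma exists_invol_factors {z : GL (Fin a × Fin b) F} (hz : z ∈ M) (hzk : IsKron z) (hz2 : z * z = 1)
    (hpar : Odd b ∨ (∀ (A : Matrix (Fin a) (Fin a) F) (B : Matrix (Fin b) (Fin b) F) (α μ : F), α ≠ 0 → μ ≠ 0 →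
      (∀ x, A *ᵥ (A *ᵥ x) = α • x) → (∀ u, B *ᵥ (B *ᵥ u) = α⁻¹ • u) →
      (∀ x y, f₁ (A *ᵥ x) (A *ᵥ y) = μ * f₁ x y) → (∀ u v, f₂ (B *ᵥ u) (B *ᵥ v) = μ⁻¹ * f₂ u v) →
      (∀ x u, z.val *ᵥ pt x u = pt (A *ᵥ x) (B *ᵥ u)) → ∃ c : F, c * c = α ∧ μ = α)) :
    ∃ (A : Matrix (Fin a) (Fin a) F) (B : Matrix (Fin b) (Fin b) F), (∀ x u, z.val *ᵥ pt x u = pt (A *ᵥ x) (B *ᵥ u)) ∧
      (∀ x, A *ᵥ (A *ᵥ x) = x) ∧ (∀ u, B *ᵥ (B *ᵥ u) = u) ∧ ∀ u v, f₂ (B *ᵥ u) (B *ᵥ v) = f₂ u v := by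
  have hl := C.left
  have hr := C.right
  have h2 := C.two
  obtain ⟨A, B, hAB⟩ := isKron_apply hzk
  have hiso : ∀ x x' u v, f₁ (A.val *ᵥ x) (A.val *ᵥ x') * f₂ (B.val *ᵥ u) (B.val *ᵥ v) = f₁ x x' * f₂ u v :=
    fun x x' u v => by
      have h := C.iso z hz (pt x u) (pt x' v)
      rwa [hAB, hAB, bform_ptpt hl hr, bform_ptpt hl hr] at h
  obtain ⟨x₁, hx₁, hx₁x₁⟩ := exists_singular_sym hl h2 C.dim
  obtain ⟨x₂, -, hx₁₂, -⟩ := exists_partner_sym hl h2 hx₁ hx₁x₁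
  obtain ⟨u₀, -, hu₀⟩ := exists_aniso hr h2 (nd_top hr) (by
    rw [finrank_top, Module.finrank_fin_fun]; have := C.five; omega)
  obtain ⟨r, hr'⟩ : ∃ r, r = f₂ (B.val *ᵥ u₀) (B.val *ᵥ u₀) := ⟨_, rfl⟩
  have hr0 : r ≠ 0 := fun h0 => by
    have h := hiso x₁ x₂ u₀ u₀
    rw [← hr', h0, mul_zero, hx₁₂, one_mul] at h
    exact hu₀ h.symm
  obtain ⟨μ, hμ⟩ : ∃ μ, μ = f₂ u₀ u₀ / r := ⟨_, rfl⟩
  have hμ0 : μ ≠ 0 := hμ ▸ div_ne_zero hu₀ hr0
  have hformA : ∀ x x', f₁ (A.val *ᵥ x) (A.val *ᵥ x') = μ * f₁ x x' := fun x x' => by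
    have h := hiso x x' u₀ u₀
    rw [← hr'] at h
    rw [hμ, div_mul_eq_mul_div, eq_div_iff hr0, h, mul_comm]
  have hformB : ∀ u v, f₂ (B.val *ᵥ u) (B.val *ᵥ v) = μ⁻¹ * f₂ u v := fun u v => by
    have h := hiso x₁ x₂ u v
    rw [hformA, hx₁₂, mul_one, one_mul] at h
    rw [← h, inv_mul_cancel_left₀ hμ0]
  have hsq : ∀ x u, pt (A.val *ᵥ (A.val *ᵥ x)) (B.val *ᵥ (B.val *ᵥ u)) = pt x u := fun x u => by
    have h := congrArg (fun g : GL (Fin a × Fin b) F => g.val *ᵥ pt x u) hz2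
    simpa [← mulVec_mulVec, hAB] using h
  have hu₀0 : u₀ ≠ 0 := fun h => hu₀ (by rw [h, sym_zero_left hr])
  obtain ⟨φ, -, hφ⟩ := exists_functional (E := (⊥ : Submodule F (Fin b → F))) (u := u₀) (by simpa using hu₀0)
  obtain ⟨l, hl'⟩ : ∃ l, l = φ ⬝ᵥ (B.val *ᵥ (B.val *ᵥ u₀)) := ⟨_, rfl⟩
  have hA2 : ∀ x, l • (A.val *ᵥ (A.val *ᵥ x)) = x := fun x => by
    have h := congrArg (sl φ) (hsq x u₀)
    rwa [sl_pt, sl_pt, hφ, one_smul, ← hl'] at h
  have hl0 : l ≠ 0 := fun h0 => hx₁ (by rw [← hA2 x₁, h0, zero_smul])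
  obtain ⟨α, hα⟩ : ∃ α, α = l⁻¹ := ⟨_, rfl⟩
  have hα0 : α ≠ 0 := hα ▸ inv_ne_zero hl0
  have hAα : ∀ x, A.val *ᵥ (A.val *ᵥ x) = α • x := fun x => by
    conv_rhs => rw [← hA2 x, hα, inv_smul_smul₀ hl0]
  have hBα : ∀ u, B.val *ᵥ (B.val *ᵥ u) = α⁻¹ • u := fun u => by
    obtain ⟨ψ, -, hψ⟩ := exists_functional (E := (⊥ : Submodule F (Fin a → F))) (u := x₁) (by simpa using hx₁)
    have h := congrArg (slA ψ) (hsq x₁ u)
    rw [hAα, slA_pt, slA_pt, dotProduct_smul, hψ, smul_eq_mul, mul_one, one_smul] at h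
    conv_rhs => rw [← h, inv_smul_smul₀ hα0]
  obtain ⟨c, hc⟩ : ∃ c : F, c * c = α := by
    rcases hpar with hb | h
    · obtain ⟨c, hc⟩ := isSquare_of_sq_scalar hb (inv_ne_zero hα0) (Matrix.ext_iff_mulVec.mpr fun x => by
        rw [← mulVec_mulVec, hBα, smul_mulVec, one_mulVec])
      exact ⟨c⁻¹, by rw [← mul_inv, hc, inv_inv]⟩
    · obtain ⟨c, hc, -⟩ := h A.val B.val α μ hα0 hμ0 hAα hBα hformA hformB hAB
      exact ⟨c, hc⟩
  have hc0 : c ≠ 0 := fun h => hα0 (by rw [← hc, h, mul_zero])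
  obtain ⟨A', hA'⟩ : ∃ A', A' = c⁻¹ • A.val := ⟨_, rfl⟩
  obtain ⟨B', hB'⟩ : ∃ B', B' = c • B.val := ⟨_, rfl⟩
  have hA'2 : ∀ x, A' *ᵥ (A' *ᵥ x) = x := fun x => by
    rw [hA', smul_mulVec, smul_mulVec, mulVec_smul, hAα, smul_smul, smul_smul, ← hc]
    field_simp
    rw [one_smul]
  have hB'2 : ∀ u, B' *ᵥ (B' *ᵥ u) = u := fun u => by
    rw [hB', smul_mulVec, smul_mulVec, mulVec_smul, hBα, smul_smul, smul_smul, ← hc]
    field_simp
    rw [one_smul]
  obtain ⟨ν, hν⟩ : ∃ ν, ν = μ / (c * c) := ⟨_, rfl⟩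
  have hfA : ∀ x x', f₁ (A' *ᵥ x) (A' *ᵥ x') = ν * f₁ x x' := fun x x' => by
    rw [hA', smul_mulVec, smul_mulVec, hl.bilinear.smul_left, hl.bilinear.smul_right, hformA, hν]
    field_simp
  have hfB : ∀ u v, f₂ (B' *ᵥ u) (B' *ᵥ v) = ν⁻¹ * f₂ u v := fun u v => by
    rw [hB', smul_mulVec, smul_mulVec, hr.bilinear.smul_left, hr.bilinear.smul_right, hformB, hν]
    field_simp
  have hν2 : ν * ν = 1 := by
    have h := hfA (A' *ᵥ x₁) (A' *ᵥ x₂)
    rw [hA'2, hA'2, hfA, hx₁₂] at h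
    linear_combination -h
  have hν1 : ν = 1 := by
    rcases hpar with hb | h
    · refine ((mul_self_eq_one_iff.mp hν2).resolve_right fun hm => ?_)
      rw [hm] at hfA hfB
      refine not_skew hr h2 hb (A := B') (fun h => ?_) fun x y => ?_
      · have h1 : B' * B' = 1 := Matrix.ext_iff_mulVec.mpr fun x => by rw [← mulVec_mulVec, hB'2, one_mulVec]
        have := congrArg Matrix.det h1
        rw [det_mul, h, zero_mul, det_one] at this
        exact zero_ne_one this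
      · conv_lhs => arg 2; rw [← hB'2 y]
        rw [hfB, inv_neg, inv_one]; ring
    · obtain ⟨d, -, hd⟩ := h A.val B.val α μ hα0 hμ0 hAα hBα hformA hformB hAB
      rw [hν, hc, hd, div_self hα0]
  refine ⟨A', B', fun x u => ?_, hA'2, hB'2, fun u v => by rw [hfB, hν1, inv_one, one_mul]⟩
  rw [hAB, hA', hB', smul_mulVec, smul_mulVec, pt_smul_left, pt_smul_right, smul_smul, inv_mul_cancel₀ hc0, one_smul]

/-- Two root elements span a pure subspace of rank four. -/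
theorem pair_span {g : GL (Fin a × Fin b) F} (hg : g ∈ M) (hgk : g ∉ W) {e p e₀ p₀ : Fin b → F}
    (hL : IsLine f₂ e p) (hL₀ : IsLine f₂ e₀ p₀) :
    ∃ Q : Submodule F (Fin b → F), Module.finrank F Q = 4 ∧ Submodule.span F ({e, p} : Set (Fin b → F)) ≤ Q ∧
      img g (tens a (Submodule.span F ({e₀, p₀} : Set (Fin b → F)))) ≤ tens a Q ∧
      tens a Q ≤ tens a (Submodule.span F ({e, p} : Set (Fin b → F))) ⊔
        img g (tens a (Submodule.span F ({e₀, p₀} : Set (Fin b → F)))) := by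
  classical
  have hl := C.left
  have hr := C.right
  have h2 := C.two
  obtain ⟨z, hzM, hz2, hz1, hzX, hzE⟩ := exists_invol C hg hgk hL hL₀
  have hzk : IsKron z := C.comm z hzM _ _ hL hzX
  obtain ⟨A₀, B₀, hAB₀, hA₀, hB₀, hB₀f⟩ := exists_invol_factors C hzM hzk hz2 (Or.inr fun A B α μ hα hμ hA hB hfA hfB hAB =>
      exists_sq_of_line C.left C.right C.two (by have := C.dim; omega) C.five hα hμ hA hB hfA hfB hAB hL
        (rootC_sub C hL) hzX hzE)
  obtain ⟨e', p', he'e, he'p, hp'e, hp'p⟩ := exists_duals hr hL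
  obtain ⟨hee, hpp, hep, he0, hpe⟩ := id hL
  -- the second factor is scalar on the line
  obtain ⟨x₁, hx₁, -⟩ := exists_singular_sym hl h2 C.dim
  obtain ⟨β, hβ⟩ : ∃ β : Matrix (Fin b) (Fin b) F, ∀ u, β *ᵥ u = f₂ u e • p - f₂ u p • e :=
    ⟨outer f₂ p e - outer f₂ e p, fun u => by rw [sub_mulVec, sym_outer hr, sym_outer hr]⟩
  have hNv : ∀ x u, ((rootC C hL).val - 1) *ᵥ pt x u = pt x (β *ᵥ u) := fun x u => by
    rw [rootC_sub, s2q hr, s2q hr, hβ, pt_smul_left, pt_smul_left, pt_sub_right, pt_smul_right, pt_smul_right]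
  have hcomm : ∀ u, β *ᵥ (B₀ *ᵥ u) = B₀ *ᵥ (β *ᵥ u) := fun u => by
    have h := congrArg (fun k : GL (Fin a × Fin b) F => k.val *ᵥ pt x₁ u) hzX
    simp only [Units.val_mul, ← mulVec_mulVec] at h
    have eX : ∀ v, (rootC C hL).val *ᵥ v = v + ((rootC C hL).val - 1) *ᵥ v := fun v => by
      rw [sub_mulVec, one_mulVec]; abel
    rw [eX, hNv, mulVec_add, hAB₀, hAB₀, eX, hNv, add_right_inj] at h
    have h' : pt (A₀ *ᵥ x₁) (B₀ *ᵥ (β *ᵥ u) - β *ᵥ (B₀ *ᵥ u)) = 0 := by rw [pt_sub_right, h, sub_self]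
    by_contra hne
    have h3 := pt_eq_zero (sub_ne_zero.mpr (Ne.symm hne)) h'
    exact hx₁ (by rw [← hA₀ x₁, h3, mulVec_zero])
  have hBself : ∀ u v, f₂ (B₀ *ᵥ u) v = f₂ u (B₀ *ᵥ v) := fun u v => by
    conv_lhs => rw [← hB₀ v, hB₀f]
  have hβe' : β *ᵥ e' = p := by rw [hβ, he'e, he'p, one_smul, zero_smul, sub_zero]
  have hβp' : β *ᵥ p' = -e := by rw [hβ, hp'e, hp'p, one_smul, zero_smul, zero_sub]
  have hBp : B₀ *ᵥ p = f₂ e' (B₀ *ᵥ e) • p - f₂ e' (B₀ *ᵥ p) • e := by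
    have h := hcomm e'
    rw [hβe', hβ, hBself, hBself] at h
    exact h.symm
  have hBe : B₀ *ᵥ e = f₂ p' (B₀ *ᵥ p) • e - f₂ p' (B₀ *ᵥ e) • p := by
    have h1 := hcomm p'
    rw [hβp', mulVec_neg, hβ, hBself, hBself] at h1
    linear_combination (norm := module) h1
  obtain ⟨r, hr'⟩ : ∃ r, r = f₂ e' (B₀ *ᵥ e) := ⟨_, rfl⟩
  have ht : f₂ e' (B₀ *ᵥ p) = 0 := by
    have h := congrArg (f₂ e') hBp
    rw [sym_sub_right hr, hr.bilinear.smul_right, hr.bilinear.smul_right, he'p, he'e] at h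
    exact (mul_eq_zero.mp (by linear_combination h : 2 * f₂ e' (B₀ *ᵥ p) = 0)).resolve_left h2
  have hw : f₂ p' (B₀ *ᵥ p) = r := by
    rw [hBp, sym_sub_right hr, hr.bilinear.smul_right, hr.bilinear.smul_right, hp'p, hp'e, ← hr']; ring
  have hs : f₂ p' (B₀ *ᵥ e) = 0 := by
    have h := congrArg (f₂ p') hBe
    rw [sym_sub_right hr, hr.bilinear.smul_right, hr.bilinear.smul_right, hp'e, hp'p] at h
    exact (mul_eq_zero.mp (by linear_combination h : 2 * f₂ p' (B₀ *ᵥ e) = 0)).resolve_left h2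
  rw [ht, zero_smul, sub_zero, ← hr'] at hBp
  rw [hs, zero_smul, sub_zero, hw] at hBe
  have hrr : r * r = 1 := by
    have h := congrArg (f₂ e') (hB₀ e)
    rw [hBe, mulVec_smul, hBe, smul_smul, hr.bilinear.smul_right, he'e, mul_one] at h
    exact h
  obtain ⟨A, hA⟩ : ∃ A, A = r • A₀ := ⟨_, rfl⟩
  obtain ⟨B, hB⟩ : ∃ B, B = r • B₀ := ⟨_, rfl⟩
  have hAB : ∀ x u, z.val *ᵥ pt x u = pt (A *ᵥ x) (B *ᵥ u) := fun x u => by
    rw [hAB₀, hA, hB, smul_mulVec, smul_mulVec, pt_smul_left, pt_smul_right, smul_smul, hrr, one_smul]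
  have hA2 : ∀ x, A *ᵥ (A *ᵥ x) = x := fun x => by
    rw [hA, smul_mulVec, smul_mulVec, mulVec_smul, hA₀, smul_smul, hrr, one_smul]
  have hB2 : ∀ u, B *ᵥ (B *ᵥ u) = u := fun u => by
    rw [hB, smul_mulVec, smul_mulVec, mulVec_smul, hB₀, smul_smul, hrr, one_smul]
  have hBe1 : B *ᵥ e = e := by rw [hB, smul_mulVec, hBe, smul_smul, hrr, one_smul]
  have hBp1 : B *ᵥ p = p := by rw [hB, smul_mulVec, hBp, smul_smul, hrr, one_smul]
  have hBs : ∀ u v, f₂ (B *ᵥ u) v = f₂ u (B *ᵥ v) := fun u v => by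
    rw [hB, smul_mulVec, smul_mulVec, hr.bilinear.smul_left, hr.bilinear.smul_right, hBself]
  -- the eigenspaces
  obtain ⟨P, hP⟩ : ∃ P : Submodule F (Fin a → F), ∀ x, x ∈ P ↔ A *ᵥ x = -x :=
    ⟨LinearMap.ker (Matrix.mulVecLin A + LinearMap.id), fun x => by simp [add_eq_zero_iff_eq_neg]⟩
  obtain ⟨Q, hQ⟩ : ∃ Q : Submodule F (Fin b → F), ∀ u, u ∈ Q ↔ B *ᵥ u = u :=
    ⟨LinearMap.ker (Matrix.mulVecLin B - LinearMap.id), fun u => by simp [sub_eq_zero]⟩
  obtain ⟨E, hE⟩ : ∃ E : Submodule F (Fin a × Fin b → F), ∀ v, v ∈ E ↔ z.val *ᵥ v = -v :=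
    ⟨LinearMap.ker (Matrix.mulVecLin z.val + LinearMap.id), fun v => by simp [add_eq_zero_iff_eq_neg]⟩
  obtain ⟨K, hK⟩ : ∃ K, K = (g * rootC C hL₀ * g⁻¹).val - 1 := ⟨_, rfl⟩
  simp only [← hK] at hzE
  have hKW : ∀ v, K *ᵥ v ∈ img g (tens a (Submodule.span F ({e₀, p₀} : Set (Fin b → F)))) := fun v => by
    rw [hK, conj_sub_one, ← mulVec_mulVec, ← mulVec_mulVec]
    exact mem_img.mpr ⟨_, rootC_sub_mem C hL₀ _, rfl⟩
  obtain ⟨Ψ₀, hΨ₀⟩ : ∃ Ψ₀ : (P × P) →ₗ[F] (Fin a × Fin b → F), ∀ q, Ψ₀ q = pt q.1.1 e + pt q.2.1 p :=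
    ⟨((ptL e).comp P.subtype).coprod ((ptL p).comp P.subtype), fun q => rfl⟩
  obtain ⟨Ψ, hΨ⟩ : ∃ Ψ : ((P × P) × (P × P)) →ₗ[F] (Fin a × Fin b → F), ∀ q, Ψ q = Ψ₀ q.1 + K *ᵥ Ψ₀ q.2 :=
    ⟨Ψ₀.coprod ((Matrix.mulVecLin K).comp Ψ₀), fun q => rfl⟩
  have hline : ∀ w, w ∈ tens a (Submodule.span F ({e, p} : Set (Fin b → F))) → z.val *ᵥ w = -w →
      ∃ q, Ψ₀ q = w := by
    intro w hw hzw
    obtain ⟨v, rfl⟩ := rootC_surj C hL hw
    rw [rootC_sub] at hzw ⊢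
    rw [mulVec_sub, hAB, hAB, hBe1, hBp1] at hzw
    have h1 : A *ᵥ s2 f₂ e v = - s2 f₂ e v := by
      have h := congrArg (s2 f₂ p') hzw
      rw [map_neg, map_sub, map_sub, s2q hr, s2q hr, s2q hr, s2q hr, hr.symm p p', hp'p, hr.symm e p', hp'e] at h
      simpa using h
    have h3 : A *ᵥ (-s2 f₂ p v) = - -s2 f₂ p v := by
      have h := congrArg (s2 f₂ e') hzw
      rw [map_neg, map_sub, map_sub, s2q hr, s2q hr, s2q hr, s2q hr, hr.symm p e', he'p, hr.symm e e', he'e] at h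
      rw [mulVec_neg]
      simpa using h
    refine ⟨(⟨_, (hP _).mpr h3⟩, ⟨_, (hP _).mpr h1⟩), ?_⟩
    rw [hΨ₀, pt_neg_left]
    abel
  have hEΨ : E ≤ LinearMap.range Ψ := fun v hv => by
    obtain ⟨w₁, w₂, h1, h2', h3, h4, rfl⟩ := hzE v ((hE v).mp hv)
    obtain ⟨q₁, rfl⟩ := hline w₁ h1 h3
    obtain ⟨q₂, rfl⟩ := hline w₂ h2' h4
    exact ⟨(q₁, q₂), hΨ _⟩
  have hdimE : Module.finrank F E ≤ 4 * Module.finrank F P := by
    refine (Submodule.finrank_mono hEΨ).trans ((LinearMap.finrank_range_le Ψ).trans (le_of_eq ?_))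
    rw [Module.finrank_prod, Module.finrank_prod]
    ring
  have hPne : 0 < Module.finrank F P := by
    by_contra h0
    have hE0 : E = ⊥ := Submodule.finrank_eq_zero.mp (by omega)
    refine hz1 (Transvec.gl_ext fun v => ?_)
    have h1 : v - z.val *ᵥ v ∈ E := by
      rw [hE, mulVec_sub, mulVec_mulVec, ← Units.val_mul, hz2, Units.val_one, one_mulVec]; abel
    rw [hE0, Submodule.mem_bot, sub_eq_zero] at h1
    rw [Units.val_one, one_mulVec, ← h1]
  have hLQ : Submodule.span F ({e, p} : Set (Fin b → F)) ≤ Q := Submodule.span_le.mpr (by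
    rintro u (rfl | rfl) <;> exact (hQ _).mpr (by assumption))
  have hQ4 : 4 ≤ Module.finrank F Q := by
    obtain ⟨u₁, hu₁⟩ : ∃ u₁, u₁ = e' + B *ᵥ e' := ⟨_, rfl⟩
    obtain ⟨u₂, hu₂⟩ : ∃ u₂, u₂ = p' + B *ᵥ p' := ⟨_, rfl⟩
    have hQ' : ∀ w, w + B *ᵥ w ∈ Q := fun w => (hQ _).mpr (by rw [mulVec_add, hB2, add_comm])
    have hli : LinearIndependent F ![(⟨e, hLQ (Submodule.subset_span (by simp))⟩ : Q),
        ⟨p, hLQ (Submodule.subset_span (by simp))⟩, ⟨u₁, hu₁ ▸ hQ' _⟩, ⟨u₂, hu₂ ▸ hQ' _⟩] := by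
      rw [Fintype.linearIndependent_iff]
      intro c hc
      have hc' : c 0 • e + c 1 • p + c 2 • u₁ + c 3 • u₂ = 0 := by
        have := congrArg Subtype.val hc
        simpa [Fin.sum_univ_four] using this
      have k1 : f₂ u₁ e = 2 := by rw [hu₁, hr.bilinear.add_left, hBs, hBe1, he'e]; norm_num
      have k2 : f₂ u₁ p = 0 := by rw [hu₁, hr.bilinear.add_left, hBs, hBp1, he'p, add_zero]
      have k3 : f₂ u₂ e = 0 := by rw [hu₂, hr.bilinear.add_left, hBs, hBe1, hp'e, add_zero]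
      have k4 : f₂ u₂ p = 2 := by rw [hu₂, hr.bilinear.add_left, hBs, hBp1, hp'p]; norm_num
      have hA1 := congrArg (fun v => f₂ v e) hc'
      have hA2' := congrArg (fun v => f₂ v p) hc'
      simp only [hr.bilinear.add_left, hr.bilinear.smul_left, hee, hpp, hep, hr.symm p e, k1, k2, k3, k4,
        sym_zero_left hr, mul_zero, zero_add, add_zero, mul_eq_zero, h2, or_false] at hA1 hA2'
      rw [hA1, hA2', zero_smul, zero_smul, add_zero, add_zero] at hc'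
      have hc1 : c 1 = 0 := by
        by_contra h0
        refine hpe (Submodule.mem_span_singleton.mpr ⟨-(c 1)⁻¹ * c 0, ?_⟩)
        rw [← smul_smul, eq_neg_of_add_eq_zero_left hc', smul_neg, neg_smul, neg_neg, inv_smul_smul₀ h0]
      rw [hc1, zero_smul, add_zero, smul_eq_zero] at hc'
      have hc0 := hc'.resolve_right he0
      intro i
      fin_cases i <;> assumption
    simpa using hli.fintype_card_le_finrank
  -- the pure part inside the eigenspace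
  obtain ⟨Φ, hΦ⟩ : ∃ Φ : (Fin (Module.finrank F P) → Q) →ₗ[F] (Fin a × Fin b → F),
      ∀ c, Φ c = ∑ i, pt ((Module.finBasis F P i).1) (c i).1 :=
    ⟨{ toFun := fun c => ∑ i, pt ((Module.finBasis F P i).1) (c i).1
       map_add' := fun c d => by simp only [Pi.add_apply, Submodule.coe_add, pt_add_right, Finset.sum_add_distrib]
       map_smul' := fun t c => by
        simp only [Pi.smul_apply, Submodule.coe_smul, pt_smul_right, Finset.smul_sum, RingHom.id_apply] },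
      fun c => rfl⟩
  have hΦinj : Function.Injective Φ := by
    rw [← LinearMap.ker_eq_bot, LinearMap.ker_eq_bot']
    intro c hc
    rw [hΦ] at hc
    funext i
    refine Subtype.ext (sym_eq hr fun u => ?_)
    have h := congrArg (s2 f₂ u) hc
    rw [map_sum, map_zero] at h
    simp only [s2q hr] at h
    have hli := (Module.finBasis F P).linearIndependent.map' P.subtype P.ker_subtype
    rw [Pi.zero_apply, Submodule.coe_zero, sym_zero_left hr]
    exact Fintype.linearIndependent_iff.mp hli (fun i => f₂ (c i).1 u) (by simpa using h) i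
  have hΦE : LinearMap.range Φ ≤ E := by
    rintro _ ⟨c, rfl⟩
    rw [hE, hΦ, Matrix.mulVec_sum, ← Finset.sum_neg_distrib]
    exact Finset.sum_congr rfl fun i _ => by
      rw [hAB, (hP _).mp (Module.finBasis F P i).2, (hQ _).mp (c i).2, pt_neg_left]
  have hΦQ : LinearMap.range Φ ≤ tens a Q := by
    rintro _ ⟨c, rfl⟩
    rw [hΦ]
    exact Submodule.sum_mem _ fun i _ => pt_mem_tens _ (c i).2
  have hdim : Module.finrank F P * Module.finrank F Q ≤ Module.finrank F E := by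
    refine le_trans (le_of_eq ?_) (Submodule.finrank_mono hΦE)
    rw [LinearMap.finrank_range_of_inj hΦinj, Module.finrank_pi_fintype, Finset.sum_const, Finset.card_univ,
      Fintype.card_fin, smul_eq_mul]
  have hQ4' : Module.finrank F Q = 4 := by
    refine le_antisymm (Nat.le_of_mul_le_mul_left ?_ hPne) hQ4
    rw [mul_comm _ 4]; exact hdim.trans hdimE
  have hEQ : E ≤ tens a Q := by
    refine le_trans (le_of_eq (Submodule.eq_of_le_of_finrank_le hΦE ?_).symm) hΦQ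
    rw [LinearMap.finrank_range_of_inj hΦinj, Module.finrank_pi_fintype, Finset.sum_const, Finset.card_univ,
      Fintype.card_fin, smul_eq_mul, hQ4', mul_comm]
    exact hdimE
  obtain ⟨u', hu'0, hBu'⟩ : ∃ u', u' ≠ 0 ∧ B *ᵥ u' = -u' := by
    obtain ⟨u, hu⟩ : ∃ u, u ∉ Q := by
      by_contra hc
      push Not at hc
      rw [show Q = ⊤ from eq_top_iff.mpr fun u _ => hc u, finrank_top, Module.finrank_fin_fun] at hQ4'
      have := C.five
      omega
    refine ⟨u - B *ᵥ u, fun h => hu ((hQ u).mpr (sub_eq_zero.mp h).symm), ?_⟩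
    rw [mulVec_sub, hB2]; abel
  have hA1 : ∀ x, A *ᵥ x = -x := fun x => by
    have h1 : pt (x + A *ᵥ x) u' ∈ tens a Q := hEQ ((hE _).mpr (by
      rw [hAB, hBu', mulVec_add, hA2, add_comm, ← neg_one_smul F u', pt_smul_right, neg_one_smul]))
    by_contra hne
    have h0 : x + A *ᵥ x ≠ 0 := fun h => hne (eq_neg_of_add_eq_zero_right h)
    have h3 := (hQ u').mp (mem_of_pt_mem_tens h0 h1)
    rw [hBu'] at h3
    refine hu'0 ((smul_eq_zero.mp (show (2 : F) • u' = 0 from ?_)).resolve_left h2)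
    rw [two_smul]
    linear_combination (norm := abel) -(1 : ℤ) • h3
  have hQE : tens a Q ≤ E := fun v hv => (hE v).mpr (by
    rw [← neg_one_smul F v]
    exact (lin_ext_tens (L := Matrix.mulVecLin z.val) (L' := (-1 : F) • LinearMap.id) (fun x u hu => by
      rw [Matrix.mulVecLin_apply, hAB, hA1, (hQ u).mp hu, pt_neg_left, LinearMap.smul_apply, LinearMap.id_apply,
        neg_one_smul]) hv).trans rfl)
  have hEsup : E ≤ tens a (Submodule.span F ({e, p} : Set (Fin b → F))) ⊔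
      img g (tens a (Submodule.span F ({e₀, p₀} : Set (Fin b → F)))) := fun v hv => by
    obtain ⟨w₁, w₂, h1, -, -, -, rfl⟩ := hzE v ((hE v).mp hv)
    exact Submodule.add_mem_sup h1 (hKW w₂)
  refine ⟨Q, hQ4', hLQ, ?_, hQE.trans hEsup⟩
  have hsup : tens a Q = tens a (Submodule.span F ({e, p} : Set (Fin b → F))) ⊔
      img g (tens a (Submodule.span F ({e₀, p₀} : Set (Fin b → F)))) := by
    refine Submodule.eq_of_le_of_finrank_le (hQE.trans hEsup) ?_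
    refine (Submodule.finrank_add_le_finrank_add_finrank _ _).trans (le_of_eq ?_)
    rw [finrank_img, finrank_tens, finrank_tens, finrank_tens, finrank_line hr hL, finrank_line hr hL₀, hQ4']
    ring
  exact hsup.ge.trans' le_sup_right

end CfsgLib.Classical22.OPow.Kc
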