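/-
A big group contains all Eichler transformations of the tensor power form.
-/
import Cfsg.Agent.Lib.Classical22.OrthPower.Full
import Cfsg.Agent.Lib.Classical22.OrthMaxMatrix

set_option autoImplicit false
set_option linter.unusedSectionVars false
set_option linter.unusedSimpArgs false

namespace CfsgLib.Classical22.OPow

open Matrix CfsgLib.Transvec CfsgLib.Classical
open CfsgLib.Classical22.TWMax (Idx pv)
open scoped MatrixGroups

variable {F : Type*} [Field F] [Fintype F] {t k : ℕ} {f : (Fin k → F) → (Fin k → F) → F}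
  {M : Subgroup (GL (Idx (t + 1) k) F)}

/-- All Eichler transformations at all singular vectors. -/
theorem Ctx.ei_of_big (C : Ctx f M) (ht : 1 ≤ t) (h : Big f M) {P W : Idx (t + 1) k → F} (hP : bil f P P = 0)
    (hW : bil f P W = 0) : EI f M P W := by
  classical
  have hf := C.sym
  have h2 := C.two
  obtain ⟨B, hB⟩ : ∃ B : LinearMap.BilinMap F (Idx (t + 1) k → F) F, ∀ x y, B x y = bil f x y / 2 :=
    ⟨LinearMap.mk₂ F (fun x y => bil f x y / 2) (fun x y z => by rw [bil_add_left, add_div])
      (fun a x y => by rw [bil_smul_left, smul_eq_mul, mul_div_assoc])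
      (fun x y z => by rw [bil_add_right, add_div])
      (fun a x y => by rw [bil_smul_right, smul_eq_mul, mul_div_assoc]), fun x y => rfl⟩
  obtain ⟨Q, hQ⟩ : ∃ Q : QuadraticForm F (Idx (t + 1) k → F), ∀ x, Q x = bil f x x / 2 :=
    ⟨B.toQuadraticMap, fun x => by rw [LinearMap.BilinMap.toQuadraticMap_apply, hB]⟩
  have hpol : ∀ v w, QuadraticMap.polar Q v w = bil f v w := fun v w => by
    simp only [QuadraticMap.polar, hQ, bil_add_left, bil_add_right, bil_comm hf w v]
    field_simp
    ring
  have hQn : PolarNondeg Q := fun v hv => by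
    have hu : IsUnit (TPow.pG (t + 1) f).det := by
      refine Matrix.isUnit_det_of_right_inverse (B := TWMax.tmat fun _ => (TensorMax.SympO.gram f)⁻¹) ?_
      rw [TPow.pG, TWMax.tmat_mul]
      simp only [TensorMax.SpO.sym_gram_mul_inv hf, TWMax.tmat_one]
    funext i
    have h1 := hv ((TPow.pG (t + 1) f)⁻¹ *ᵥ Pi.single i 1)
    rwa [hpol, bil, mulVec_mulVec, Matrix.mul_nonsing_inv _ hu, one_mulVec, single_dotProduct, one_mul] at h1
  have hn : 4 ≤ Module.finrank F (Idx (t + 1) k → F) := by
    rw [Module.finrank_pi, Fintype.card_fun, Fintype.card_fin, Fintype.card_fin]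
    calc 4 ≤ 3 ^ 2 := by norm_num
      _ ≤ k ^ (t + 1) := le_trans (Nat.pow_le_pow_left C.dim 2)
          (Nat.pow_le_pow_right (by have := C.dim; omega) (by omega))
  have hQ0 : ∀ z, bil f z z = 0 → Q z = 0 := fun z hz => by rw [hQ, hz, zero_div]
  have full : ∀ z, bil f z z = 0 → (∀ w, bil f z w = 0 → EI f M z w) →
      EFull Q (M.comap (qHom Q)) z := by
    intro z hz hall w hw
    obtain ⟨g, hg, hgv⟩ := hall w (by rw [← hpol, hw])
    have e : qHom Q (eich Q z w) = g := Transvec.gl_ext fun v => by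
      rw [qHom_mulVec, eich_apply Q (hQ0 z hz) hw, hgv, hpol, hpol, hQ w]
      module
    rw [Subgroup.mem_comap, e]
    exact hg
  obtain ⟨R, R', hR, hR', hRR, hfR, hfR'⟩ := h
  have hle := eichGroup_le_of_full Q hQn hn (hQ0 R hR) (hQ0 R' hR') (by rwa [hpol]) (full R hR hfR) (full R' hR' hfR')
  refine ⟨_, hle (CfsgLib.Classical.eich_mem Q (hQ0 P hP) (by rw [hpol, hW] : QuadraticMap.polar Q P W = 0)), fun v => ?_⟩
  rw [qHom_mulVec, eich_apply Q (hQ0 P hP) (by rw [hpol, hW]), hpol, hpol, hQ W]
  module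

end CfsgLib.Classical22.OPow
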