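/-
The stabiliser of a singular slot subspace lies in the tensor wreath group, unless the group is big.
-/
import Cfsg.Agent.Lib.Classical22.OrthPower.FlagTW
import Cfsg.Agent.Lib.Classical22.OrthPower.BigEI

set_option autoImplicit false
set_option linter.unusedSectionVars false
set_option linter.unusedSimpArgs false
set_option maxHeartbeats 800000

namespace CfsgLib.Classical22.OPow

open Matrix CfsgLib.Transvec CfsgLib.Classical22.TensorMax CfsgLib.Classical22.TensorMax.SympO
open CfsgLib.Classical22.TensorMax.SpO (sym_outer sym_zero_left sym_zero_right sym_sub_left sym_sub_right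
  sym_neg_left sym_quad_smul sym_quad_add exists_aniso nd_perpIn perpIn mem_perpIn finrank_perpIn)
open CfsgLib.Classical22.TensorMax.OO (eA eA_mulVec sym_neg_right exists_pair_pairW pairW mem_pairW nd_pairW
  finrank_pairW)
open CfsgLib.Classical22.TWMax (Idx pv tmat tmat_mul tmat_mulVec tmat_one emb emb_one emb_mul slotEl slotEl_val
  slotEl_mul IsTW TWData mat_ext_pv)
open CfsgLib.Classical22.TPow (emb_eq_tmat)
open scoped MatrixGroups

variable {F : Type*} [Field F] {t k : ℕ} {f : (Fin k → F) → (Fin k → F) → F}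

/-- A matrix whose blocks commute with the factors commutes with the monomial. -/
lemma commute_tmat_of_blk {T : ℕ} {X : Matrix (Idx T k) (Idx T k) F} {G : Fin T → Matrix (Fin k) (Fin k) F}
    (h : ∀ l x y, blk l x y X * G l = G l * blk l x y X) : X * tmat G = tmat G * X := by
  classical
  have key : ∀ S : Finset (Fin T), X * tmat (fun l => if l ∈ S then G l else 1) =
      tmat (fun l => if l ∈ S then G l else 1) * X := by
    intro S
    induction S using Finset.induction_on with
    | empty => simp [tmat_one]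
    | insert l S hl ih =>
      have e : tmat (fun m => if m ∈ insert l S then G m else 1) =
          emb l (G l) * tmat (fun m => if m ∈ S then G m else 1) := by
        rw [emb_eq_tmat, tmat_mul]
        congr 1
        funext m
        by_cases hm : m = l
        · subst hm; simp [hl]
        · simp [hm]
      have hc : X * emb l (G l) = emb l (G l) * X := blk_ext l fun x y => by rw [blk_right, blk_left, h]
      rw [e, ← mul_assoc, hc, mul_assoc, ih, mul_assoc]
  simpa using key Finset.univ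

/-- An element of one slot that is trivial on a tensor has to be trivial. -/
lemma tens_pair {s : Fin (t + 1)} {D E : Matrix (Fin k) (Fin k) F} (hD : D ≠ 0)
    {X Y : Matrix (Idx t k) (Idx t k) F} (h : tens s D X = tens s E Y) : ∃ κ : F, X = κ • Y := by
  obtain ⟨i, hi⟩ := Function.ne_iff.mp hD
  obtain ⟨j, hij⟩ := Function.ne_iff.mp hi
  refine ⟨E i j / D i j, Matrix.ext fun a b => ?_⟩
  have h1 := congrFun (congrFun h (Fin.insertNth s i a)) (Fin.insertNth s j b)
  simp [tens_apply] at h1
  have hij' : D i j ≠ 0 := by simpa using hij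
  rw [Matrix.smul_apply, smul_eq_mul, div_mul_eq_mul_div, eq_div_iff hij']
  linear_combination h1

variable {M : Subgroup (GL (Idx (t + 2) k) F)} [Fintype F] {C : Ctx f M} {e e' : Fin k → F} {c : F}
  (H : Fr C e e' c) {s : Fin (t + 2)}
include H

/-- The commutant is commutative. -/
lemma Fr.cmt_comm {A : Matrix (Fin k) (Fin k) F} (hA : A ∈ H.cmt) :
    A * outer f e e = outer f e e * A ∧ ∀ r, f e r = 0 → A * wd f e r = wd f e r * A := by
  have hf := C.sym
  have hq : k = 3 → 3 < Fintype.card F := fun h => by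
    have := C.small h
    rw [Nat.card_eq_fintype_card] at this
    omega
  obtain ⟨a, b, v, hv, -, rfl⟩ := commutant_root hf C.two C.dim hq H.ee H.ee'' H.pair hA
  constructor
  · obtain ⟨h1, h1', -⟩ := wd_outer hf H.ee hv
    simp [add_mul, mul_add, h1, h1']
  · intro r hr
    obtain ⟨h1, h1', -⟩ := wd_outer hf H.ee hr
    simp [add_mul, mul_add, h1, h1', wd_wd hf H.ee hv hr, wd_wd hf H.ee hr hv, hf.symm r v]

omit [Fintype F] in
lemma Fr.conj_ee {B : GL (Fin k) F} (hB : B ∈ isoF f) {σ : F} (hBe : B.val *ᵥ e = σ • e) :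
    B.val * outer f e e * B⁻¹.val = (σ * σ) • outer f e e := by
  rw [conj_outer C.sym hB, hBe, outer_smul_left C.sym, outer_smul_right C.sym, smul_smul]

omit [Fintype F] in
lemma Fr.conj_wd_scale {B : GL (Fin k) F} (hB : B ∈ isoF f) {σ : F} {r : Fin k → F} (hBe : B.val *ᵥ e = σ • e)
    (hBr : B.val *ᵥ r = r) : B.val * wd f e r * B⁻¹.val = σ • wd f e r := by
  rw [conj_wd C.sym hB, hBe, hBr, wd_smul_left C.sym]

/-- The induced group is not big. -/
theorem Fr.ms_not_big (ht : 1 ≤ t) (hbig : ¬ Big f M) : ¬ Big f (H.Ms s) := by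
  classical
  intro hB
  have hf := C.sym
  have h2 := C.two
  have hd := C.dim
  -- the vectors of the seed
  obtain ⟨r, hr, hr', hrr, B₁, hB₁, hB₁M, α, hα, hB₁e, hB₁r⟩ :
      ∃ r, f e r = 0 ∧ f e' r = 0 ∧ f r r ≠ 0 ∧ ∃ B : GL (Fin k) F, B ∈ isoF f ∧
        (∀ l, slotEl l B ∈ M) ∧ ∃ α : F, α ≠ 1 ∧ B.val *ᵥ e = α • e ∧ B.val *ᵥ r = r := by
    by_cases h5 : 4 ≤ k
    · obtain ⟨u, hu, hu', huv⟩ := H.exists_comp h5 (d := -(2 * c)) (neg_ne_zero.mpr (mul_ne_zero h2 H.c_ne))
      have huu : f u u ≠ 0 := by rw [huv]; exact neg_ne_zero.mpr (mul_ne_zero h2 H.c_ne)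
      refine ⟨u, hu, hu', huu, eG hf u, eG_iso hf u, fun l => (C.adm_of_sq (H.flip l) huu ?_ l).2, -1,
        fun h => h2 (by linear_combination -h), by rw [eG_perp hf huu hu, neg_one_smul], eG_self hf huu⟩
      have hv : f (e - c • e') (e - c • e') = -(2 * c) := by
        simp only [sym_sub_left hf, sym_sub_right hf, hf.bilinear.smul_left, hf.bilinear.smul_right, H.ee,
          H.ee'', H.pair, H.pair']
        ring
      rw [hv, huv]; exact ⟨_, rfl⟩
    · obtain ⟨r, hr, hr', hrr⟩ := H.exists_r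
      have hk3 : k = 3 := C.three_of_lt (by omega)
      obtain ⟨a, ha0, ha⟩ : ∃ a : F, a ≠ 0 ∧ a * a ≠ 1 := by
        by_contra hno
        push Not at hno
        have hsub : (Finset.univ : Finset F) ⊆ {0, 1, -1} := fun x _ => by
          by_cases hx : x = 0
          · simp [hx]
          · rcases mul_self_eq_one_iff.mp (hno x hx) with h0 | h0 <;> simp [h0]
        have h5' := Finset.card_le_card hsub
        rw [Finset.card_univ] at h5'
        have h3 : ({0, 1, -1} : Finset F).card ≤ 3 := Finset.card_le_three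
        have := C.small hk3
        rw [Nat.card_eq_fintype_card] at this
        omega
      obtain ⟨B, hB, hBe, -, hBr⟩ := H.exists_torus ha0
      exact ⟨r, hr, hr', hrr, B, isoSq_le hB, fun l => C.sq l B hB, a * a, ha, hBe, hBr r hr hr'⟩
  obtain ⟨i⟩ : Nonempty (Fin (t + 1)) := ⟨0⟩
  obtain ⟨j₀, hj₀⟩ : ∃ j : Fin (t + 1), j ≠ i := by
    haveI : Nontrivial (Fin (t + 1)) := Fin.nontrivial_iff_two_le.mpr (by omega)
    exact exists_ne i
  obtain ⟨pat, hpat⟩ : ∃ pat : Fin (t + 1) → Matrix (Fin k) (Fin k) F,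
      pat = Function.update (fun _ => outer f e e) i (wd f e r) := ⟨_, rfl⟩
  obtain ⟨Np, hNp⟩ : ∃ Np, Np = tmat pat := ⟨_, rfl⟩
  have hNN : Np * Np = 0 := by
    rw [hNp, tmat_mul]
    exact tmat_zero_at j₀ (by rw [hpat, Function.update_of_ne hj₀, H.ee_sq])
  -- the Eichler transformations of the seed
  have hEI : ∀ d : F, ∃ G ∈ H.Ms s, G.val = 1 + d • Np := by
    intro d
    obtain ⟨E, hE⟩ : ∃ E, E = pv (fun _ : Fin (t + 1) => e) := ⟨_, rfl⟩
    obtain ⟨W, hW⟩ : ∃ W, W = pv (Function.update (fun _ : Fin (t + 1) => e) i r) := ⟨_, rfl⟩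
    have hEW : bil f E W = 0 := by
      rw [hE, hW, bil_pv hf]
      exact Finset.prod_eq_zero (Finset.mem_univ i) (by rw [Function.update_self, hr])
    have hWW : bil f W W = 0 := by
      rw [hW, bil_pv hf]
      exact Finset.prod_eq_zero (Finset.mem_univ j₀) (by rw [Function.update_of_ne hj₀, H.ee])
    have hEE : bil f E E = 0 := by
      rw [hE, bil_pv hf]
      exact Finset.prod_eq_zero (Finset.mem_univ j₀) H.ee
    obtain ⟨g, hg, hgv⟩ := H.ctx_Ms.ei_of_big ht hB hEE
      (show bil f E (d • W) = 0 by rw [bil_smul_right, hEW, mul_zero])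
    refine ⟨g, hg, mat_ext_pv fun xs => ?_⟩
    rw [hgv, add_mulVec, one_mulVec, smul_mulVec, bil_smul_left d W (d • W), bil_smul_right d W W, hWW, mul_zero,
      mul_zero, zero_div, zero_mul, zero_smul, sub_zero, bil_smul_right]
    have e1 : Np *ᵥ pv xs = bil f (pv xs) E • W - bil f (pv xs) W • E := by
      obtain ⟨π, hπ⟩ : ∃ π : F, π = ∏ m ∈ Finset.univ.erase i, f (xs m) e := ⟨_, rfl⟩
      obtain ⟨Y, hY⟩ : ∃ Y : Fin (t + 1) → Fin k → F, Y = fun m => f (xs m) e • e := ⟨_, rfl⟩
      have e0 : (fun m => pat m *ᵥ xs m) = Function.update Y i (f (xs i) e • r - f (xs i) r • e) :=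
        funext fun m => by
          by_cases hm : m = i
          · subst hm; simp [hpat, wd_mulVec hf]
          · simp [hpat, hm, hY, sym_outer hf]
      have e3 : ∀ y, pv (Function.update Y i y) = π • pv (Function.update (fun _ : Fin (t + 1) => e) i y) :=
        fun y => funext fun a => by
          rw [Pi.smul_apply, smul_eq_mul, pv_update, pv_update, hπ, mul_left_comm, ← Finset.prod_mul_distrib, hY]
          simp
      have hb1 : bil f (pv xs) E = f (xs i) e * π := by
        rw [hE, bil_pv hf, hπ, ← Finset.mul_prod_erase _ _ (Finset.mem_univ i)]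
      have hb2 : bil f (pv xs) W = f (xs i) r * π := by
        rw [hW, bil_pv hf, hπ, ← Finset.mul_prod_erase _ _ (Finset.mem_univ i), Function.update_self]
        exact congrArg _ (Finset.prod_congr rfl fun m hm => by rw [Function.update_of_ne (Finset.ne_of_mem_erase hm)])
      rw [hNp, tmat_mulVec, e0, pv_sub, pv_smul, pv_smul, e3, e3, Function.update_eq_self, ← hE, ← hW, hb1, hb2]
      module
    rw [e1]
    module
  -- conjugation of the pattern by slot elements
  have hconjN : ∀ (l : Fin (t + 1)) (B : GL (Fin k) F) (κ : F), B.val * pat l * B⁻¹.val = κ • pat l →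
      emb l B.val * Np * emb l B⁻¹.val = κ • Np := by
    intro l B κ h
    rw [hNp, emb_sand, slotMap_tmat, sandL_apply, h, TPow.tmat_update_smul, Function.update_eq_self]
  have hpi : pat i = wd f e r := by rw [hpat, Function.update_self]
  have hpl : ∀ l, l ≠ i → pat l = outer f e e := fun l hl => by rw [hpat, Function.update_of_ne hl]
  -- the lift
  obtain ⟨h, hh, hhs, S, hhv⟩ : ∃ h ∈ M, H.Stab s h ∧ ∃ S, h.val = tens s 1 (1 + Np) + tens s (outer f e e) S := by
    obtain ⟨d, hd'⟩ : ∃ d : F, d = 1 / (1 - α) := ⟨_, rfl⟩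
    obtain ⟨G, hG, hGv⟩ := hEI d
    obtain ⟨h, hh, hhs, S, hhv⟩ := H.exists_comm_lift hbig hG (hB₁M (s.succAbove i))
    refine ⟨h, hh, hhs, S, ?_⟩
    rw [hhv]
    congr 2
    have hinv : G⁻¹.val = 1 - d • Np := left_inv_eq_right_inv (Units.inv_mul G) (by
      rw [hGv]
      simp [add_mul, mul_sub, hNN])
    have hX := hconjN i B₁ α (by rw [hpi]; exact H.conj_wd_scale hB₁ hB₁e hB₁r)
    rw [Units.val_mul, Units.val_mul, Units.val_mul, slotEl_inv_val, slotEl_val, hGv, hinv, mul_assoc (1 + d • Np),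
      mul_assoc (1 + d • Np),
      show emb i B₁.val * (1 - d • Np) * emb i B₁⁻¹.val = 1 - (d * α) • Np by
        rw [mul_sub, sub_mul, mul_one, ← emb_mul, Units.mul_inv, emb_one, Matrix.mul_smul, Matrix.smul_mul, hX,
          smul_smul]]
    have hd1 : d - d * α = 1 := by
      rw [hd']
      have : (1 : F) - α ≠ 0 := sub_ne_zero.mpr (Ne.symm hα)
      field_simp
    rw [show (1 + d • Np) * (1 - (d * α) • Np) = 1 + (d - d * α) • Np by
      simp [add_mul, mul_sub, hNN, sub_smul]; abel, hd1, one_smul]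
  -- it suffices to remove the shear part
  suffices hS : S = 0 by
    rw [hS, tens_zero_right, add_zero, tens_add_right, tens_one] at hhv
    obtain ⟨T, hT⟩ : ∃ T : Finset (Fin (t + 2)), T = (Finset.univ.erase (s.succAbove i)).erase s := ⟨_, rfl⟩
    refine hbig (H.big_of_pat (by omega) (T := T) (i := s.succAbove i)
      ⟨s.succAbove j₀, by simp [hT, Fin.succAbove_ne, Fin.succAbove_right_injective.ne hj₀]⟩
      ⟨by simp [hT], 1, one_ne_zero, r, hr, hr', hrr, h, hh, ?_⟩)
    rw [hhv, one_smul]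
    congr 1
    rw [← tens_tmat s (H.pat T (s.succAbove i) r),
      show H.pat T (s.succAbove i) r s = 1 by simp [Fr.pat, hT, (Fin.succAbove_ne s i).symm], hNp]
    congr 2
    funext m
    by_cases hm : m = i
    · subst hm; simp [Fr.pat, hpi]
    · simp [Fr.pat, hT, hpl m hm, Fin.succAbove_right_injective.ne hm, Fin.succAbove_ne]
  -- isometries
  have hscal : ∀ κ : F, S = κ • (1 + Np) → S = 0 := by
    intro κ hκ
    have hκ0 : κ = 0 := by
      obtain ⟨G₁, hG₁, hG₁v⟩ := hEI 1
      rw [one_smul] at hG₁v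
      have hGiso := piso_iff.mp hG₁.1
      rw [hG₁v] at hGiso
      have hhiso := piso_iff.mp (C.iso h hh)
      rw [hhv, hκ, tens_smul_right, ← tens_smul_left, ← tens_add_left, tens_transpose, ← pG_tens hf s, tens_mul,
        tens_mul, hGiso] at hhiso
      obtain ⟨o⟩ : Nonempty (Idx (t + 1) k) := ⟨fun _ => ⟨0, by omega⟩⟩
      have hu : IsUnit (TPow.pG (t + 1) f).det := by
        refine Matrix.isUnit_det_of_right_inverse (B := tmat fun _ => (gram f)⁻¹) ?_
        rw [TPow.pG, tmat_mul]
        simp only [SpO.sym_gram_mul_inv hf, tmat_one]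
      obtain ⟨a, b, hab⟩ : ∃ a b, TPow.pG (t + 1) f a b ≠ 0 := by
        by_contra hno
        push Not at hno
        haveI : Nonempty (Idx (t + 1) k) := ⟨o⟩
        rw [show TPow.pG (t + 1) f = 0 from Matrix.ext hno, det_zero] at hu
        exact not_isUnit_zero hu
      obtain ⟨p, p', hpp⟩ : ∃ p p', p = Fin.insertNth (α := fun _ => Fin k) s ⟨0, by omega⟩ a ∧
        p' = Fin.insertNth (α := fun _ => Fin k) s ⟨0, by omega⟩ b := ⟨_, _, rfl, rfl⟩
      have hA : (1 + κ • outer f e e)ᵀ * gram f * (1 + κ • outer f e e) = gram f := by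
        ext u v
        have h1 := congrFun (congrFun hhiso (Fin.insertNth s u a)) (Fin.insertNth s v b)
        simpa [tens_apply, hab] using h1
      rw [transpose_add, transpose_one, transpose_smul, add_mul, Matrix.smul_mul, outer_gram hf, one_mul, add_mul,
        mul_add, mul_one, Matrix.smul_mul, mul_add, mul_one, Matrix.mul_smul, Matrix.mul_smul, mul_assoc (gram f),
        H.ee_sq, mul_zero, smul_zero, add_zero] at hA
      have h3 : (2 * κ) • (gram f * outer f e e) = 0 := by
        rw [mul_smul, two_smul]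
        linear_combination (norm := abel) hA
      rw [smul_eq_zero] at h3
      rcases h3 with h3 | h3
      · exact (mul_eq_zero.mp h3).resolve_left h2
      · exfalso
        have h6 := congrArg ((gram f)⁻¹ * ·) h3
        simp only [← mul_assoc, mul_eq_one_comm.mp (SpO.sym_gram_mul_inv hf), one_mul, mul_zero] at h6
        exact H.outer_ne h6
    rw [hκ, hκ0, zero_smul]
  -- large dimension
  by_cases h5 : 5 ≤ k
  · obtain ⟨p, p', hp, -, hpp', hpe, hpe', hp'e, hp'e'⟩ := exists_pair_pairW hf h2 h5 H.ee H.ee'' H.pair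
    obtain ⟨A, hA, hAM, a, hAp⟩ := H.exists_move s hp (fun h0 => one_ne_zero (α := F)
      (by rw [← hpp', h0, sym_zero_left hf]))
    have ha : a ≠ 0 := fun h0 => by
      rw [h0, zero_smul] at hAp
      have : p = 0 := Transvec.mulVec_injective A (show A.val *ᵥ p = A.val *ᵥ 0 by rw [hAp, mulVec_zero])
      exact one_ne_zero (α := F) (by rw [← hpp', this, sym_zero_left hf])
    have hAe : A⁻¹.val *ᵥ e = a⁻¹ • p := by
      have : A⁻¹.val *ᵥ (A.val *ᵥ p) = p := by rw [mulVec_mulVec, Units.inv_mul, one_mulVec]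
      conv_rhs => rw [← this, hAp, mulVec_smul, inv_smul_smul₀ ha]
    have hconj : A⁻¹.val * outer f e e * A.val = (a⁻¹ * a⁻¹) • outer f p p := by
      have h1 := conj_outer hf ((isoF f).inv_mem hA) e e
      rw [inv_inv] at h1
      rw [h1, hAe, outer_smul_left hf, outer_smul_right hf, smul_smul]
    obtain ⟨h', hh'⟩ : ∃ h', h' = (slotEl s A)⁻¹ * h * slotEl s A := ⟨_, rfl⟩
    have hh'm : h' ∈ M := hh' ▸ M.mul_mem (M.mul_mem (M.inv_mem hAM) hh) hAM
    have hh'v : h'.val = tens s 1 (1 + Np) + tens s ((a⁻¹ * a⁻¹) • outer f p p) S := by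
      rw [hh', Units.val_mul, Units.val_mul, slotEl_inv_val, slotEl_val, hhv, ← tens_emb, ← tens_emb, mul_add,
        tens_mul, tens_mul, add_mul, tens_mul, tens_mul, mul_one, mul_one, one_mul, one_mul, mul_one, Units.inv_mul, hconj]
    have hppe : outer f p p * outer f e e' = 0 := Matrix.ext_iff_mulVec.mpr fun x => by
      rw [← mulVec_mulVec, zero_mulVec, sym_outer hf, sym_outer hf, hf.bilinear.smul_left, hf.symm e p, hpe, mul_zero,
        zero_smul]
    have hfix : H.Fix s (h⁻¹ * h') := by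
      have e1 : h'.val * H.pe s = h.val * H.pe s := by
        rw [hh'v, hhv, H.pe_tens, add_mul, add_mul, tens_mul, tens_mul, tens_mul, Matrix.smul_mul, hppe, smul_zero,
          H.ee_ee']
      rw [Fr.Fix, Units.val_mul, mul_assoc, e1, ← mul_assoc, Units.inv_mul, one_mul]
    obtain ⟨B, -, hBh⟩ := H.fix_slot (by omega) hbig (M.mul_mem (M.inv_mem hh) hh'm) hfix
    have heq : h'.val = h.val * emb s B.val := by
      rw [← slotEl_val, ← hBh, ← Units.val_mul, mul_inv_cancel_left]
    rw [hh'v, hhv, ← tens_emb, add_mul, tens_mul, tens_mul, one_mul, mul_one, mul_one] at heq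
    have hD : (a⁻¹ * a⁻¹) • outer f p p - outer f e e * B.val ≠ 0 := by
      intro h0
      have h1 := congrArg (fun X => f (X *ᵥ p') p') h0
      simp only [sub_mulVec, smul_mulVec, ← mulVec_mulVec, sym_outer hf, zero_mulVec, sym_zero_left hf,
        sym_sub_left hf, hf.bilinear.smul_left, hf.symm p' p, hpp', hf.symm e p', hp'e, mul_zero, sub_zero,
        mul_one] at h1
      exact mul_ne_zero (inv_ne_zero ha) (inv_ne_zero ha) h1
    obtain ⟨κ, hκ⟩ := tens_pair (E := B.val - 1) hD (X := S) (Y := 1 + Np) (s := s) (by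
      rw [tens_sub_left, tens_sub_left]
      linear_combination (norm := abel) heq)
    exact hscal κ hκ
  have hNadd : ∀ a b : F, (1 + a • Np) * (1 + b • Np) = 1 + (a + b) • Np := fun a b => by
    simp [add_mul, mul_add, hNN, add_smul]; abel
  -- comparing a conjugate with the lift
  have hconjh : ∀ (l : Fin (t + 1)) (B : GL (Fin k) F) (κ : F), B.val * pat l * B⁻¹.val = κ • pat l →
      (slotEl (s.succAbove l) B * h * (slotEl (s.succAbove l) B)⁻¹).val =
        tens s 1 (1 + κ • Np) + tens s (outer f e e) (emb l B.val * S * emb l B⁻¹.val) := by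
    intro l B κ hκ
    rw [Units.val_mul, Units.val_mul, slotEl_inv_val, slotEl_val, hhv, ← tens_emb_other, ← tens_emb_other, mul_add,
      tens_mul, tens_mul, add_mul, tens_mul, tens_mul, mul_one, mul_one, one_mul, mul_one, mul_add, mul_one, add_mul,
      ← emb_mul, Units.mul_inv, emb_one, hconjN l B κ hκ]
  have hstab : ∀ (l : Fin (t + 1)) (B : GL (Fin k) F), H.Stab s (slotEl (s.succAbove l) B) := fun l B => by
    obtain ⟨h1, -⟩ := H.cm_slot (s := s) (Fin.succAbove_ne s l) B
    rw [Fr.Stab, mul_assoc, h1, ← mul_assoc, H.pe_pe]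
  -- translations
  have hT : ∀ l w, f e w = 0 → emb l (eA f e w) * S = S * emb l (eA f e w) := by
    intro l w hw
    obtain ⟨x, hx⟩ : ∃ x, x = slotEl (s.succAbove l) (eU hf h2 e w) := ⟨_, rfl⟩
    have hxm : x ∈ M := hx ▸ C.eich_mem _ e w
    have hκ : (eU hf h2 e w).val * pat l * (eU hf h2 e w)⁻¹.val = (1 : F) • pat l := by
      have hwe : (eU hf h2 e w).val *ᵥ e = (1 : F) • e := by rw [eU_val hf h2 H.ee hw, OO.eA_self hf H.ee hw, one_smul]
      rw [one_smul]
      by_cases hl : l = i
      · rw [hl, hpi, conj_wd hf (eU_iso hf h2 e w), hwe, one_smul, eU_val hf h2 H.ee hw, eA_mulVec hf]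
        refine Matrix.ext_iff_mulVec.mpr fun z => ?_
        simp only [wd_mulVec hf, sym_sub_right hf, hf.bilinear.add_right, hf.bilinear.smul_right, hf.symm r e, hr]
        match_scalars <;> ring
      · rw [hpl l hl, H.conj_ee (eU_iso hf h2 e w) hwe, one_mul, one_smul]
    have hdiff : (x * h * x⁻¹).val - h.val =
        tens s (outer f e e) (emb l (eU hf h2 e w).val * S * emb l (eU hf h2 e w)⁻¹.val - S) := by
      rw [hx, hconjh l _ 1 hκ, hhv, one_smul, add_sub_add_left_eq_sub, tens_sub_right]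
    have h0 := (H.ee_eq hbig (M.mul_mem (M.mul_mem hxm hh) (M.inv_mem hxm)) hh hhs hdiff).2
    rw [sub_eq_zero] at h0
    conv_rhs => rw [← h0]
    rw [← eU_val hf h2 H.ee hw, mul_assoc, ← emb_mul, Units.inv_mul, emb_one, mul_one]
  have hScmt : ∀ l x y, blk l x y S ∈ H.cmt := fun l x y z hz => by
    have := congrArg (blk l x y) (hT l z hz)
    rwa [blk_left, blk_right] at this
  have hSN : S * Np = Np * S := by
    rw [hNp]
    refine commute_tmat_of_blk fun l x y => ?_
    obtain ⟨h1, h1'⟩ := H.cmt_comm (hScmt l x y)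
    by_cases hl : l = i
    · subst hl; rw [hpi]; exact h1' r hr
    · rw [hpl l hl]; exact h1
  obtain ⟨S', hS'⟩ : ∃ S', S' = S * (1 - Np) := ⟨_, rfl⟩
  have hS'cmt : ∀ l x y, blk l x y S' ∈ H.cmt := fun l x y z hz => by
    have hcN : emb l (eA f e z) * Np = Np * emb l (eA f e z) := by
      rw [hNp]
      refine commute_tmat_of_blk fun m a b => ?_
      have hm : blk m a b (emb l (eA f e z) : Matrix (Idx (t + 1) k) (Idx (t + 1) k) F) ∈ H.cmt := by
        intro w hw
        have hee : eA f e w * eA f e z = eA f e z * eA f e w := by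
          rw [OO.eA_mul hf h2 H.ee hw hz, OO.eA_mul hf h2 H.ee hz hw, add_comm]
        have h1 : emb m (eA f e w) * emb l (eA f e z) = emb l (eA f e z) * emb m (eA f e w) := by
          by_cases hml : m = l
          · subst hml; rw [← emb_mul, ← emb_mul, hee]
          · exact TWMax.emb_comm hml _ _
        have := congrArg (blk m a b) h1
        rwa [blk_left, blk_right] at this
      obtain ⟨h1, h1'⟩ := H.cmt_comm hm
      by_cases hmi : m = i
      · subst hmi; rw [hpi]; exact h1' r hr
      · rw [hpl m hmi]; exact h1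
    have h1 : emb l (eA f e z) * S' = S' * emb l (eA f e z) := by
      rw [hS', ← mul_assoc, hT l z hz, mul_assoc, mul_sub, mul_one, hcN, mul_assoc S, sub_mul, one_mul]
    have := congrArg (blk l x y) h1
    rwa [blk_left, blk_right] at this
  -- slot dimension four
  by_cases hk4 : 4 ≤ k
  · have hk : k = 4 := by omega
    have hev : Even k := by rw [hk]; decide
    by_cases hsq : ∃ a : F, a ≠ 0 ∧ a * a ≠ 1
    · -- a torus on the slot
      obtain ⟨a, ha, ha2⟩ := hsq
      obtain ⟨A, hA⟩ : ∃ A, A = rG hf (e - a⁻¹ • e') * rG hf (e - (1 : F) • e') := ⟨_, rfl⟩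
      have hv0 : ∀ d : F, d ≠ 0 → f (e - d • e') (e - d • e') = -(2 * d) ∧
          f (e - d • e') (e - d • e') ≠ 0 := by
        intro d hd'
        have : f (e - d • e') (e - d • e') = -(2 * d) := by
          simp only [sym_sub_left hf, sym_sub_right hf, hf.bilinear.smul_left, hf.bilinear.smul_right, H.ee,
            H.ee'', H.pair, H.pair']
          ring
        exact ⟨this, by rw [this]; exact neg_ne_zero.mpr (mul_ne_zero h2 hd')⟩
      obtain ⟨q1, q1'⟩ := hv0 1 one_ne_zero
      obtain ⟨q2, q2'⟩ := hv0 _ (inv_ne_zero ha)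
      have hAe : A.val *ᵥ e = a • e := by
        rw [hA, Transvec.mul_mulVec, rG_apply hf q1', q1, mulVec_sub, mulVec_smul, rG_apply hf q2',
          rG_apply hf q2', q2]
        simp only [sym_sub_left hf, sym_sub_right hf, hf.bilinear.smul_left, hf.bilinear.smul_right, H.ee, H.ee'',
          H.pair, H.pair']
        match_scalars <;> field_simp <;> ring
      have hAiso : A ∈ isoF f := hA ▸ (isoF f).mul_mem (rG_iso hf _) (rG_iso hf _)
      have hAM : slotEl s A ∈ M := by
        rw [hA, ← eG_mul hf, ← slotEl_mul]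
        exact M.mul_mem (C.refl hev s _ q2') (C.refl hev s _ q1')
      obtain ⟨h', hh'⟩ : ∃ h', h' = slotEl s A * h * (slotEl s A)⁻¹ := ⟨_, rfl⟩
      have hdiff : h'.val - h.val = tens s (outer f e e) ((a * a - 1) • S) := by
        rw [hh', Units.val_mul, Units.val_mul, slotEl_inv_val, slotEl_val, hhv, ← tens_emb, ← tens_emb, mul_add,
          tens_mul, tens_mul, add_mul, tens_mul, tens_mul, mul_one, mul_one, one_mul, one_mul, mul_one, Units.mul_inv,
          H.conj_ee hAiso hAe, add_sub_add_left_eq_sub, ← tens_sub_left, tens_smul_right, ← tens_smul_left,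
          sub_smul, one_smul]
      have h0 := (H.ee_eq hbig (hh' ▸ M.mul_mem (M.mul_mem hAM hh) (M.inv_mem hAM)) hh hhs hdiff).2
      exact (smul_eq_zero.mp h0).resolve_left (sub_ne_zero.mpr ha2)
    -- the field of three elements
    push Not at hsq
    have hpm : ∀ a : F, a ≠ 0 → a = 1 ∨ a = -1 := fun a ha => mul_self_eq_one_iff.mp (hsq a ha)
    obtain ⟨d₀, hd₀, hd₀', hd₀r, hd₀d⟩ : ∃ d, f e d = 0 ∧ f e' d = 0 ∧ f d r = 0 ∧ f d d ≠ 0 := by
      have hmem : r ∈ pairW f e e' := (mem_pairW hf).mpr ⟨by rw [hf.symm, hr], by rw [hf.symm, hr']⟩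
      obtain ⟨d, hd', hdd⟩ := exists_aniso hf h2 (nd_perpIn hf (nd_pairW hf H.ee H.ee'' H.pair) hmem hrr) (by
        have := finrank_pairW hf e e'
        have := finrank_perpIn hf (pairW f e e') r
        omega)
      obtain ⟨h1, h0⟩ := (mem_perpIn hf).mp hd'
      obtain ⟨h1, h1'⟩ := (mem_pairW hf).mp h1
      exact ⟨d, by rw [hf.symm, h1], by rw [hf.symm, h1'], h0, hdd⟩
    obtain ⟨R₁, hR₁⟩ : ∃ R₁, R₁ = eG hf r := ⟨_, rfl⟩
    obtain ⟨R₀, hR₀⟩ : ∃ R₀, R₀ = eG hf d₀ := ⟨_, rfl⟩
    have hR₁e : R₁.val *ᵥ e = (-1 : F) • e := by rw [hR₁, eG_perp hf hrr hr, neg_one_smul]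
    have hκ₁ : R₁.val * pat i * R₁⁻¹.val = (-1 : F) • pat i := by
      rw [hpi]; exact H.conj_wd_scale (hR₁ ▸ eG_iso hf r) hR₁e (hR₁ ▸ eG_self hf hrr)
    have hneg : emb i R₁.val * S' * emb i R₁⁻¹.val = -S' := by
      obtain ⟨x, hx⟩ : ∃ x, x = slotEl (s.succAbove i) R₁ := ⟨_, rfl⟩
      have hxm : x ∈ M := hx ▸ hR₁ ▸ C.refl hev _ r hrr
      have hdiff : (x * h * x⁻¹ * h).val - (1 : GL (Idx (t + 2) k) F).val = tens s (outer f e e)
          ((1 + (-1 : F) • Np) * S + emb i R₁.val * S * emb i R₁⁻¹.val * (1 + Np)) := by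
        rw [Units.val_mul (x * h * x⁻¹) h, hx, hconjh i R₁ _ hκ₁, hhv, add_mul, mul_add, mul_add, tens_mul, tens_mul,
          tens_mul, tens_mul, one_mul, one_mul, mul_one, H.ee_sq, tens_zero_left, add_zero,
          show (1 + (-1 : F) • Np) * (1 + Np) = 1 by
            have := hNadd (-1) 1
            simpa using this,
          tens_one, Units.val_one, add_assoc (1 : Matrix (Idx (t + 2) k) (Idx (t + 2) k) F), add_sub_cancel_left,
          tens_add_right s (outer f e e)]
      have h0 := (H.ee_eq hbig (M.mul_mem (M.mul_mem (M.mul_mem hxm hh) (M.inv_mem hxm)) hh) M.one_mem H.stab_one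
        hdiff).2
      have e1 : emb i R₁.val * S' * emb i R₁⁻¹.val = emb i R₁.val * S * emb i R₁⁻¹.val * (1 + Np) := by
        have hX := hconjN i R₁ _ hκ₁
        rw [hS', show emb i R₁.val * (S * (1 - Np)) * emb i R₁⁻¹.val =
            emb i R₁.val * S * emb i R₁⁻¹.val * (emb i R₁.val * (1 - Np) * emb i R₁⁻¹.val) by
          simp only [← mul_assoc]
          rw [mul_assoc _ (emb i R₁⁻¹.val) (emb i R₁.val), ← emb_mul, Units.inv_mul, emb_one, mul_one],
          mul_sub (emb i R₁.val), sub_mul, mul_one, ← emb_mul, Units.mul_inv, emb_one, hX, neg_one_smul, sub_neg_eq_add]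
      have e2 : S' = (1 + (-1 : F) • Np) * S := by
        rw [hS', neg_one_smul, mul_sub, add_mul, neg_mul, mul_one, one_mul, hSN, sub_eq_add_neg]
      rw [e1, e2, eq_neg_iff_add_eq_zero, ← h0]
      abel
    -- the blocks of the shear
    have hSi : ∀ x y, ∃ a : F, blk i x y S' = a • wd f e r := by
      intro x y
      have hq : k = 3 → 3 < Fintype.card F := fun h => absurd h (by omega)
      obtain ⟨a, b, v, hv, hv', hd'⟩ := commutant_root hf h2 hd hq H.ee H.ee'' H.pair (hS'cmt i x y)
      have hvi : R₁.val * wd f e v * R₁⁻¹.val = -wd f e (R₁.val *ᵥ v) := by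
        rw [conj_wd hf (hR₁ ▸ eG_iso hf r), hR₁e, wd_smul_left hf, neg_one_smul]
      have h1 := congrArg (blk i x y) hneg
      rw [show blk i x y (-S') = -blk i x y S' from rfl, emb_sand, blk_slotMap_same, sandL_apply, hd'] at h1
      simp only [mul_add, add_mul, Matrix.mul_smul, Matrix.smul_mul, mul_one, Units.mul_inv,
        H.conj_ee (hR₁ ▸ eG_iso hf r) hR₁e, neg_mul_neg, one_mul, one_smul, hvi] at h1
      refine ⟨f v r / f r r, ?_⟩
      have h3 : (2 : F) • (a • (1 : Matrix (Fin k) (Fin k) F) + b • outer f e e + wd f e v -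
          (f v r / f r r) • wd f e r) = 0 := by
        have e3 : -wd f e (R₁.val *ᵥ v) = wd f e v - (2 * (f v r / f r r)) • wd f e r := by
          rw [hR₁, eG_apply hf hrr]
          refine Matrix.ext_iff_mulVec.mpr fun z => ?_
          simp only [neg_mulVec, sub_mulVec, smul_mulVec, wd_mulVec hf, sym_sub_right hf, hf.bilinear.smul_right]
          match_scalars <;> ring
        rw [e3] at h1
        linear_combination (norm := module) h1
      rw [hd']
      exact sub_eq_zero.mp ((smul_eq_zero.mp h3).resolve_left h2)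
    -- a similitude of multiplier minus one
    obtain ⟨A, hA, hAe⟩ := exists_sim hf h2 H.ee H.ee'' H.pair hev (neg_ne_zero.mpr (one_ne_zero (α := F)))
    have hA' : ∀ x y, f (A⁻¹.val *ᵥ x) (A⁻¹.val *ᵥ y) = -f x y := fun x y => by
      have h := hA.2 (A⁻¹.val *ᵥ x) (A⁻¹.val *ᵥ y)
      rw [Transvec.mulVec_inv_cancel, Transvec.mulVec_inv_cancel] at h
      linear_combination h
    have hAie : A⁻¹.val *ᵥ e = -e := by
      have := congrArg (A⁻¹.val *ᵥ ·) hAe
      simp only [Transvec.inv_mulVec_cancel, neg_one_smul, mulVec_neg] at this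
      exact neg_eq_iff_eq_neg.mp this.symm
    obtain ⟨p, hp⟩ : ∃ p, p = A⁻¹.val *ᵥ r := ⟨_, rfl⟩
    have hpe : f e p = 0 := by
      have h := hA' e r
      rw [hAie, ← hp, sym_neg_left hf, hr, neg_zero] at h
      exact neg_eq_zero.mp h
    have hpp : f p p = -f r r := by rw [hp, hA']
    have hW₂ : A⁻¹.val * wd f e r * A.val = wd f e p := Matrix.ext_iff_mulVec.mpr fun z => by
      have a1 := hA' (A.val *ᵥ z) e
      have a2 := hA' (A.val *ᵥ z) r
      rw [Transvec.inv_mulVec_cancel, hAie, sym_neg_right hf, neg_inj] at a1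
      rw [Transvec.inv_mulVec_cancel, ← hp] at a2
      have b2 : f (A.val *ᵥ z) r = -f z p := by linear_combination a2
      rw [← mulVec_mulVec, ← mulVec_mulVec, wd_mulVec hf, wd_mulVec hf, mulVec_sub, mulVec_smul, mulVec_smul, hAie,
        ← hp, b2, a1]
      module
    obtain ⟨κ, hκ⟩ : ∃ κ, κ = 2 * (f p r / f r r) := ⟨_, rfl⟩
    -- the plane
    have hdec : wd f e p = (f p r / f r r) • wd f e r + (f p d₀ / f d₀ d₀) • wd f e d₀ := by
      obtain ⟨w, hw⟩ : ∃ w, w = p - f p e' • e - (f p r / f r r) • r - (f p d₀ / f d₀ d₀) • d₀ := ⟨_, rfl⟩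
      have hwr : f w r = 0 ∧ f w d₀ = 0 ∧ f e w = 0 ∧ f e' w = 0 := by
        simp only [hw, sym_sub_left hf, sym_sub_right hf, hf.bilinear.smul_left, hf.bilinear.smul_right, hr, hd₀,
          hd₀', hr', hd₀r, hf.symm r d₀, hpe, H.ee, H.pair', hf.symm e' p]
        refine ⟨?_, ?_, ?_, ?_⟩ <;> field_simp <;> ring
      have hw0 : w = 0 := by
        by_contra hne
        -- three orthogonal anisotropic vectors in a plane
        have hww : f w w ≠ 0 := fun h0 => by
          obtain ⟨a, ha⟩ := Submodule.mem_span_singleton.mp (C.four hk e w H.e_ne H.ee h0 hwr.2.2.1)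
          have h4 := hwr.2.2.2
          rw [← ha, hf.bilinear.smul_right, H.pair', mul_one] at h4
          exact hne (by rw [← ha, h4, zero_smul])
        have hli : LinearIndependent F ![e, e', r, d₀, w] := by
          rw [Fintype.linearIndependent_iff]
          intro g hg
          simp only [Fin.sum_univ_five, Matrix.cons_val] at hg
          have key : ∀ z, g 0 * f e z + g 1 * f e' z + g 2 * f r z + g 3 * f d₀ z + g 4 * f w z = 0 := fun z => by
            have := congrArg (fun y => f y z) hg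
            simpa only [hf.bilinear.add_left, hf.bilinear.smul_left, sym_zero_left hf] using this
          have a0 := key e'
          have a1 := key e
          have a2 := key r
          have a3 := key d₀
          have a4 := key w
          simp only [H.ee, H.ee'', H.pair, H.pair', hr, hr', hd₀, hd₀', hd₀r, hwr, hf.symm r e, hf.symm r e',
            hf.symm d₀ e, hf.symm d₀ e', hf.symm w e, hf.symm w e', hf.symm r d₀, hf.symm r w, hf.symm d₀ w,
            mul_zero, mul_one, add_zero, zero_add, mul_eq_zero, hrr, hd₀d, hww, or_false] at a0 a1 a2 a3 a4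
          intro j
          fin_cases j
          exacts [a0, a1, a2, a3, a4]
        have := hli.fintype_card_le_finrank
        rw [Module.finrank_fin_fun, Fintype.card_fin] at this
        omega
      have hpe' : p = f p e' • e + (f p r / f r r) • r + (f p d₀ / f d₀ d₀) • d₀ := by
        rw [hw] at hw0
        linear_combination (norm := module) hw0
      conv_lhs => rw [hpe']
      refine Matrix.ext_iff_mulVec.mpr fun z => ?_
      simp only [add_mulVec, smul_mulVec, wd_mulVec hf, hf.bilinear.add_right, hf.bilinear.smul_right]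
      match_scalars <;> ring
    have hW₃ : R₀.val * wd f e p * R₀⁻¹.val =
        (f p r / f r r) • wd f e r - (f p d₀ / f d₀ d₀) • wd f e d₀ := by
      rw [hdec, mul_add, add_mul, Matrix.mul_smul, Matrix.mul_smul, Matrix.smul_mul, Matrix.smul_mul, hR₀,
        conj_wd hf (eG_iso hf d₀), conj_wd hf (eG_iso hf d₀), eG_perp hf hd₀d hd₀, eG_self hf hd₀d,
        eG_perp hf hd₀d (by rw [hf.symm]; exact hd₀r)]
      refine Matrix.ext_iff_mulVec.mpr fun z => ?_
      simp only [add_mulVec, sub_mulVec, smul_mulVec, wd_mulVec hf, sym_neg_right hf]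
      match_scalars <;> ring
    have hκ1 : κ = 1 ∨ κ = -1 := by
      refine hpm κ fun h0 => ?_
      rw [hκ, mul_eq_zero, or_iff_right h2, div_eq_zero_iff, or_iff_left hrr] at h0
      have hp2 : -f r r = (f p d₀ / f d₀ d₀) * f p d₀ := by
        have hz : ∀ z, f (wd f e p *ᵥ e') z = f p z - f p e' * f e z := fun z => by
          rw [wd_mulVec hf, sym_sub_left hf, hf.bilinear.smul_left, hf.bilinear.smul_left, H.pair', hf.symm e' p,
            one_mul]
        have h5 := hz p
        rw [hdec, add_mulVec, smul_mulVec, smul_mulVec, hf.bilinear.add_left, hf.bilinear.smul_left,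
          hf.bilinear.smul_left, wd_mulVec hf, wd_mulVec hf, sym_sub_left hf, sym_sub_left hf, hf.bilinear.smul_left,
          hf.bilinear.smul_left, hf.bilinear.smul_left, hf.bilinear.smul_left, H.pair', hr', hd₀', hpe,
          hf.symm r p, h0, hf.symm d₀ p, hpp] at h5
        linear_combination -h5
      have hdd : f d₀ d₀ = f r r := by
        by_contra hne
        have hsum : f d₀ d₀ + f r r = 0 := by
          rcases hpm _ hd₀d with h1 | h1 <;> rcases hpm _ hrr with h3 | h3 <;> rw [h1, h3] at hne ⊢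
          all_goals first | exact absurd rfl hne | ring
        have hs : f (r + d₀) (r + d₀) = 0 := by
          rw [sym_quad_add hf, hf.symm r d₀, hd₀r]; linear_combination hsum
        obtain ⟨a, ha⟩ := Submodule.mem_span_singleton.mp (C.four hk e (r + d₀) H.e_ne H.ee hs
          (by rw [hf.bilinear.add_right, hr, hd₀, add_zero]))
        have ha0 := congrArg (fun z => f z r) ha
        simp only [hf.bilinear.add_left, hf.bilinear.smul_left, hr, hd₀r, mul_zero, add_zero] at ha0
        exact hrr ha0.symm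
      rw [hdd] at hp2
      rcases eq_or_ne (f p d₀) 0 with hpd | hpd
      · rw [hpd, mul_zero] at hp2; exact hrr (neg_eq_zero.mp hp2)
      have h1 := hsq _ hrr
      have h3 := hsq _ hpd
      field_simp at hp2
      exact h2 (by linear_combination -hp2 - h1 - h3)
    -- the two conjugates
    obtain ⟨φ, hφ⟩ : ∃ φ : GL (Fin k) F → Matrix (Idx (t + 1) k) (Idx (t + 1) k) F →
        Matrix (Idx (t + 1) k) (Idx (t + 1) k) F, ∀ B X, φ B X = emb i B.val * X * emb i B⁻¹.val :=
      ⟨_, fun B X => rfl⟩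
    have hφmul : ∀ B X Y, φ B (X * Y) = φ B X * φ B Y := fun B X Y => by
      rw [hφ, hφ, hφ]
      simp only [← mul_assoc]
      rw [mul_assoc _ (emb i B⁻¹.val) (emb i B.val), ← emb_mul, Units.inv_mul, emb_one, mul_one]
    have hφone : ∀ B, φ B 1 = 1 := fun B => by rw [hφ, mul_one, ← emb_mul, Units.mul_inv, emb_one]
    have hφadd : ∀ B X Y, φ B (X + Y) = φ B X + φ B Y := fun B X Y => by
      rw [hφ, hφ, hφ, mul_add, add_mul]
    obtain ⟨C₃, hC₃⟩ : ∃ C₃, C₃ = R₀ * A⁻¹ := ⟨_, rfl⟩
    have hW₂' : A⁻¹.val * wd f e r * A⁻¹⁻¹.val = wd f e p := by rw [inv_inv]; exact hW₂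
    have hW₃' : C₃.val * wd f e r * C₃⁻¹.val =
        (f p r / f r r) • wd f e r - (f p d₀ / f d₀ d₀) • wd f e d₀ := by
      rw [← hW₃, ← hW₂', hC₃, _root_.mul_inv_rev, Units.val_mul, Units.val_mul]
      simp only [mul_assoc]
    have hsum : ∀ Z, (∀ x y, ∃ a : F, blk i x y Z = a • wd f e r) → φ A⁻¹ Z + φ C₃ Z = κ • Z := by
      intro Z hZ
      refine blk_ext i fun x y => ?_
      obtain ⟨a, ha⟩ := hZ x y
      rw [hφ, hφ, emb_sand, emb_sand,
        show ∀ X Y, blk i x y (X + Y) = blk i x y X + blk i x y Y from fun _ _ => rfl,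
        show ∀ (c : F) X, blk i x y (c • X) = c • blk i x y X from fun _ _ => rfl, blk_slotMap_same, blk_slotMap_same,
        sandL_apply, sandL_apply, ha, Matrix.mul_smul, Matrix.smul_mul, Matrix.mul_smul, Matrix.smul_mul, hW₂',
        hW₃', hdec, hκ]
      module
    have hφN : ∀ B, φ B Np = tmat (Function.update pat i (B.val * wd f e r * B⁻¹.val)) := fun B => by
      rw [hφ, hNp, emb_sand, slotMap_tmat, sandL_apply, hpi]
    have hsumN : φ A⁻¹ Np + φ C₃ Np = κ • Np := by
      rw [hφN, hφN, hW₂', hW₃', ← TPow.tmat_update_add, hdec, hNp]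
      rw [show (f p r / f r r) • wd f e r + (f p d₀ / f d₀ d₀) • wd f e d₀ +
          ((f p r / f r r) • wd f e r - (f p d₀ / f d₀ d₀) • wd f e d₀) = κ • wd f e r by rw [hκ]; module,
        TPow.tmat_update_smul, ← hpi, Function.update_eq_self]
    have hprodN : φ A⁻¹ Np * φ C₃ Np = 0 := by
      rw [hφN, hφN, tmat_mul]
      exact tmat_zero_at j₀ (by
        rw [Function.update_of_ne hj₀, Function.update_of_ne hj₀, hpl _ hj₀, H.ee_sq])
    -- conjugates of the lift
    have hκA : A.val * outer f e e * A⁻¹.val = -outer f e e := Matrix.ext_iff_mulVec.mpr fun z => by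
      have a1 := hA' z (A.val *ᵥ e)
      rw [Transvec.inv_mulVec_cancel] at a1
      rw [← mulVec_mulVec, ← mulVec_mulVec, sym_outer hf, neg_mulVec, sym_outer hf, mulVec_smul, a1, hAe,
        hf.bilinear.smul_right, smul_smul, ← neg_smul]
      congr 1
      ring
    have hcj : ∀ B : GL (Fin k) F, slotEl s A * slotEl (s.succAbove i) B ∈ M →
        (slotEl s A * slotEl (s.succAbove i) B) * h * (slotEl s A * slotEl (s.succAbove i) B)⁻¹ ∈ M ∧
        ((slotEl s A * slotEl (s.succAbove i) B) * h * (slotEl s A * slotEl (s.succAbove i) B)⁻¹).val =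
          tens s 1 (1 + φ B Np) + tens s (outer f e e) (-φ B S) := by
      intro B hB
      refine ⟨M.mul_mem (M.mul_mem hB hh) (M.inv_mem hB), ?_⟩
      rw [show slotEl s A * slotEl (s.succAbove i) B * h * (slotEl s A * slotEl (s.succAbove i) B)⁻¹ =
          slotEl s A * (slotEl (s.succAbove i) B * h * (slotEl (s.succAbove i) B)⁻¹) * (slotEl s A)⁻¹ by group]
      simp only [Units.val_mul, slotEl_inv_val, slotEl_val]
      rw [hhv, ← tens_emb_other, ← tens_emb_other, mul_add, tens_mul, tens_mul, add_mul, tens_mul, tens_mul,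
        mul_one, mul_one, one_mul, mul_one, ← hφ, hφadd, hφone, ← hφ, ← tens_emb s A.val,
        ← tens_emb s A⁻¹.val, mul_add, tens_mul, tens_mul, add_mul, tens_mul, tens_mul, mul_one, mul_one, one_mul,
        one_mul, mul_one, Units.mul_inv, hκA, ← neg_one_smul F (outer f e e), tens_smul_left, ← tens_smul_right,
        neg_one_smul]
    have hne : s ≠ s.succAbove i := (Fin.succAbove_ne s i).symm
    have hm₂ : slotEl s A * slotEl (s.succAbove i) A⁻¹ ∈ M := C.sim hev s (s.succAbove i) A (-1) hne hA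
    have hm₃ : slotEl s A * slotEl (s.succAbove i) C₃ ∈ M := by
      rw [hC₃, ← slotEl_mul, ← mul_assoc, ← slotEl_commute hne.symm, mul_assoc]
      exact M.mul_mem (hR₀ ▸ C.refl hev _ d₀ hd₀d) hm₂
    obtain ⟨hu₂, hv₂⟩ := hcj _ hm₂
    obtain ⟨hu₃, hv₃⟩ := hcj _ hm₃
    obtain ⟨u₂, hu₂'⟩ : ∃ u, u = slotEl s A * slotEl (s.succAbove i) A⁻¹ * h *
      (slotEl s A * slotEl (s.succAbove i) A⁻¹)⁻¹ := ⟨_, rfl⟩
    obtain ⟨u₃, hu₃'⟩ : ∃ u, u = slotEl s A * slotEl (s.succAbove i) C₃ * h *
      (slotEl s A * slotEl (s.succAbove i) C₃)⁻¹ := ⟨_, rfl⟩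
    rw [← hu₂'] at hu₂ hv₂
    rw [← hu₃'] at hu₃ hv₃
    have hSS : S = S' * (1 + Np) := by
      rw [hS', mul_assoc, show (1 - Np) * (1 + Np) = 1 by simp [sub_mul, mul_add, hNN], mul_one]
    have hcomm : S' * (1 + Np) = (1 + Np) * S' := by
      rw [mul_add, add_mul, mul_one, one_mul, add_right_inj, hS', mul_assoc, sub_mul, one_mul, hNN, sub_zero,
        ← mul_assoc, ← hSN, mul_assoc S Np, mul_sub, mul_one, hNN, sub_zero]
    have hsumS : φ A⁻¹ S' + φ C₃ S' = κ • S' := hsum S' hSi
    have hmix : φ A⁻¹ S' * φ C₃ Np = φ C₃ Np * φ A⁻¹ S' := by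
      obtain ⟨X, hX⟩ : ∃ X, X = A.val * (C₃.val * wd f e r * C₃⁻¹.val) * A⁻¹.val := ⟨_, rfl⟩
      have hXc : X * wd f e r = wd f e r * X := by
        have hp' : A.val * wd f e p * A⁻¹.val = wd f e r := by
          rw [← hW₂]
          simp only [← mul_assoc, Units.mul_inv, one_mul]
          rw [mul_assoc, Units.mul_inv, mul_one]
        have hcW : ∀ y z, f e y = 0 → f e z = 0 → wd f e y * wd f e z = wd f e z * wd f e y := fun y z hy hz => by
          rw [wd_wd hf H.ee hy hz, wd_wd hf H.ee hz hy, hf.symm y z]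
        obtain ⟨W₃, hW⟩ : ∃ W₃, W₃ = (f p r / f r r) • wd f e r - (f p d₀ / f d₀ d₀) • wd f e d₀ := ⟨_, rfl⟩
        have hc : W₃ * wd f e p = wd f e p * W₃ := by
          rw [hW, sub_mul, mul_sub, Matrix.smul_mul, Matrix.smul_mul, Matrix.mul_smul, Matrix.mul_smul,
            hcW r p hr hpe, hcW d₀ p hd₀ hpe]
        have hconj : ∀ Y Z : Matrix (Fin k) (Fin k) F,
            A.val * Y * A⁻¹.val * (A.val * Z * A⁻¹.val) = A.val * (Y * Z) * A⁻¹.val := fun Y Z => by
          simp only [← mul_assoc]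
          rw [mul_assoc _ A⁻¹.val A.val, Units.inv_mul, mul_one]
        rw [hX, hW₃', ← hW, ← hp', hconj, hconj, hc]
      have hT0 : S' * tmat (Function.update pat i X) = tmat (Function.update pat i X) * S' := by
        refine commute_tmat_of_blk fun l x y => ?_
        by_cases hl : l = i
        · obtain ⟨a, ha⟩ := hSi x y
          subst hl
          rw [Function.update_self, ha, Matrix.smul_mul, Matrix.mul_smul, hXc]
        · rw [Function.update_of_ne hl, hpl l hl]
          exact (H.cmt_comm (hS'cmt l x y)).1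
      have e : φ A⁻¹ (tmat (Function.update pat i X)) = φ C₃ Np := by
        rw [hφN, hφ, emb_sand, slotMap_tmat, sandL_apply, Function.update_self, Function.update_idem, hX, inv_inv]
        congr 2
        simp only [← mul_assoc, Units.inv_mul, one_mul]
        rw [mul_assoc, Units.inv_mul, mul_one]
      rw [← e, ← hφmul, hT0, hφmul]
    have hLS : (u₂ * u₃).val = tens s 1 (1 + κ • Np) +
        tens s (outer f e e) (-((1 + κ • Np) * (κ • S'))) := by
      have e1 : (1 + φ A⁻¹ Np) * (1 + φ C₃ Np) = 1 + κ • Np := by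
        rw [← hsumN, add_mul, one_mul, mul_add, mul_one, hprodN]
        abel
      have e2 : φ A⁻¹ S = (1 + φ A⁻¹ Np) * φ A⁻¹ S' := by rw [hSS, hcomm, hφmul, hφadd, hφone]
      have e4 : φ C₃ S = (1 + φ C₃ Np) * φ C₃ S' := by rw [hSS, hcomm, hφmul, hφadd, hφone]
      have e5 : φ A⁻¹ S' * (1 + φ C₃ Np) = (1 + φ C₃ Np) * φ A⁻¹ S' := by
        rw [mul_add, add_mul, hmix, mul_one, one_mul]
      rw [Units.val_mul, hv₂, hv₃, add_mul, mul_add, mul_add, tens_mul, tens_mul, tens_mul, tens_mul, one_mul,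
        one_mul, mul_one, H.ee_sq, tens_zero_left, add_zero, e1]
      refine (add_assoc _ _ _).trans ?_
      rw [← tens_add_right]
      congr 2
      rw [mul_neg, neg_mul, e2, e4, ← mul_assoc, e1, mul_assoc (1 + φ A⁻¹ Np), e5, ← mul_assoc, e1, ← hsumS, mul_add]
      abel
    have h20 : ∀ Z : Matrix (Idx (t + 1) k) (Idx (t + 1) k) F, (2 : F) • Z = 0 → Z = 0 := fun Z hZ =>
      (smul_eq_zero.mp hZ).resolve_left h2
    rcases hκ1 with hk1 | hk1
    · have hdiff : (u₂ * u₃).val - h.val = tens s (outer f e e) (-((1 + Np) * S') - S) := by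
        rw [hLS, hk1, one_smul, one_smul, hhv, add_sub_add_left_eq_sub, tens_sub_right]
      have h0 := (H.ee_eq hbig (M.mul_mem hu₂ hu₃) hh hhs hdiff).2
      refine h20 S ?_
      rw [hSS, hcomm] at h0 ⊢
      linear_combination (norm := module) -h0
    · have hdiff : (u₂ * u₃ * h).val - (1 : GL (Idx (t + 2) k) F).val =
          tens s (outer f e e) ((2 : F) • S') := by
        rw [Units.val_mul, hLS, hk1, hhv, neg_one_smul, neg_one_smul, add_mul, mul_add, mul_add, tens_mul, tens_mul,
          tens_mul, tens_mul, one_mul, one_mul, mul_one, H.ee_sq, tens_zero_left, add_zero,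
          show (1 + -Np) * (1 + Np) = 1 by simp [add_mul, mul_add, hNN],
          tens_one, Units.val_one, add_assoc (1 : Matrix (Idx (t + 2) k) (Idx (t + 2) k) F), add_sub_cancel_left,
          ← tens_add_right s (outer f e e)]
        congr 1
        rw [mul_neg, neg_neg, mul_assoc (1 + -Np) S', hcomm, ← mul_assoc, hSS, hcomm, ← mul_assoc,
          show (1 + -Np) * (1 + Np) = 1 by simp [add_mul, mul_add, hNN], one_mul, two_smul]
      have h0 := (H.ee_eq hbig (M.mul_mem (M.mul_mem hu₂ hu₃) hh) M.one_mem H.stab_one hdiff).2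
      rw [hSS, h20 S' h0, zero_mul]
  have hk3 : k = 3 := C.three_of_lt (by omega)
  by_cases h4 : ∃ a : F, a ≠ 0 ∧ (a * a) * (a * a) ≠ 1
  · obtain ⟨a, ha, ha4⟩ := h4
    obtain ⟨B, hB, hBe, -, -⟩ := H.exists_torus ha
    obtain ⟨h', hh'⟩ : ∃ h', h' = slotEl s B * h * (slotEl s B)⁻¹ := ⟨_, rfl⟩
    have hdiff : h'.val - h.val = tens s (outer f e e) (((a * a) * (a * a) - 1) • S) := by
      rw [hh', Units.val_mul, Units.val_mul, slotEl_inv_val, slotEl_val, hhv, ← tens_emb, ← tens_emb, mul_add,
        tens_mul, tens_mul, add_mul, tens_mul, tens_mul, mul_one, mul_one, one_mul, one_mul, mul_one, Units.mul_inv,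
        H.conj_ee (isoSq_le hB) hBe, add_sub_add_left_eq_sub, ← tens_sub_left, tens_smul_right, ← tens_smul_left,
        sub_smul, one_smul]
    have h0 := (H.ee_eq hbig (hh' ▸ M.mul_mem (M.mul_mem (C.sq s B hB) hh) (M.inv_mem (C.sq s B hB))) hh hhs hdiff).2
    exact (smul_eq_zero.mp h0).resolve_left (sub_ne_zero.mpr ha4)
  -- the field of five elements
  push Not at h4
  have h5q : (5 : F) = 0 := by
    have h16 := h4 2 h2
    have h35 : (3 : F) * 5 = 0 := by linear_combination h16
    by_contra h5'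
    have h3 : (3 : F) = 0 := (mul_eq_zero.mp h35).resolve_right h5'
    have hle : Fintype.card F ≤ 5 := by
      obtain ⟨φ, hφ⟩ : ∃ φ : Polynomial F, φ = Polynomial.X ^ 5 - Polynomial.X := ⟨_, rfl⟩
      have hdeg : φ.natDegree = 5 := by
        rw [hφ, Polynomial.natDegree_sub_eq_left_of_natDegree_lt] <;> simp
      by_contra hlt
      have h0 : φ = 0 := Polynomial.eq_zero_of_natDegree_lt_card_of_eval_eq_zero' φ Finset.univ (fun x _ => by
        rw [hφ, Polynomial.eval_sub, Polynomial.eval_pow, Polynomial.eval_X]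
        by_cases hx : x = 0
        · rw [hx]; simp
        · linear_combination x * h4 x hx) (by rw [hdeg, Finset.card_univ]; omega)
      rw [h0, Polynomial.natDegree_zero] at hdeg
      omega
    have h55 : Fintype.card F = 5 := by
      have := C.small hk3
      rw [Nat.card_eq_fintype_card] at this
      omega
    exact h5' (by exact_mod_cast h55 ▸ Nat.cast_card_eq_zero F)
  have h40 : (4 : F) = -1 := by linear_combination h5q
  -- the first torus
  obtain ⟨B₂, hB₂, hB₂e, -, hB₂r⟩ := H.exists_torus (a := (2 : F)) h2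
  have hB₂e' : B₂.val *ᵥ e = (-1 : F) • e := by rw [hB₂e, ← h40]; norm_num
  have hκ₂ : B₂.val * pat i * B₂⁻¹.val = (-1 : F) • pat i := by
    rw [hpi]; exact H.conj_wd_scale (isoSq_le hB₂) hB₂e' (hB₂r r hr hr')
  have hneg : emb i B₂.val * S' * emb i B₂⁻¹.val = -S' := by
    obtain ⟨x, hx⟩ : ∃ x, x = slotEl (s.succAbove i) B₂ := ⟨_, rfl⟩
    have hxm : x ∈ M := hx ▸ C.sq _ B₂ hB₂
    have hdiff : (x * h * x⁻¹ * h).val - (1 : GL (Idx (t + 2) k) F).val = tens s (outer f e e)
        ((1 + (-1 : F) • Np) * S + emb i B₂.val * S * emb i B₂⁻¹.val * (1 + Np)) := by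
      rw [Units.val_mul (x * h * x⁻¹) h, hx, hconjh i B₂ _ hκ₂, hhv, add_mul, mul_add, mul_add, tens_mul, tens_mul,
        tens_mul, tens_mul, one_mul, one_mul, mul_one, H.ee_sq, tens_zero_left, add_zero,
        show (1 + (-1 : F) • Np) * (1 + Np) = 1 by
          have := hNadd (-1) 1
          simpa using this,
        tens_one, Units.val_one, add_assoc (1 : Matrix (Idx (t + 2) k) (Idx (t + 2) k) F), add_sub_cancel_left,
        tens_add_right s (outer f e e)]
    have h0 := (H.ee_eq hbig (M.mul_mem (M.mul_mem (M.mul_mem hxm hh) (M.inv_mem hxm)) hh) M.one_mem H.stab_one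
      hdiff).2
    have e1 : emb i B₂.val * S' * emb i B₂⁻¹.val = emb i B₂.val * S * emb i B₂⁻¹.val * (1 + Np) := by
      have hX := hconjN i B₂ _ hκ₂
      rw [hS', show emb i B₂.val * (S * (1 - Np)) * emb i B₂⁻¹.val =
          emb i B₂.val * S * emb i B₂⁻¹.val * (emb i B₂.val * (1 - Np) * emb i B₂⁻¹.val) by
        simp only [← mul_assoc]
        rw [mul_assoc _ (emb i B₂⁻¹.val) (emb i B₂.val), ← emb_mul, Units.inv_mul, emb_one, mul_one],
        mul_sub (emb i B₂.val), sub_mul, mul_one, ← emb_mul, Units.mul_inv, emb_one, hX, neg_one_smul, sub_neg_eq_add]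
    have e2 : S' = (1 + (-1 : F) • Np) * S := by
      rw [hS', neg_one_smul, mul_sub, add_mul, neg_mul, mul_one, one_mul, hSN, sub_eq_add_neg]
    rw [e1, e2, eq_neg_iff_add_eq_zero, ← h0]
    abel
  have hSi : ∀ x y, ∃ v, f e v = 0 ∧ f e' v = 0 ∧ blk i x y S' = wd f e v := by
    intro x y
    have hq : k = 3 → 3 < Fintype.card F := fun h => by
      have := C.small h
      rw [Nat.card_eq_fintype_card] at this
      omega
    obtain ⟨a, b, v, hv, hv', hd'⟩ := commutant_root hf h2 hd hq H.ee H.ee'' H.pair (hS'cmt i x y)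
    refine ⟨v, hv, hv', ?_⟩
    have h1 := congrArg (blk i x y) hneg
    rw [show blk i x y (-S') = -blk i x y S' from rfl, emb_sand, blk_slotMap_same, sandL_apply, hd'] at h1
    simp only [mul_add, add_mul, Matrix.mul_smul, Matrix.smul_mul, mul_one, Units.mul_inv,
      H.conj_ee (isoSq_le hB₂) hB₂e', H.conj_wd_scale (isoSq_le hB₂) hB₂e' (hB₂r v hv hv'), neg_mul_neg, one_mul,
      one_smul, neg_one_smul] at h1
    have h3 : (2 : F) • (a • (1 : Matrix (Fin k) (Fin k) F) + b • outer f e e) = 0 := by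
      rw [two_smul]
      linear_combination (norm := abel) h1
    rw [hd', (smul_eq_zero.mp h3).resolve_left h2, zero_add]
  -- the second torus
  obtain ⟨A, hA⟩ : ∃ A, A = rG hf (e - (2 : F)⁻¹ • e') * rG hf (e - (1 : F) • e') := ⟨_, rfl⟩
  have hAiso : A ∈ isoF f := hA ▸ (isoF f).mul_mem (rG_iso hf _) (rG_iso hf _)
  have hv0 : ∀ d : F, d ≠ 0 → f (e - d • e') (e - d • e') = -(2 * d) ∧ f (e - d • e') (e - d • e') ≠ 0 := by
    intro d hd'
    have : f (e - d • e') (e - d • e') = -(2 * d) := by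
      simp only [sym_sub_left hf, sym_sub_right hf, hf.bilinear.smul_left, hf.bilinear.smul_right, H.ee,
        H.ee'', H.pair, H.pair']
      ring
    exact ⟨this, by rw [this]; exact neg_ne_zero.mpr (mul_ne_zero h2 hd')⟩
  have hAe : A.val *ᵥ e = (2 : F) • e := by
    obtain ⟨q1, q1'⟩ := hv0 1 one_ne_zero
    obtain ⟨q2, q2'⟩ := hv0 _ (inv_ne_zero h2)
    rw [hA, Transvec.mul_mulVec, rG_apply hf q1', q1, mulVec_sub, mulVec_smul, rG_apply hf q2', rG_apply hf q2', q2]
    simp only [sym_sub_left hf, sym_sub_right hf, hf.bilinear.smul_left, hf.bilinear.smul_right, H.ee, H.ee'',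
      H.pair, H.pair']
    match_scalars <;> field_simp <;> ring
  have hAr : ∀ v, f e v = 0 → f e' v = 0 → A.val *ᵥ v = v := fun v hv hv' => by
    have e0 : ∀ d : F, d ≠ 0 → (rG hf (e - d • e')).val *ᵥ v = v := fun d hd' => by
      rw [rG_apply hf (hv0 d hd').2, show f v (e - d • e') = 0 by
        rw [sym_sub_right hf, hf.bilinear.smul_right, hf.symm v e, hf.symm v e', hv, hv']; ring]
      simp
    rw [hA, Transvec.mul_mulVec, e0 1 one_ne_zero, e0 _ (inv_ne_zero h2)]
  obtain ⟨X, hX⟩ : ∃ X, X = slotEl s A * slotEl (s.succAbove i) A := ⟨_, rfl⟩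
  have hXm : X ∈ M := by
    have hne : s ≠ s.succAbove i := (Fin.succAbove_ne s i).symm
    have h1 := M.mul_mem (C.pair _ s (s.succAbove i) (hv0 _ (inv_ne_zero h2)).2 hne)
      (C.pair _ s (s.succAbove i) (hv0 1 one_ne_zero).2 hne)
    rw [mul_assoc, ← mul_assoc (slotEl (s.succAbove i) _), slotEl_commute hne.symm, mul_assoc (slotEl s _),
      slotEl_mul, ← mul_assoc, slotEl_mul, eG_mul, ← hA, ← hX] at h1
    exact h1
  have hκ₃ : A.val * pat i * A⁻¹.val = (2 : F) • pat i := by
    rw [hpi]; exact H.conj_wd_scale hAiso hAe (hAr r hr hr')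
  have hX2 : (4 : F) • (emb i A.val * S' * emb i A⁻¹.val) = (2 : F) • S' := by
    have hXs : H.Stab s (h * h) := H.stab_mul hhs hhs
    have hconjX : (X * h * X⁻¹).val =
        tens s 1 (1 + (2 : F) • Np) + tens s (outer f e e) ((4 : F) • (emb i A.val * S * emb i A⁻¹.val)) := by
      have e1 : X * h * X⁻¹ =
          slotEl s A * (slotEl (s.succAbove i) A * h * (slotEl (s.succAbove i) A)⁻¹) * (slotEl s A)⁻¹ := by
        rw [hX]; group
      rw [e1, Units.val_mul, Units.val_mul, hconjh i A _ hκ₃, slotEl_inv_val, slotEl_val, ← tens_emb s A.val,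
        ← tens_emb s A⁻¹.val,
        mul_add, tens_mul, tens_mul, add_mul, tens_mul, tens_mul, mul_one, mul_one, one_mul, one_mul, mul_one,
        Units.mul_inv, H.conj_ee hAiso hAe, tens_smul_left, ← tens_smul_right, show (2 : F) * 2 = 4 by norm_num]
    have hsq : (h * h).val =
        tens s 1 (1 + (2 : F) • Np) + tens s (outer f e e) ((1 + Np) * S + S * (1 + Np)) := by
      rw [Units.val_mul, hhv, add_mul, mul_add, mul_add, tens_mul, tens_mul, tens_mul, tens_mul, one_mul, one_mul,
        mul_one, H.ee_sq, tens_zero_left, add_zero,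
        show (1 + Np) * (1 + Np) = 1 + (2 : F) • Np by
          have := hNadd 1 1
          simpa [one_add_one_eq_two] using this,
        add_assoc, tens_add_right s (outer f e e)]
    have hdiff : (X * h * X⁻¹).val - (h * h).val = tens s (outer f e e)
        ((4 : F) • (emb i A.val * S * emb i A⁻¹.val) - ((1 + Np) * S + S * (1 + Np))) := by
      rw [hconjX, hsq, add_sub_add_left_eq_sub, tens_sub_right]
    have h0 := sub_eq_zero.mp
      (H.ee_eq hbig (M.mul_mem (M.mul_mem hXm hh) (M.inv_mem hXm)) (M.mul_mem hh hh) hXs hdiff).2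
    have hcomm : (1 + Np) * S = S * (1 + Np) := by rw [add_mul, mul_add, one_mul, mul_one, hSN]
    rw [hcomm] at h0
    have h1 := congrArg (· * (1 - (2 : F) • Np)) h0
    simp only [Matrix.smul_mul] at h1
    have eA2 : emb i A.val * S * emb i A⁻¹.val * (1 - (2 : F) • Np) = emb i A.val * S' * emb i A⁻¹.val := by
      have hX' := hconjN i A _ hκ₃
      rw [hS', ← hX']
      simp only [mul_sub, sub_mul, mul_one, ← mul_assoc]
      rw [mul_assoc (emb i A.val * S) (emb i A⁻¹.val) (emb i A.val), ← emb_mul, Units.inv_mul, emb_one, mul_one]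
    have eS : (S * (1 + Np) + S * (1 + Np)) * (1 - (2 : F) • Np) = (2 : F) • S' := by
      rw [← two_smul F, Matrix.smul_mul, mul_assoc, hS']
      congr 2
      have h3 := hNadd 1 (-2)
      rwa [one_smul, neg_smul, ← sub_eq_add_neg, show (1 : F) + -2 = -1 by ring, neg_one_smul, ← sub_eq_add_neg] at h3
    rw [eA2, eS] at h1
    exact h1
  have hS'0 : S' = 0 := by
    refine blk_ext i fun x y => ?_
    obtain ⟨v, hv, hv', hd'⟩ := hSi x y
    have h1 := congrArg (blk i x y) hX2
    rw [show ∀ (a : F) Z, blk i x y (a • Z) = a • blk i x y Z from fun _ _ => rfl,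
      show ∀ (a : F) Z, blk i x y (a • Z) = a • blk i x y Z from fun _ _ => rfl, emb_sand, blk_slotMap_same,
      sandL_apply, hd', H.conj_wd_scale hAiso hAe (hAr v hv hv'), smul_smul, ← sub_eq_zero, ← sub_smul,
      smul_eq_zero] at h1
    rcases h1 with h1 | h1
    · exact absurd (by linear_combination h1 - h5q : (1 : F) = 0) one_ne_zero
    · rw [hd', h1, blk_zero]
  have h6 := congrArg (· * (1 + Np)) hS'
  simp only [hS'0, zero_mul] at h6
  rw [mul_assoc, show (1 - Np) * (1 + Np) = 1 by simp [sub_mul, mul_add, hNN], mul_one] at h6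
  exact h6.symm

/-- The stabiliser of a singular slot subspace is in the tensor wreath group. -/
theorem Fr.flag (hbig : ¬ Big f M) (hdich : 1 ≤ t → (∀ g ∈ H.Ms s, IsTW g) ∨ Big f (H.Ms s))
    {y : GL (Idx (t + 2) k) F} (hy : y ∈ M) (hs : H.Stab s y) : IsTW y := by
  rcases Nat.eq_zero_or_pos t with ht | ht
  · subst ht
    refine H.flag_tw hbig (fun g hg => ?_) hy hs
    obtain ⟨B, -, hB⟩ := H.ctx_Ms.slotEl_of_comm (0 : Fin 1) (by assumption) fun l hl =>
      absurd (Fin.fin_one_eq_zero l) hl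
    exact hB ▸ ⟨1, _, TWMax.slotEl_data _ _⟩
  rcases hdich ht with h | h
  · exact H.flag_tw hbig h hy hs
  · exact absurd h (H.ms_not_big ht hbig)

end CfsgLib.Classical22.OPow
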