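/-
Tensor wreath elements conjugate to root elements of a slot, and conjugators of such elements.
-/
import Cfsg.Agent.Lib.Classical22.OrthPower.Flag
import Cfsg.Agent.Lib.Classical22.OrthOrthTensor.Tens

set_option autoImplicit false
set_option linter.unusedSectionVars false
set_option linter.unusedSimpArgs false

namespace CfsgLib.Classical22.OPow

open Matrix CfsgLib.Transvec CfsgLib.Classical22.TensorMax CfsgLib.Classical22.TensorMax.SympO
open CfsgLib.Classical22.TensorMax.SpO (sym_outer sym_zero_left sym_zero_right sym_sub_left sym_sub_right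
  sym_quad_smul)
open CfsgLib.Classical22.TensorMax.OO (eA eA_mulVec eA_iso eA_fix eA_sub_one_sq sym_neg_right IsLine exists_duals
  line_singular exists_partner_sym exists_second_pair)
open CfsgLib.Classical22.TWMax (Idx pv tmat emb emb_mul emb_comm emb_one emb_mulVec_pv TWData IsTW slotEl slotEl_val
  slotEl_data slotEl_apply tGL tGL_apply exists_notMem_span)
open scoped MatrixGroups

variable {F : Type*} [Field F] {t k : ℕ}

lemma pv_dot (xs φs : Fin t → Fin k → F) : pv φs ⬝ᵥ pv xs = ∏ i, φs i ⬝ᵥ xs i := by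
  simp only [dotProduct, pv, ← Finset.prod_mul_distrib]
  exact (Fintype.prod_sum fun i j => φs i j * xs i j).symm

/-- A tensor wreath element whose difference to the identity squares to zero is a matrix of one slot. -/
theorem emb_of_sq_zero (hk : 3 ≤ k) (h2 : (2 : F) ≠ 0) {y : GL (Idx (t + 1) k) F} (hy : IsTW y)
    (hsq : (y.val - 1) * (y.val - 1) = 0) : ∃ r X, y.val = emb r X := by
  classical
  obtain ⟨σ, gs, hd⟩ := hy
  obtain ⟨o, ho⟩ : ∃ o : Fin k → F, o ≠ 0 := ⟨Pi.single ⟨0, by omega⟩ 1, by simp⟩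
  have key : ∀ xs φs : Fin (t + 1) → Fin k → F, ∀ i, φs i ⬝ᵥ ((gs i).val *ᵥ ((gs (σ i)).val *ᵥ xs (σ (σ i)))) = 0 ∨
      (∃ j, φs j ⬝ᵥ ((gs j).val *ᵥ ((gs (σ j)).val *ᵥ xs (σ (σ j)))) = 0) → (∃ j, φs j ⬝ᵥ xs j = 0) →
      ∏ j, φs j ⬝ᵥ ((gs j).val *ᵥ xs (σ j)) = 0 := by
    intro xs φs i h1 h3
    have h := congrArg (fun Z => pv φs ⬝ᵥ (Z *ᵥ pv xs)) hsq
    simp only [zero_mulVec, dotProduct_zero, ← mulVec_mulVec, sub_mulVec, one_mulVec, mulVec_sub, hd _,
      dotProduct_sub, pv_dot] at h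
    have e1 : ∏ j, φs j ⬝ᵥ ((gs j).val *ᵥ ((gs (σ j)).val *ᵥ xs (σ (σ j)))) = 0 := by
      rcases h1 with h1 | ⟨j, h1⟩
      exacts [Finset.prod_eq_zero (Finset.mem_univ i) h1, Finset.prod_eq_zero (Finset.mem_univ j) h1]
    obtain ⟨j, hj⟩ := h3
    rw [e1, Finset.prod_eq_zero (f := fun j => φs j ⬝ᵥ xs j) (Finset.mem_univ j) hj] at h
    exact (mul_eq_zero.mp (by linear_combination -h : (2 : F) * ∏ j, φs j ⬝ᵥ ((gs j).val *ᵥ xs (σ j)) = 0)).resolve_left h2
  have hdual : ∀ v : Fin k → F, v ≠ 0 → ∃ φ : Fin k → F, φ ⬝ᵥ v = 1 := fun v hv => by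
    obtain ⟨φ, -, h⟩ := exists_functional (E := (⊥ : Submodule F (Fin k → F))) (u := v) (by simpa using hv)
    exact ⟨φ, h⟩
  choose D hD using fun v : {v : Fin k → F // v ≠ 0} => hdual v.1 v.2
  have hσ : ∀ i, σ i = i := by
    intro i
    by_contra hi
    have hii : σ (σ i) ≠ σ i := fun h => hi (σ.injective h)
    obtain ⟨x, hx⟩ := exists_notMem_span (show 2 < k by omega)
      ![(gs i)⁻¹.val *ᵥ o, (gs (σ i)).val *ᵥ o]
    have hx0 : x ≠ 0 := fun h => hx (h ▸ Submodule.zero_mem _)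
    obtain ⟨φ, hφ, hφ1⟩ := exists_functional hx
    obtain ⟨xs, hxs⟩ : ∃ xs : Fin (t + 1) → Fin k → F, xs = Function.update (fun _ => o) (σ i) x := ⟨_, rfl⟩
    have hxs0 : ∀ j, xs j ≠ 0 := fun j => by
      by_cases h : j = σ i
      · subst h; simpa [hxs] using hx0
      · simpa [hxs, h] using ho
    obtain ⟨φs, hφs⟩ : ∃ φs : Fin (t + 1) → Fin k → F, φs = Function.update
        (fun j => D ⟨(gs j).val *ᵥ xs (σ j), Transvec.mulVec_ne_zero _ (hxs0 _)⟩) i ((gs i)⁻¹.valᵀ *ᵥ φ) := ⟨_, rfl⟩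
    have hdot : ∀ v, ((gs i)⁻¹.valᵀ *ᵥ φ) ⬝ᵥ v = φ ⬝ᵥ ((gs i)⁻¹.val *ᵥ v) := fun v => by
      rw [mulVec_transpose, ← dotProduct_mulVec]
    refine zero_ne_one (α := F) ((key xs φs i (Or.inl ?_) ⟨i, ?_⟩).symm.trans ?_)
    · simp only [hφs, Function.update_self, hdot, hxs, Function.update_of_ne hii, Transvec.inv_mulVec_cancel]
      exact hφ _ (Submodule.subset_span ⟨1, rfl⟩)
    · simp only [hφs, Function.update_self, hdot, hxs, Function.update_of_ne (Ne.symm hi)]
      exact hφ _ (Submodule.subset_span ⟨0, rfl⟩)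
    · refine Finset.prod_eq_one fun j _ => ?_
      by_cases hj : j = i
      · subst hj
        rw [hφs, Function.update_self, hdot, hxs, Function.update_self, Transvec.inv_mulVec_cancel, hφ1]
      · rw [hφs, Function.update_of_ne hj]; exact hD ⟨_, _⟩
  have hs : ∀ i j, i ≠ j → (∃ x, (gs i).val *ᵥ x ∉ Submodule.span F {x}) →
      ∀ z, (gs j).val *ᵥ z ∈ Submodule.span F {z} := by
    intro i j hij ⟨x, hx⟩ z
    by_contra hz
    have hx0 : x ≠ 0 := fun h => hx (by simp [h])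
    have hz0 : z ≠ 0 := fun h => hz (by simp [h])
    obtain ⟨φ, hφ, hφ1⟩ := exists_functional hx
    have hz' : (gs j).val *ᵥ z ∉ Submodule.span F {(gs j).val *ᵥ ((gs j).val *ᵥ z)} := by
      intro h
      obtain ⟨a, ha⟩ := Submodule.mem_span_singleton.mp h
      have e := congrArg ((gs j)⁻¹.val *ᵥ ·) ha
      simp only [mulVec_smul, Transvec.inv_mulVec_cancel] at e
      have ha0 : a ≠ 0 := fun h0 => hz0 (by rw [← e, h0, zero_smul])
      exact hz (Submodule.mem_span_singleton.mpr ⟨a⁻¹, by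
        conv_lhs => rw [← e]
        exact inv_smul_smul₀ ha0 _⟩)
    obtain ⟨ψ, hψ, hψ1⟩ := exists_functional hz'
    obtain ⟨xs, hxs⟩ : ∃ xs : Fin (t + 1) → Fin k → F, xs = Function.update (Function.update (fun _ => o) j z) i x :=
      ⟨_, rfl⟩
    have hxi : xs i = x := by rw [hxs, Function.update_self]
    have hxj : xs j = z := by rw [hxs, Function.update_of_ne hij.symm, Function.update_self]
    have hxs0 : ∀ l, xs l ≠ 0 := fun l => by
      rcases eq_or_ne l i with rfl | h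
      · rwa [hxi]
      rcases eq_or_ne l j with rfl | h'
      · rwa [hxj]
      simpa [hxs, h, h'] using ho
    obtain ⟨φs, hφs⟩ : ∃ φs : Fin (t + 1) → Fin k → F, φs = Function.update (Function.update
        (fun l => D ⟨(gs l).val *ᵥ xs l, Transvec.mulVec_ne_zero _ (hxs0 _)⟩) j ψ) i φ := ⟨_, rfl⟩
    have hfi : φs i = φ := by rw [hφs, Function.update_self]
    have hfj : φs j = ψ := by rw [hφs, Function.update_of_ne hij.symm, Function.update_self]
    refine zero_ne_one (α := F) ((key xs φs i (Or.inr ⟨j, ?_⟩) ⟨i, ?_⟩).symm.trans ?_)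
    · simp only [hσ, hfj, hxj]
      exact hψ _ (Submodule.mem_span_singleton_self _)
    · rw [hfi, hxi]
      exact hφ _ (Submodule.mem_span_singleton_self _)
    · refine Finset.prod_eq_one fun l _ => ?_
      rw [hσ]
      rcases eq_or_ne l i with rfl | h
      · rw [hfi, hxi, hφ1]
      rcases eq_or_ne l j with rfl | h'
      · rw [hfj, hxj, hψ1]
      rw [hφs, Function.update_of_ne h, Function.update_of_ne h']
      exact hD ⟨_, _⟩
  obtain ⟨r, hr⟩ : ∃ r, ∀ l, l ≠ r → ∀ z, (gs l).val *ᵥ z ∈ Submodule.span F {z} := by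
    by_cases h : ∃ r, ∃ x, (gs r).val *ᵥ x ∉ Submodule.span F {x}
    · obtain ⟨r, hx⟩ := h
      exact ⟨r, fun l hl => hs r l hl.symm hx⟩
    · push Not at h
      exact ⟨0, fun l _ => h l⟩
  have hval : y.val = tmat fun l => (gs l).val := TWMax.mat_ext_pv fun xs => by
    rw [TWMax.tmat_mulVec, hd]
    simp only [hσ]
  refine ⟨r, exists_emb_of_scalar (by omega) r fun l hl a b => ?_⟩
  obtain ⟨c, hc⟩ : ∃ c : F, (gs l).val = c • 1 := by
    have h := hr l hl
    by_contra hns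
    push Not at hns
    obtain ⟨p, hp⟩ := exists_notMem_span (show 1 < k by omega) ![o]
    obtain ⟨c₀, hc₀⟩ := Submodule.mem_span_singleton.mp (h o)
    refine hns c₀ (Matrix.ext_iff_mulVec.mpr fun v => ?_)
    rw [smul_mulVec, one_mulVec]
    have hind : ∀ u v : Fin k → F, u ≠ 0 → v ∉ Submodule.span F {u} → ∀ cu cv : F,
        (gs l).val *ᵥ u = cu • u → (gs l).val *ᵥ v = cv • v → cu = cv := by
      intro u v hu hv cu cv hcu hcv
      obtain ⟨cw, hcw⟩ := Submodule.mem_span_singleton.mp (h (u + v))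
      rw [mulVec_add, hcu, hcv, smul_add] at hcw
      have e : (cw - cu) • u = (cv - cw) • v := by linear_combination (norm := module) hcw
      have h1 : cv - cw = 0 := by
        by_contra h0
        exact hv (Submodule.mem_span_singleton.mpr ⟨(cv - cw)⁻¹ * (cw - cu), by
          rw [← smul_smul, e, inv_smul_smul₀ h0]⟩)
      rw [h1, zero_smul, smul_eq_zero] at e
      rw [sub_eq_zero] at h1
      rw [h1, ← sub_eq_zero.mp (e.resolve_right hu)]
    obtain ⟨cv, hcv⟩ := Submodule.mem_span_singleton.mp (h v)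
    by_cases hv : v ∈ Submodule.span F {o}
    · obtain ⟨d, rfl⟩ := Submodule.mem_span_singleton.mp hv
      rw [mulVec_smul, ← hc₀, smul_comm]
    · rw [← hcv, hind o v ho hv c₀ cv hc₀.symm hcv.symm]
  exact ⟨(∏ m ∈ Finset.univ.erase l, (gs m).val (a m) (b m)) * c, by rw [hval, blk_tmat, hc, smul_smul]⟩

/-- A tensor wreath element commuting with a non-scalar slot element fixes the slot. -/
theorem fix_of_comm (hk : 2 ≤ k) {g : GL (Idx (t + 1) k) F} {σ : Equiv.Perm (Fin (t + 1))}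
    {gs : Fin (t + 1) → GL (Fin k) F} (hg : TWData g σ gs) {s : Fin (t + 1)} {B : Matrix (Fin k) (Fin k) F}
    (hB : ¬ ∃ c : F, B = c • 1) (h : g.val * emb s B = emb s B * g.val) : σ s = s := by
  obtain ⟨i, hi⟩ := σ.surjective s
  by_contra hne
  have his : i ≠ s := fun h => hne (h ▸ hi)
  have e := hg.conj_emb i B
  rw [hi, h, mul_assoc, Units.mul_inv, mul_one] at e
  obtain ⟨o, ho⟩ : ∃ o : Idx (t + 1) k, o = fun _ => ⟨0, by omega⟩ := ⟨_, rfl⟩
  obtain ⟨X, hX⟩ : ∃ X, X = (gs i).val * B * ((gs i)⁻¹).val := ⟨_, rfl⟩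
  rw [← hX] at e
  refine hB ⟨X (o i) (o i), ?_⟩
  ext a b
  have h1 := congrFun (congrFun e (Function.update o s a)) (Function.update o s b)
  simp only [emb, Function.update_self, Function.update_idem, if_pos rfl, if_true,
    Function.update_of_ne his] at h1
  rw [h1, Matrix.smul_apply, Matrix.one_apply, smul_eq_mul]
  by_cases hab : a = b
  · subst hab; rw [if_pos (Function.update_eq_self_iff.mpr (Function.update_of_ne his _ _).symm)]; simp
  · rw [if_neg hab, mul_zero]
    exact if_neg fun hu => hab (by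
      have := congrFun hu s
      rwa [Function.update_of_ne his.symm, Function.update_self, Function.update_self] at this)

variable [Fintype F] {f : (Fin k → F) → (Fin k → F) → F} {M : Subgroup (GL (Idx (t + 2) k) F)}

/-- A group in which stabilisers of singular slot subspaces are tensor wreath elements. -/
def Flags (C : Ctx f M) : Prop :=
  ∀ (e e' : Fin k → F) (c : F) (H : Fr C e e' c) (s : Fin (t + 2)), ∀ y ∈ M, H.Stab s y → IsTW y

/-- An element conjugating a root element into a slot that can be moved back is a tensor wreath element. -/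
theorem Ctx.root_conj_aux (C : Ctx f M) (hbig : ¬ Big f M) (hflag : Flags C) {n : GL (Idx (t + 2) k) F} (hn : n ∈ M)
    {e p : Fin k → F} (hL : IsLine f e p) (hk : 5 ≤ k) {s r : Fin (t + 2)} {X : Matrix (Fin k) (Fin k) F}
    (hX : (n * slotEl s (eU C.sym C.two e p) * n⁻¹).val = emb r X) {σ : Equiv.Perm (Fin (t + 2))} (hσ : σ s = r)
    (hσg : Odd k ∨ Equiv.Perm.sign σ = 1) : IsTW n := by
  classical
  have hf := C.sym
  have h2 := C.two
  obtain ⟨hee, hpp, hep, he0, hpe⟩ := id hL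
  obtain ⟨N, hN⟩ : ∃ N, N = eA f e p - 1 := ⟨_, rfl⟩
  have hNN : N * N = 0 := Matrix.ext_iff_mulVec.mpr fun x => by
    rw [hN, ← mulVec_mulVec, eA_sub_one_sq hf hee hep, hpp, mul_zero, neg_zero, zero_smul, zero_mulVec]
  obtain ⟨y, hyd⟩ : ∃ y, y = n * slotEl s (eU hf h2 e p) * n⁻¹ := ⟨_, rfl⟩
  rw [← hyd] at hX
  have hym : y ∈ M := hyd ▸ M.mul_mem (M.mul_mem hn (C.eich_mem s e p)) (M.inv_mem hn)
  have hsub : ∀ B : GL (Fin k) F, (n * slotEl s B * n⁻¹).val - 1 = n.val * emb s (B.val - 1) * n⁻¹.val := fun B => by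
    rw [Units.val_mul, Units.val_mul, slotEl_val, emb_sub, emb_one, mul_sub, sub_mul, mul_one, Units.mul_inv]
  have hy1 : y.val - 1 = n.val * emb s N * n⁻¹.val := by rw [hyd, hsub, eU_val hf h2 hee hep, hN]
  have hsq : (y.val - 1) * (y.val - 1) = 0 := by
    rw [hy1, show n.val * emb s N * n⁻¹.val * (n.val * emb s N * n⁻¹.val) = n.val * (emb s N * emb s N) * n⁻¹.val by
      rw [mul_assoc (n.val * emb s N), ← mul_assoc n⁻¹.val, ← mul_assoc n⁻¹.val, Units.inv_mul, one_mul]
      simp only [mul_assoc], ← emb_mul, hNN, emb_zero, mul_zero, zero_mul]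
  obtain ⟨B, hB, hyB⟩ := C.slotEl_of_comm r hym fun l hl v _ => Units.ext (by
    rw [Units.val_mul, Units.val_mul, slotEl_val, hX, emb_comm hl.symm])
  obtain ⟨γ, hγ⟩ : ∃ γ, γ = B.val - 1 := ⟨_, rfl⟩
  have hγN : emb r γ = n.val * emb s N * n⁻¹.val := by
    rw [← hy1, hyB, slotEl_val, hγ, emb_sub, emb_one]
  have hback : ∀ (Z : Matrix (Idx (t + 2) k) (Idx (t + 2) k) F), n.val * Z * n⁻¹.val = 0 → Z = 0 := fun Z hZ => by
    have h := congrArg (fun W => n⁻¹.val * W * n.val) hZ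
    simpa [← mul_assoc, mul_assoc _ n⁻¹.val n.val] using h
  have hemb0 : ∀ (l : Fin (t + 2)) (A : Matrix (Fin k) (Fin k) F), emb l A = 0 → A = 0 := fun l A hA => by
    ext i j
    have := congrFun (congrFun hA (Function.update (fun _ => i) l i)) (Function.update (fun _ => i) l j)
    simpa [emb] using this
  obtain ⟨e', p', he'e, he'p, hp'e, hp'p⟩ := exists_duals hf hL
  have hNe' : N *ᵥ e' = p := by
    rw [hN, sub_mulVec, one_mulVec, eA_mulVec hf, he'e, he'p, hpp]
    simp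
  obtain ⟨x₀, hx₀⟩ : ∃ x₀, γ *ᵥ x₀ ≠ 0 := by
    by_contra hc
    push Not at hc
    have hγ0 : γ = 0 := Matrix.ext_iff_mulVec.mpr fun x => by rw [hc, zero_mulVec]
    rw [hγ0, emb_zero] at hγN
    have := hemb0 s N (hback _ hγN.symm)
    rw [this, zero_mulVec] at hNe'
    exact hpe (hNe' ▸ Submodule.zero_mem _)
  obtain ⟨u, hu⟩ : ∃ u, u = γ *ᵥ x₀ := ⟨_, rfl⟩
  have hBi : ∀ (G : GL (Fin k) F), G ∈ isoF f → ∀ x z,
      f ((G.val - 1) *ᵥ x) z + f x ((G.val - 1) *ᵥ z) + f ((G.val - 1) *ᵥ x) ((G.val - 1) *ᵥ z) = 0 := fun G hG x z => by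
    have h := hG x z
    simp only [sub_mulVec, one_mulVec, sym_sub_left hf, sym_sub_right hf]
    linear_combination h
  have huu : f u u = 0 := by
    have hγγ : γ * γ = 0 := hemb0 r _ (by rw [emb_mul, hγN, ← hy1, hsq])
    have h := hBi B hB (γ *ᵥ x₀) x₀
    rw [← hγ, mulVec_mulVec, hγγ, zero_mulVec, sym_zero_left hf, sym_zero_left hf, zero_add, add_zero] at h
    rw [hu, h]
  have hu0 : u ≠ 0 := hu ▸ hx₀
  obtain ⟨u'', hu'', huu'', -⟩ := exists_partner_sym hf h2 hu0 huu
  obtain ⟨cu, K⟩ := C.exists_fr huu hu'' huu''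
  -- a second element fixing that subspace
  obtain ⟨w, hwe, hwp, hww⟩ : ∃ w, f w e = 0 ∧ f w p = 0 ∧ f w w ≠ 0 := by
    obtain ⟨m, hm⟩ : ∃ m, m = p' - (f p' p' / 2) • p := ⟨_, rfl⟩
    have hme : f m e = 0 := by rw [hm, sym_sub_left hf, hf.bilinear.smul_left, hp'e, hf.symm p e, hep]; ring
    have hpm : f p m = 1 := by rw [hm, sym_sub_right hf, hf.bilinear.smul_right, hf.symm p p', hp'p, hpp]; ring
    have hmm : f m m = 0 := by
      rw [hm]
      simp only [sym_sub_left hf, sym_sub_right hf, hf.bilinear.smul_left, hf.bilinear.smul_right, hp'p, hpp,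
        hf.symm p p']
      field_simp
      ring
    obtain ⟨w, hwp, -, hwe, hww⟩ := exists_second_pair hf h2 hk hpp hmm hpm he0 hee hep (by rw [hf.symm, hme])
    exact ⟨w, hwe, hwp, hww⟩
  have hew : f e w = 0 := by rw [hf.symm, hwe]
  obtain ⟨y', hy'⟩ : ∃ y', y' = n * slotEl s (eU hf h2 e w) * n⁻¹ := ⟨_, rfl⟩
  have hy'm : y' ∈ M := hy' ▸ M.mul_mem (M.mul_mem hn (C.eich_mem s e w)) (M.inv_mem hn)
  have hwN : eA f e w * N = N := Matrix.ext_iff_mulVec.mpr fun x => by
    rw [← mulVec_mulVec]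
    refine eA_fix hf ?_ ?_ <;> rw [hN, sub_mulVec, one_mulVec, eA_mulVec hf, hpp] <;>
      simp [sym_sub_left hf, hf.bilinear.add_left, hf.bilinear.smul_left, hee, hf.symm p e, hep, hew, hf.symm p w, hwp]
  have hfix : K.Fix r y' := by
    rw [Fr.Fix, Fr.pe]
    have e1 : outer f u u'' = γ * outer f x₀ u'' := Matrix.ext_iff_mulVec.mpr fun x => by
      rw [← mulVec_mulVec, sym_outer hf, sym_outer hf, mulVec_smul, ← hu]
    have e2 : y'.val * emb r γ = emb r γ := by
      rw [hγN, hy', Units.val_mul, Units.val_mul, slotEl_val, eU_val hf h2 hee hew, ← mul_assoc, ← mul_assoc,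
        mul_assoc _ n⁻¹.val n.val, Units.inv_mul, mul_one, mul_assoc n.val, ← emb_mul, hwN]
    rw [e1, emb_mul, ← mul_assoc, e2]
  obtain ⟨B', hB', hyB'⟩ := K.fix_slot (by omega) hbig hy'm hfix
  obtain ⟨D, hD⟩ : ∃ D, D = (B'.val - 1) * (B'.val - 1) := ⟨_, rfl⟩
  have hwsq : (eA f e w - 1) * (eA f e w - 1) = (-(f w w)) • outer f e e :=
    Matrix.ext_iff_mulVec.mpr fun x => by
      rw [← mulVec_mulVec, eA_sub_one_sq hf hee hew, smul_mulVec, sym_outer hf, smul_smul]
      congr 1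
      ring
  have hγ' : emb r (B'.val - 1) = n.val * emb s (eA f e w - 1) * n⁻¹.val := by
    rw [← eU_val hf h2 hee hew, ← hsub, ← hy', hyB', slotEl_val, emb_sub, emb_one]
  have hconj : ∀ Z Z' : Matrix (Idx (t + 2) k) (Idx (t + 2) k) F,
      n.val * Z * n⁻¹.val * (n.val * Z' * n⁻¹.val) = n.val * (Z * Z') * n⁻¹.val := fun Z Z' => by
    simp only [← mul_assoc]
    rw [mul_assoc _ n⁻¹.val n.val, Units.inv_mul, mul_one]
  have hDn : emb r D = n.val * emb s ((-(f w w)) • outer f e e) * n⁻¹.val := by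
    rw [hD, emb_mul, hγ', hconj, ← emb_mul, hwsq]
  obtain ⟨x₁, hx₁⟩ : ∃ x₁, D *ᵥ x₁ ≠ 0 := by
    by_contra hc
    push Not at hc
    rw [show D = 0 from Matrix.ext_iff_mulVec.mpr fun x => by rw [hc, zero_mulVec], emb_zero] at hDn
    have h := congrArg (· *ᵥ e') (hemb0 s _ (hback _ hDn.symm))
    rw [smul_mulVec, sym_outer hf, he'e, one_smul, zero_mulVec, neg_smul, neg_eq_zero] at h
    exact (smul_ne_zero hww he0) h
  obtain ⟨v, hv⟩ : ∃ v, v = D *ᵥ x₁ := ⟨_, rfl⟩
  have hvv : f v v = 0 := by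
    obtain ⟨G, hG⟩ : ∃ G, G = B'.val - 1 := ⟨_, rfl⟩
    have hD0 : G * D = 0 := hemb0 r _ (by
      rw [emb_mul, hG, hγ', hDn, hconj, ← emb_mul, show (eA f e w - 1) * ((-(f w w)) • outer f e e) = 0 from
        Matrix.ext_iff_mulVec.mpr fun x => by
          rw [← mulVec_mulVec, smul_mulVec, sym_outer hf, mulVec_smul, mulVec_smul, sub_mulVec, one_mulVec,
            OO.eA_self hf hee hew, sub_self, smul_zero, smul_zero, zero_mulVec], emb_zero, mul_zero, zero_mul])
    have h1 := hBi B' hB' (D *ᵥ x₁) (G *ᵥ x₁)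
    rw [← hG, mulVec_mulVec, hD0, zero_mulVec, sym_zero_left hf, sym_zero_left hf, zero_add, add_zero,
      mulVec_mulVec x₁ G G, show G * G = D by rw [hG, hD]] at h1
    rwa [hv]
  have hv0 : v ≠ 0 := hv ▸ hx₁
  obtain ⟨v'', hv'', hvv'', -⟩ := exists_partner_sym hf h2 hv0 hvv
  -- move to the original subspace
  obtain ⟨e'', he'', hee'', -⟩ := exists_partner_sym hf h2 he0 hee
  obtain ⟨c, H⟩ := C.exists_fr hee he'' hee''
  obtain ⟨g, hg, gs, hgs, hgd⟩ := H.exists_perm σ (hσg.imp_right Or.inr)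
  obtain ⟨A, hA, hAM, α, hAv⟩ := H.exists_move r hvv hv0
  obtain ⟨hgsi, β, hβ, hgse⟩ := hgs s
  obtain ⟨h, hh⟩ : ∃ h, h = g * slotEl r A := ⟨_, rfl⟩
  have hhm : h ∈ M := hh ▸ M.mul_mem hg hAM
  have hhtw : IsTW h := hh ▸ ⟨_, _, hgd.mul (slotEl_data r A)⟩
  have hout : ∀ G : GL (Fin k) F, G ∈ isoF f → ∀ a b : Fin k → F,
      G.val * outer f a b * G⁻¹.val = outer f (G.val *ᵥ a) (G.val *ᵥ b) := fun G hG a b =>
    Matrix.ext_iff_mulVec.mpr fun x => by
      rw [← mulVec_mulVec, ← mulVec_mulVec, sym_outer hf, sym_outer hf, mulVec_smul, ← hG (G⁻¹.val *ᵥ x) b,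
        Transvec.mulVec_inv_cancel]
  obtain ⟨Q, hQ⟩ : ∃ Q, Q = emb s (outer f ((gs s * A).val *ᵥ v) ((gs s * A).val *ᵥ v'')) := ⟨_, rfl⟩
  have hhQ : h.val * emb r (outer f v v'') * h⁻¹.val = Q := by
    have e1 := hgd.conj_emb s (A.val * outer f v v'' * A⁻¹.val)
    rw [hσ, hout A hA, hout _ hgsi, mulVec_mulVec, mulVec_mulVec, ← Units.val_mul, ← hQ] at e1
    rw [← e1, ← hout A hA, hh, _root_.mul_inv_rev, Units.val_mul, Units.val_mul, slotEl_inv_val, slotEl_val, emb_mul, emb_mul]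
    simp only [mul_assoc]
  have hQpe : Q * H.pe s = H.pe s := by
    have hl : (gs s * A).val *ᵥ v = (α * β) • e := by
      rw [Transvec.mul_mulVec, hAv, mulVec_smul, hgse, smul_smul]
    have h1 : α * β * f e ((gs s * A).val *ᵥ v'') = 1 := by
      have h3 := (isoF f).mul_mem hgsi hA v v''
      rwa [hl, hf.bilinear.smul_left, hvv''] at h3
    rw [hQ, Fr.pe, ← emb_mul, hl]
    congr 1
    refine Matrix.ext_iff_mulVec.mpr fun x => ?_
    rw [← mulVec_mulVec, sym_outer hf, sym_outer hf, hf.bilinear.smul_left, smul_smul]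
    congr 1
    linear_combination f x e'' * h1
  obtain ⟨m, hm⟩ : ∃ m, m = h * n := ⟨_, rfl⟩
  have hmm : m⁻¹ ∈ M := M.inv_mem (hm ▸ M.mul_mem hhm hn)
  have hmQ : H.pe s * (m⁻¹.val * Q) = m⁻¹.val * Q := by
    have e1 : m⁻¹.val * Q = n⁻¹.val * emb r (outer f v v'') * h⁻¹.val := by
      rw [hm, _root_.mul_inv_rev, Units.val_mul, ← hhQ]
      simp only [← mul_assoc]
      rw [mul_assoc n⁻¹.val h⁻¹.val h.val, Units.inv_mul, mul_one]
    have e2 : outer f v v'' = D * outer f x₁ v'' := Matrix.ext_iff_mulVec.mpr fun x => by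
      rw [← mulVec_mulVec, sym_outer hf, sym_outer hf, mulVec_smul, ← hv]
    rw [e1, e2, emb_mul, hDn]
    simp only [← mul_assoc]
    rw [Units.inv_mul, one_mul, mul_assoc (H.pe s) n⁻¹.val n.val, Units.inv_mul, mul_one, Fr.pe, ← emb_mul,
      Matrix.mul_smul, H.outer_cross_sq.1]
  have hst : H.Stab s m⁻¹ := by
    rw [Fr.Stab]
    calc m⁻¹.val * H.pe s = m⁻¹.val * Q * H.pe s := by rw [mul_assoc, hQpe]
      _ = H.pe s * (m⁻¹.val * Q) * H.pe s := by rw [hmQ]
      _ = H.pe s * m⁻¹.val * H.pe s := by simp only [mul_assoc, hQpe]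
  obtain ⟨σ', hs, hd⟩ := hflag _ _ _ H s _ hmm hst
  obtain ⟨τ, gs', hd'⟩ := hhtw
  have hnm : n = h⁻¹ * m⁻¹⁻¹ := by rw [hm, inv_inv, inv_mul_cancel_left]
  exact hnm ▸ ⟨_, _, hd'.inv.mul hd.inv⟩

/-- The conjugate of a root element that is a tensor wreath element lies in one slot. -/
theorem Ctx.root_slot (C : Ctx f M) {n : GL (Idx (t + 2) k) F}
    {e p : Fin k → F} (hL : IsLine f e p) (s : Fin (t + 2))
    (hy : IsTW (n * slotEl s (eU C.sym C.two e p) * n⁻¹)) :
    ∃ r X, (n * slotEl s (eU C.sym C.two e p) * n⁻¹).val = emb r X := by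
  have hf := C.sym
  obtain ⟨hee, hpp, hep, -, -⟩ := hL
  obtain ⟨N, hN⟩ : ∃ N, N = eA f e p - 1 := ⟨_, rfl⟩
  have hNN : N * N = 0 := Matrix.ext_iff_mulVec.mpr fun x => by
    rw [hN, ← mulVec_mulVec, eA_sub_one_sq hf hee hep, hpp, mul_zero, neg_zero, zero_smul, zero_mulVec]
  refine emb_of_sq_zero C.dim C.two hy ?_
  have e1 : (n * slotEl s (eU hf C.two e p) * n⁻¹).val - 1 = n.val * emb s N * n⁻¹.val := by
    rw [Units.val_mul, Units.val_mul, slotEl_val, eU_val hf C.two hee hep, hN, emb_sub, emb_one, mul_sub, sub_mul,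
      mul_one, Units.mul_inv]
  rw [e1, show n.val * emb s N * n⁻¹.val * (n.val * emb s N * n⁻¹.val) = n.val * (emb s N * emb s N) * n⁻¹.val by
    rw [mul_assoc (n.val * emb s N), ← mul_assoc n⁻¹.val, ← mul_assoc n⁻¹.val, Units.inv_mul, one_mul]
    simp only [mul_assoc], ← emb_mul, hNN, emb_zero, mul_zero, zero_mul]

/-- Matrices commuting with the wedges of all singular lines are scalar. -/
theorem scalar_of_lines (hf : Cfsg.Geo.IsSymmetricForm f) (h2 : (2 : F) ≠ 0) (hk : 5 ≤ k)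
    {A : Matrix (Fin k) (Fin k) F} (h : ∀ e p, IsLine f e p → A * wd f e p = wd f e p * A) :
    ∃ a : F, A = a • 1 := by
  have key : ∀ e : Fin k → F, e ≠ 0 → f e e = 0 → ∀ r, f e r = 0 → A * wd f e r = wd f e r * A := by
    intro e he hee r hr
    obtain ⟨S, hS⟩ : ∃ S : Submodule F (Fin k → F), ∀ v, v ∈ S ↔ A * wd f e v = wd f e v * A :=
      ⟨{ carrier := {v | A * wd f e v = wd f e v * A}
         zero_mem' := by
           have h0 : wd f e (0 : Fin k → F) = 0 := Matrix.ext_iff_mulVec.mpr fun z => by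
             rw [wd_mulVec hf, sym_zero_right hf]; simp
           simp [h0]
         add_mem' := fun {u v} hu hv => by
           have h0 : wd f e (u + v) = wd f e u + wd f e v := Matrix.ext_iff_mulVec.mpr fun z => by
             simp only [add_mulVec, wd_mulVec hf, hf.bilinear.add_right]; module
           simp only [Set.mem_setOf_eq] at hu hv ⊢
           rw [h0, mul_add, add_mul, hu, hv]
         smul_mem' := fun c v hv => by
           have h0 : wd f e (c • v) = c • wd f e v := Matrix.ext_iff_mulVec.mpr fun z => by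
             simp only [smul_mulVec, wd_mulVec hf, hf.bilinear.smul_right]; module
           simp only [Set.mem_setOf_eq] at hv ⊢
           rw [h0, Matrix.mul_smul, Matrix.smul_mul, hv] }, fun v => Iff.rfl⟩
    refine (hS r).mp (OO.mem_of_singular_perp hf h2 hk he hee (fun p hpp hpe => (hS p).mpr ?_) (by rw [hf.symm, hr]))
    by_cases hps : p ∈ Submodule.span F {e}
    · obtain ⟨c, rfl⟩ := Submodule.mem_span_singleton.mp hps
      have h0 : wd f e (c • e) = 0 := Matrix.ext_iff_mulVec.mpr fun z => by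
        simp only [wd_mulVec hf, hf.bilinear.smul_right, zero_mulVec]; module
      rw [h0, mul_zero, zero_mul]
    · exact h e p ⟨hee, hpp, by rw [hf.symm, hpe], he, hps⟩
  have eig : ∀ e e' : Fin k → F, f e e = 0 → f e' e' = 0 → f e e' = 1 → ∃ a : F, A *ᵥ e = a • e ∧
      ∀ r, f e r = 0 → f e' r = 0 → A *ᵥ r = a • r := by
    intro e e' hee he' hp
    have hp' : f e' e = 1 := by rw [hf.symm, hp]
    have he0 : e ≠ 0 := fun h0 => one_ne_zero (α := F) (by rw [← hp, h0, sym_zero_left hf])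
    have he0' : e' ≠ 0 := fun h0 => one_ne_zero (α := F) (by rw [← hp, h0, sym_zero_right hf])
    obtain ⟨r₀, h1, h2', hq⟩ := OO.exists_aniso_pairW hf h2 (by omega : 3 ≤ k) hee he' hp
    have hr0 : f e r₀ = 0 := by rw [hf.symm, h1]
    have hc : A * outer f e e = outer f e e * A := by
      have h3 := wd_wd hf hee hr0 hr0
      have h4 : A * (wd f e r₀ * wd f e r₀) = (wd f e r₀ * wd f e r₀) * A := by
        rw [← mul_assoc, key e he0 hee r₀ hr0, mul_assoc, key e he0 hee r₀ hr0, mul_assoc]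
      rw [h3, Matrix.mul_smul, Matrix.smul_mul] at h4
      exact smul_right_injective _ (neg_ne_zero.mpr hq) h4
    have hc' : A * outer f e' e' = outer f e' e' * A := by
      have hr0' : f e' r₀ = 0 := by rw [hf.symm, h2']
      have h3 := wd_wd hf he' hr0' hr0'
      have h4 : A * (wd f e' r₀ * wd f e' r₀) = (wd f e' r₀ * wd f e' r₀) * A := by
        rw [← mul_assoc, key e' he0' he' r₀ hr0', mul_assoc, key e' he0' he' r₀ hr0', mul_assoc]
      rw [h3, Matrix.mul_smul, Matrix.smul_mul] at h4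
      exact smul_right_injective _ (neg_ne_zero.mpr hq) h4
    have h5 := congrArg (· *ᵥ e') hc
    have h6 := congrArg (· *ᵥ e) hc'
    simp only [← mulVec_mulVec, sym_outer hf, hp', hp, one_smul] at h5 h6
    refine ⟨_, h5, fun r hr hr' => ?_⟩
    have h7 := congrArg (· *ᵥ e) (key e' he0' he' r hr')
    simp only [← mulVec_mulVec, wd_mulVec hf, hr, hp, one_smul, zero_smul, sub_zero, h5, hf.bilinear.smul_left,
      mul_one, mul_zero] at h7
    exact h7
  obtain ⟨e, he, hee⟩ := SpO.exists_singular_sym hf h2 (by omega : 3 ≤ k)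
  obtain ⟨e', he', hp, -⟩ := exists_partner_sym hf h2 he hee
  obtain ⟨a, ha, har⟩ := eig e e' hee he' hp
  obtain ⟨b, hb, hbr⟩ := eig e' e he' hee (by rw [hf.symm, hp])
  obtain ⟨r₀, h1, h2', hq⟩ := OO.exists_aniso_pairW hf h2 (by omega : 3 ≤ k) hee he' hp
  have hr00 : r₀ ≠ 0 := fun h0 => hq (by rw [h0, sym_zero_left hf])
  have hab : b = a := by
    have h3 := hbr r₀ (by rw [hf.symm, h2']) (by rw [hf.symm, h1])
    rw [har r₀ (by rw [hf.symm, h1]) (by rw [hf.symm, h2']), ← sub_eq_zero, ← sub_smul, smul_eq_zero,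
      sub_eq_zero] at h3
    exact (h3.resolve_right hr00).symm
  refine ⟨a, Matrix.ext_iff_mulVec.mpr fun x => ?_⟩
  obtain ⟨r, hr, hr', hx⟩ : ∃ r, f e r = 0 ∧ f e' r = 0 ∧ x = f x e' • e + f x e • e' + r := by
    have hp' : f e' e = 1 := by rw [hf.symm, hp]
    refine ⟨x - f x e' • e - f x e • e', ?_, ?_, by abel⟩
    · rw [sym_sub_right hf, sym_sub_right hf, hf.bilinear.smul_right, hf.bilinear.smul_right, hee, hp,
        hf.symm e x]; ring
    · rw [sym_sub_right hf, sym_sub_right hf, hf.bilinear.smul_right, hf.bilinear.smul_right, he', hp',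
        hf.symm e' x]; ring
  rw [hx, mulVec_add, mulVec_add, mulVec_smul, mulVec_smul, ha, hb, hab, har r hr hr', smul_mulVec, one_mulVec]
  module

/-- Conjugation taking one slot into another takes pure subspaces to pure subspaces. -/
theorem gim_of_emb (hk : 0 < k) {n : GL (Idx (t + 2) k) F} {a b : Fin (t + 2)}
    (h : ∀ B, ∃ A, n.val * emb a B * n⁻¹.val = emb b A) {u : Fin k → F} (hu : u ≠ 0) :
    ∃ u', u' ≠ 0 ∧ TWMax.gim n (TWMax.slotW a u) = TWMax.slotW b u' := by
  classical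
  obtain ⟨φ, -, hφ⟩ := exists_functional (E := (⊥ : Submodule F (Fin k → F))) (u := u) (by simpa using hu)
  obtain ⟨E, hE⟩ : ∃ E : Matrix (Fin k) (Fin k) F, ∀ z, E *ᵥ z = (φ ⬝ᵥ z) • u :=
    ⟨Matrix.vecMulVec u φ, fun z => funext fun i => by
      simp only [Matrix.mulVec, dotProduct, vecMulVec_apply, mul_assoc, ← Finset.mul_sum, Pi.smul_apply, smul_eq_mul]
      ring⟩
  obtain ⟨A, hA⟩ := h E
  have hmem : ∀ z, emb a E *ᵥ z ∈ TWMax.slotW a u := fun z => by
    refine pv_induction (G := Set.univ) (fun y => ⟨y, trivial, 0, trivial, 0, trivial, by simp⟩)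
      (P := fun z => emb a E *ᵥ z ∈ TWMax.slotW a u) (by simp) (fun v w hv hw => by
        rw [mulVec_add]; exact add_mem hv hw) (fun c v hv => by
        rw [mulVec_smul]; exact Submodule.smul_mem _ _ hv) (fun xs _ => ?_) z
    rw [emb_mulVec_pv, hE, pv_smul]
    refine Submodule.smul_mem _ _ ?_
    simpa using TWMax.pv_mem_slotW a (Function.update xs a u)
  obtain ⟨x, hx⟩ : ∃ x, A *ᵥ x ≠ 0 := by
    by_contra hc
    push Not at hc
    rw [show A = 0 from Matrix.ext_iff_mulVec.mpr fun x => by rw [hc, zero_mulVec], emb_zero] at hA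
    have h1 := congrArg (fun W => n⁻¹.val * W * n.val) hA
    simp only [← mul_assoc, Units.inv_mul, one_mul, mul_zero, zero_mul] at h1
    rw [mul_assoc, Units.inv_mul, mul_one] at h1
    have h2 := congrArg (· *ᵥ pv (fun _ : Fin (t + 2) => u)) h1
    simp only [emb_mulVec_pv, hE, hφ, one_smul, zero_mulVec, Function.update_eq_self] at h2
    exact TWMax.pv_ne_zero (fun _ => hu) h2
  refine ⟨_, hx, (Submodule.eq_of_le_of_finrank_eq ?_ ?_).symm⟩
  · refine TWMax.slotW_le fun xs hxs => TWMax.mem_gim.mpr ⟨_, hmem (n⁻¹.val *ᵥ pv (Function.update xs b x)), ?_⟩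
    rw [mulVec_mulVec, mulVec_mulVec, hA, emb_mulVec_pv, Function.update_idem, Function.update_self, ← hxs,
      Function.update_eq_self]
  · rw [TWMax.finrank_gim, TWMax.finrank_slotW _ hu, TWMax.finrank_slotW _ hx]

/-- An element conjugating a root element into a tensor wreath element is a tensor wreath element. -/
theorem Ctx.root_conj (C : Ctx f M) (hbig : ¬ Big f M) (hflag : Flags C) {n : GL (Idx (t + 2) k) F} (hn : n ∈ M)
    {e p : Fin k → F} (hL : IsLine f e p) (hk : 5 ≤ k) (s : Fin (t + 2))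
    (hy : IsTW (n * slotEl s (eU C.sym C.two e p) * n⁻¹)) : IsTW n := by
  classical
  have hf := C.sym
  have h2 := C.two
  obtain ⟨r, X, hX⟩ := C.root_slot hL s hy
  by_cases hgood : ∃ σ : Equiv.Perm (Fin (t + 2)), σ s = r ∧ (Odd k ∨ Equiv.Perm.sign σ = 1)
  · obtain ⟨σ, h1, h2'⟩ := hgood
    exact C.root_conj_aux hbig hflag hn hL hk hX h1 h2'
  push Not at hgood
  have hsr : s ≠ r := fun e => (hgood 1 (by simpa using e)).2 (map_one _)
  have htwo : ∀ l : Fin (t + 2), l = s ∨ l = r := fun l => by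
    by_contra hl
    push Not at hl
    refine (hgood (Equiv.swap s r * Equiv.swap r l) ?_).2 ?_
    · rw [Equiv.Perm.mul_apply, Equiv.swap_apply_of_ne_of_ne hsr hl.1.symm, Equiv.swap_apply_left]
    · rw [map_mul, Equiv.Perm.sign_swap hsr, Equiv.Perm.sign_swap hl.2.symm]; rfl
  by_contra hntw
  have hninv : ¬ IsTW n⁻¹ := fun h => hntw (by simpa using isTW_inv h)
  -- all root elements of the first slot go to the second
  have hback : ∀ e' p', IsLine f e' p' → ∃ Y, (n⁻¹ * slotEl s (eU hf h2 e' p') * n).val = emb r Y := by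
    intro e' p' hL'
    obtain ⟨x, hx⟩ : ∃ x, x = slotEl s (eU hf h2 e' p') := ⟨_, rfl⟩
    obtain ⟨y, hy'⟩ : ∃ y, y = n * slotEl s (eU hf h2 e p) * n⁻¹ := ⟨_, rfl⟩
    have hxy : x * y = y * x := Units.ext (by
      rw [Units.val_mul, Units.val_mul, hx, hy', hX, slotEl_val, emb_comm hsr])
    obtain ⟨z, hz⟩ : ∃ z, z = n⁻¹ * x * n := ⟨_, rfl⟩
    have hzM : z ∈ M := hz ▸ M.mul_mem (M.mul_mem (M.inv_mem hn) (hx ▸ C.eich_mem s e' p')) hn
    have hzc : z * slotEl s (eU hf h2 e p) * z⁻¹ = slotEl s (eU hf h2 e p) := by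
      rw [mul_inv_eq_iff_eq_mul, hz, show n⁻¹ * x * n * slotEl s (eU hf h2 e p) = n⁻¹ * (x * y) * n by rw [hy']; group,
        hxy, hy']
      group
    have hztw : IsTW z := C.root_conj_aux hbig hflag hzM hL hk (s := s) (r := s) (σ := 1)
      (by rw [hzc, slotEl_val]) rfl (Or.inr (map_one _))
    rw [hx] at hz
    have hy2 : IsTW (n⁻¹ * slotEl s (eU hf h2 e' p') * n⁻¹⁻¹) := by rw [inv_inv, ← hz]; exact hztw
    obtain ⟨r', Y, hY⟩ := C.root_slot hL' s hy2
    rcases htwo r' with rfl | rfl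
    · exact absurd (C.root_conj_aux hbig hflag (M.inv_mem hn) hL' hk hY (σ := 1) rfl (Or.inr (map_one _))) hninv
    · exact ⟨Y, by rw [← hY, inv_inv]⟩
  have hα : ∀ B, ∃ A, n.val * emb s B * n⁻¹.val = emb r A := by
    intro B
    refine exists_emb_of_scalar (by omega) r fun l hl x' y' => ?_
    obtain rfl := (htwo l).resolve_right hl
    refine scalar_of_lines hf h2 hk fun e' p' hL' => ?_
    obtain ⟨Y, hY⟩ := hback e' p' hL'
    obtain ⟨G, hG⟩ : ∃ G, G = eA f e' p' := ⟨_, rfl⟩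
    have hwd : wd f e' p' = G - 1 := by
      rw [hG, eA_eq hf, hL'.2.1]; simp
    have e1 : emb l G * n.val = n.val * emb r Y := by
      rw [← hY, hG, Units.val_mul, Units.val_mul, slotEl_val, eU_val hf h2 hL'.1 hL'.2.2.1]
      simp only [← mul_assoc, Units.mul_inv, one_mul]
    have e2 : n⁻¹.val * emb l G = emb r Y * n⁻¹.val := by
      have := congrArg (fun W => n⁻¹.val * W * n⁻¹.val) e1
      simp only [← mul_assoc, Units.inv_mul, one_mul] at this
      rw [mul_assoc (n⁻¹.val * emb l G), Units.mul_inv, mul_one] at this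
      exact this
    have hc : n.val * emb l B * n⁻¹.val * emb l G = emb l G * (n.val * emb l B * n⁻¹.val) := by
      rw [mul_assoc, e2, ← mul_assoc, mul_assoc n.val (emb l B) (emb r Y), emb_comm (Ne.symm hl).symm,
        ← mul_assoc n.val (emb r Y), ← e1]
      simp only [mul_assoc]
    have hd := congrArg (blk l x' y') hc
    rw [blk_right, blk_left] at hd
    rw [hwd, mul_sub, sub_mul, mul_one, one_mul, hd]
  -- and back
  obtain ⟨p₀, hp₀⟩ : ∃ p₀ : GL (Idx (t + 2) k) F, p₀ = TWMax.permGL (Equiv.swap s r) := ⟨_, rfl⟩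
  have hpd : TWData p₀ (Equiv.swap s r) fun _ => 1 := fun xs => by
    rw [hp₀, TWMax.permGL_apply]
    simp
  have hemb0 : ∀ (l : Fin (t + 2)) (A : Matrix (Fin k) (Fin k) F), emb l A = 0 → A = 0 := fun l A hA => by
    ext i j
    have := congrFun (congrFun hA (Function.update (fun _ => i) l i)) (Function.update (fun _ => i) l j)
    simpa [emb] using this
  choose Φ hΦ using hα
  obtain ⟨L, hL'⟩ : ∃ L : Matrix (Fin k) (Fin k) F →ₗ[F] Matrix (Fin k) (Fin k) F, ∀ B, L B = Φ B :=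
    ⟨{ toFun := Φ
       map_add' := fun B B' => sub_eq_zero.mp (hemb0 r _ (by
         rw [emb_sub, TWMax.emb_add, ← hΦ, ← hΦ, ← hΦ, TWMax.emb_add, mul_add, add_mul, sub_self]))
       map_smul' := fun c B => sub_eq_zero.mp (hemb0 r _ (by
         rw [emb_sub, RingHom.id_apply, TWMax.emb_smul, ← hΦ, ← hΦ, TWMax.emb_smul, Matrix.mul_smul, Matrix.smul_mul,
           sub_self])) }, fun B => rfl⟩
  have hinj : Function.Injective L := by
    rw [← LinearMap.ker_eq_bot, LinearMap.ker_eq_bot']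
    intro B hB
    refine hemb0 s B ?_
    have h1 := hΦ B
    rw [← hL', hB, emb_zero] at h1
    have h2' := congrArg (fun W => n⁻¹.val * W * n.val) h1
    simp only [← mul_assoc, Units.inv_mul, one_mul, mul_zero, zero_mul] at h2'
    rwa [mul_assoc, Units.inv_mul, mul_one] at h2'
  have hαr : ∀ B, ∃ A, n.val * emb r B * n⁻¹.val = emb s A := by
    intro B
    refine exists_emb_of_scalar (by omega) s fun l hl x' y' => ?_
    obtain rfl := (htwo l).resolve_left hl
    refine scalar_of_lines hf h2 hk fun e' p' _ => ?_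
    obtain ⟨B', hB'⟩ := LinearMap.surjective_of_injective hinj (wd f e' p')
    have hc : n.val * emb l B * n⁻¹.val * emb l (wd f e' p') = emb l (wd f e' p') * (n.val * emb l B * n⁻¹.val) := by
      rw [← hB', hL', ← hΦ]
      simp only [← mul_assoc]
      rw [mul_assoc (n.val * emb l B) n⁻¹.val n.val, Units.inv_mul, mul_one,
        mul_assoc (n.val * emb s B') n⁻¹.val n.val, Units.inv_mul, mul_one, mul_assoc n.val (emb l B),
        ← emb_comm hsr, ← mul_assoc]
    have hd := congrArg (blk l x' y') hc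
    rwa [blk_right, blk_left] at hd
  -- pure subspaces go to pure subspaces
  have hα' : ∀ B, ∃ A, n.val * emb s B * n⁻¹.val = emb r A := fun B => ⟨_, hΦ B⟩
  have hsub : ∀ (l : Fin (t + 2)) (u : Fin k → F), u ≠ 0 →
      ∃ u', u' ≠ 0 ∧ TWMax.gim n (TWMax.slotW l u) = TWMax.slotW (Equiv.swap s r l) u' := by
    intro l u hu
    rcases htwo l with rfl | rfl
    · rw [Equiv.swap_apply_left]; exact gim_of_emb (by omega) hα' hu
    · rw [Equiv.swap_apply_right]
      exact gim_of_emb (by omega) hαr hu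
  refine hntw ?_
  have hpn : IsTW (p₀ * n) := TWMax.isTW_of_pures (by omega) (t + 1) _ fun l u hu => by
    obtain ⟨u', hu', he⟩ := hsub l u hu
    refine ⟨u', hu', ?_⟩
    rw [TWMax.gim_mul, he, hpd.gim_slotW l hu', Units.val_one, one_mulVec]
  have := isTW_mul (isTW_inv (⟨_, _, hpd⟩ : IsTW p₀)) hpn
  rwa [inv_mul_cancel_left] at this

end CfsgLib.Classical22.OPow
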