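/-
Slot dimension at least five: a group containing the stabiliser is big or consists of tensor wreath elements.
-/
import Cfsg.Agent.Lib.Classical22.OrthPower.RootTW
import Cfsg.Agent.Lib.Classical22.OrthPower.KcMain

set_option autoImplicit false
set_option linter.unusedSectionVars false
set_option linter.unusedSimpArgs false

namespace CfsgLib.Classical22.OPow

open Matrix Kronecker CfsgLib.Transvec CfsgLib.Classical22.TensorMax CfsgLib.Classical22.TensorMax.SympO
open CfsgLib.Classical22.TensorMax.SpO (bform bform_sum_left bform_sum_right Iso kr kr_apply isKron_kr sym_dot sym_outer sym_eq sym_gram_mul_inv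
  sym_zero_left)
open CfsgLib.Classical22.TensorMax.OO (eA eA_mulVec eA_fix IsLine exists_duals bform_ptpt)
open CfsgLib.Classical22.TWMax (Idx pv tmat tmat_mul tmat_one mat_ext_pv emb emb_mulVec_pv TWData IsTW twData_one
  slotEl slotEl_val slotEl_data slotE slotG flatG slotG_slotEl slot_vec fv glReindex_mulVec)
open CfsgLib.Classical22.TPow (pG slotA flatA)
open scoped MatrixGroups

variable {F : Type*} [Field F] {t k : ℕ} {f : (Fin k → F) → (Fin k → F) → F}

/-- The tensor wreath elements as a group. -/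
def twGroup (F : Type*) [Field F] (t k : ℕ) : Subgroup (GL (Idx t k) F) where
  carrier := {g | IsTW g}
  one_mem' := ⟨1, _, twData_one⟩
  mul_mem' := fun ⟨σ, gs, hg⟩ ⟨τ, hs, hh⟩ => ⟨_, _, hg.mul hh⟩
  inv_mem' := fun ⟨σ, gs, hg⟩ => ⟨_, _, hg.inv⟩

lemma mem_twGroup {g : GL (Idx t k) F} : g ∈ twGroup F t k ↔ IsTW g := Iff.rfl

/-- The tensor power form in flat coordinates. -/
noncomputable def fl (t : ℕ) (f : (Fin k → F) → (Fin k → F) → F) (x y : Fin (k ^ t) → F) : F :=
  (flatA t k (pG t f) *ᵥ y) ⬝ᵥ x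

section Form
variable (hf : Cfsg.Geo.IsSymmetricForm f)
include hf

lemma fl_sym : Cfsg.Geo.IsSymmetricForm (fl t f) := by
  obtain ⟨G, hG⟩ : ∃ G, G = flatA t k (pG t f) := ⟨_, rfl⟩
  have hT : Gᵀ = G := by
    ext i j
    rw [hG, flatA]
    simp only [transpose_apply, Matrix.reindexAlgEquiv_apply, Matrix.reindex_apply, Matrix.submatrix_apply]
    exact congrFun (congrFun (pG_symm hf t) _) _
  have hu : IsUnit G.det := by
    rw [hG, flatA, Matrix.det_reindexAlgEquiv]
    refine Matrix.isUnit_det_of_right_inverse (B := tmat fun _ => (gram f)⁻¹) ?_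
    rw [pG, tmat_mul]
    simp only [sym_gram_mul_inv hf, tmat_one]
  have hs : ∀ x y, fl t f x y = fl t f y x := fun x y => by
    rw [fl, fl, ← hG, dotProduct_comm, dotProduct_mulVec, ← mulVec_transpose, hT]
  refine ⟨⟨fun x y v => dotProduct_add _ _ _, fun c x v => by simp [fl, dotProduct_smul],
    fun v x y => by simp [fl, mulVec_add, add_dotProduct], fun c v x => by simp [fl, mulVec_smul]⟩, hs, ?_⟩
  intro v hv
  obtain ⟨x, hx⟩ : ∃ x, fl t f x v ≠ 0 := by
    by_contra hc
    push Not at hc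
    refine hv (Matrix.mulVec_injective_iff_isUnit.mpr ((Matrix.isUnit_iff_isUnit_det _).mpr hu) ?_)
    rw [mulVec_zero]
    funext i
    have h := hc (Pi.single i 1)
    rw [fl, ← hG, dotProduct_single, mul_one] at h
    exact h
  exact ⟨⟨x, hx⟩, x, hs x v ▸ hx⟩

/-- The form in slot coordinates. -/
lemma bform_slot (s : Fin (t + 1)) (v w : Idx (t + 1) k → F) :
    bform (fl t f) f (v ∘ (slotE s).symm) (w ∘ (slotE s).symm) = bil f v w := by
  obtain ⟨K, hK⟩ : ∃ K, K = flatA t k (pG t f) ⊗ₖ gram f := ⟨_, rfl⟩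
  have hb : ∀ a b, bform (fl t f) f a b = (K *ᵥ b) ⬝ᵥ a := fun a b => by
    rw [eq_sum_pt a, eq_sum_pt b]
    simp only [bform_sum_left (fl_sym hf), bform_sum_right (fl_sym hf), bform_ptpt (fl_sym hf) hf,
      Matrix.mulVec_sum, sum_dotProduct, dotProduct_sum]
    refine Finset.sum_congr rfl fun i _ => Finset.sum_congr rfl fun j _ => ?_
    rw [hK, sym_dot hf, fl, show ∀ y u, (flatA t k (pG t f) ⊗ₖ gram f) *ᵥ pt y u = pt (flatA t k (pG t f) *ᵥ y) (gram f *ᵥ u)
      from fun y u => TensorRefine.kronecker_mulVec _ _ y u]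
    simp only [dotProduct, pt, Fintype.sum_prod_type]
    rw [Finset.sum_mul_sum]
    exact Finset.sum_congr rfl fun a _ => Finset.sum_congr rfl fun b _ => by ring
  have hK' : K = slotA s (pG (t + 1) f) := by rw [← pG_tens hf s, tens, AlgEquiv.apply_symm_apply, hK]
  rw [hb, hK', slotA, Matrix.reindexAlgEquiv_apply, Matrix.reindex_apply, Matrix.submatrix_mulVec_equiv,
    Function.comp_assoc, Equiv.symm_symm, Equiv.symm_comp_self, Function.comp_id, bil,
    comp_equiv_dotProduct_comp_equiv]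

end Form

variable [Fintype F] {M : Subgroup (GL (Idx (t + 2) k) F)}

/-- Slot dimension at least five. -/
theorem Ctx.five_main (C : Ctx f M) (hk : 5 ≤ k) (hbig : ¬ Big f M) (hflag : Flags C)
    {g : GL (Idx (t + 2) k) F} (hg : g ∈ M) : IsTW g := by
  classical
  have hf := C.sym
  have h2 := C.two
  obtain ⟨S, hS⟩ : ∃ S : GL (Idx (t + 2) k) F ≃* GL (Fin (k ^ (t + 1)) × Fin k) F, S = slotG 0 := ⟨_, rfl⟩
  have hSv : ∀ (n : GL (Idx (t + 2) k) F) v,
      (S n).val *ᵥ (v ∘ (slotE (0 : Fin (t + 2))).symm) = (n.val *ᵥ v) ∘ (slotE (0 : Fin (t + 2))).symm :=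
    fun n v => by rw [hS]; exact glReindex_mulVec _ n v
  have hroot : ∀ e p, IsLine f e p → Kc.rootK hf h2 e p = S (slotEl 0 (eU hf h2 e p)) := fun e p hL => by
    rw [hS, slotG_slotEl, Kc.rootK, dif_pos ⟨hL.1, hL.2.2.1⟩]
    congr 1
    exact Units.ext (eU_val hf h2 hL.1 hL.2.2.1).symm
  have hmem : ∀ x, x ∈ M.map S.toMonoidHom → ∃ n ∈ M, S n = x := fun x ⟨n, hn, he⟩ => ⟨n, hn, he⟩
  have hW : ∀ n, S n ∈ (twGroup F (t + 2) k).map S.toMonoidHom ↔ IsTW n := fun n =>
    ⟨fun ⟨m, hm, he⟩ => S.injective he ▸ hm, fun h => ⟨n, h, rfl⟩⟩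
  have hcore : Kc.Core (fl (t + 1) f) f ((twGroup F (t + 2) k).map S.toMonoidHom) (M.map S.toMonoidHom) := by
    refine
      { left := fl_sym hf
        right := hf
        two := h2
        dim := le_trans C.dim (Nat.le_self_pow (by omega) k)
        five := hk
        iso := ?_
        root := fun e p hL => hroot e p hL ▸
          ⟨⟨_, C.eich_mem 0 e p, rfl⟩, (hW _).mpr ⟨_, _, slotEl_data _ _⟩⟩
        conj := ?_
        comm := ?_
        fix := ?_ }
    · intro x hx v w
      obtain ⟨n, hn, rfl⟩ := hmem x hx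
      obtain ⟨v, rfl⟩ : ∃ v', v' ∘ (slotE (0 : Fin (t + 2))).symm = v :=
        ⟨v ∘ slotE 0, by rw [Function.comp_assoc, Equiv.self_comp_symm, Function.comp_id]⟩
      obtain ⟨w, rfl⟩ : ∃ w', w' ∘ (slotE (0 : Fin (t + 2))).symm = w :=
        ⟨w ∘ slotE 0, by rw [Function.comp_assoc, Equiv.self_comp_symm, Function.comp_id]⟩
      rw [hSv, hSv, bform_slot hf, bform_slot hf, C.iso n hn]
    · intro x hx e p hL hy
      obtain ⟨n, hn, rfl⟩ := hmem x hx
      rw [hroot e p hL, ← map_inv, ← map_mul, ← map_mul, hW] at hy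
      exact (hW n).mpr (C.root_conj hbig hflag hn hL hk 0 hy)
    · intro x hx e p hL hc
      obtain ⟨n, hn, rfl⟩ := hmem x hx
      rw [hroot e p hL, ← map_mul, ← map_mul] at hc
      have hc' := S.injective hc
      obtain ⟨σ, gs, hd⟩ := C.root_conj hbig hflag hn hL hk 0
        (by rw [hc', mul_inv_cancel_right]; exact ⟨_, _, slotEl_data _ _⟩)
      have hns : ¬ ∃ c : F, (eU hf h2 e p).val = c • 1 := by
        rintro ⟨c, hc1⟩
        obtain ⟨e', p', he'e, he'p, -, -⟩ := exists_duals hf hL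
        rw [eU_val hf h2 hL.1 hL.2.2.1] at hc1
        have he := congrArg (· *ᵥ e) hc1
        have he' := congrArg (· *ᵥ e') hc1
        simp only [smul_mulVec, one_mulVec] at he he'
        rw [eA_fix hf hL.1 hL.2.2.1] at he
        have hc2 : (1 - c) • e = 0 := by rw [sub_smul, one_smul, sub_eq_zero]; exact he
        rw [(sub_eq_zero.mp ((smul_eq_zero.mp hc2).resolve_right hL.2.2.2.1)).symm, one_smul, eA_mulVec hf, he'e,
          he'p, hL.2.1, one_smul, zero_smul, sub_zero, zero_div, zero_mul, zero_smul, sub_zero, add_eq_left] at he'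
        exact hL.2.2.2.2 (he' ▸ Submodule.zero_mem _)
      obtain ⟨A, π, -, -, he⟩ := hd.slot (s := 0) (fix_of_comm (by omega) hd hns (by
        rw [← slotEl_val, ← Units.val_mul, ← Units.val_mul, hc']))
      rw [hS, he]
      exact isKron_kr _ _
    · intro x hx e he0 hee hfix
      obtain ⟨n, hn, rfl⟩ := hmem x hx
      obtain ⟨e', he', hee', -⟩ := OO.exists_partner_sym hf h2 he0 hee
      obtain ⟨c, H⟩ := C.exists_fr hee he' hee'
      refine (hW n).mpr (hflag _ _ _ H 0 n hn (Fr.Fix.stab (H := H) (mat_ext_pv fun xs => ?_)))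
      refine (slotE (0 : Fin (t + 2))).symm.surjective.injective_comp_right ?_
      change ((n.val * H.pe 0) *ᵥ pv xs) ∘ (slotE (0 : Fin (t + 2))).symm =
        (H.pe 0 *ᵥ pv xs) ∘ (slotE (0 : Fin (t + 2))).symm
      rw [← mulVec_mulVec, ← hSv, Fr.pe, emb_mulVec_pv, slot_vec, Function.update_self, sym_outer hf,
        pt_smul_right, mulVec_smul, hfix]
  exact (hW g).mp (Kc.mem_main hcore ⟨g, hg, rfl⟩)

end CfsgLib.Classical22.OPow
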