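/-
The dichotomy by induction on the number of slots.
-/
import Cfsg.Agent.Lib.Classical22.OrthPower.Five
import Cfsg.Agent.Lib.Classical22.OrthPower.Flag
import Cfsg.Agent.Lib.Classical22.OrthPower.Three.Final

set_option autoImplicit false
set_option linter.unusedSectionVars false

namespace CfsgLib.Classical22.OPow

open Matrix CfsgLib.Classical22.TensorMax
open CfsgLib.Classical22.TWMax (Idx slotEl_data IsTW)
open scoped MatrixGroups

variable {F : Type*} [Field F] [Fintype F]

/-- One slot. -/
lemma tw_one {k : ℕ} {f : (Fin k → F) → (Fin k → F) → F} {M : Subgroup (GL (Idx 1 k) F)} (C : Ctx f M)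
    {g : GL (Idx 1 k) F} (hg : g ∈ M) : IsTW g := by
  obtain ⟨B, -, hB⟩ := C.slotEl_of_comm (0 : Fin 1) hg fun l hl => absurd (Fin.fin_one_eq_zero l) hl
  exact hB ▸ ⟨1, _, slotEl_data _ _⟩

/-- The dichotomy for slots of dimension at least five. -/
theorem five_dich {k : ℕ} {f : (Fin k → F) → (Fin k → F) → F} (hk : 5 ≤ k) :
    ∀ (t : ℕ) (M : Subgroup (GL (Idx (t + 1) k) F)), Ctx f M → (∀ g ∈ M, IsTW g) ∨ Big f M := by
  intro t
  induction t with
  | zero => exact fun M C => Or.inl fun g hg => tw_one C hg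
  | succ t ih =>
    intro M C
    by_cases hbig : Big f M
    · exact Or.inr hbig
    · exact Or.inl fun g hg => C.five_main hk hbig
        (fun e e' c H s y hy hs => H.flag hbig (fun _ => ih _ H.ctx_Ms) hy hs) hg

namespace Three

variable {f : (Fin 3 → F) → (Fin 3 → F) → F}

/-- The induced group in dimension three. -/
theorem ctx3_Ms {t : ℕ} {M : Subgroup (GL (Idx (t + 2) 3) F)} (C : Ctx3 f M) {e e' : Fin 3 → F} {c : F}
    (H : Fr C.ctx e e' c) (s : Fin (t + 2)) : Ctx3 f (H.Ms s) where
  ctx := H.ctx_Ms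
  det g hg := hg.2.1 (by decide)
  good j v hv := H.ms_slot (eG_iso _ v) (fun _ => det_eG C.ctx.sym (by decide) hv.1) (C.good (s.succAbove j) v hv)

/-- The dichotomy for slots of dimension three. -/
theorem three_dich (p : ℕ) [Fact p.Prime] [CharP F p] :
    ∀ (t : ℕ) (M : Subgroup (GL (Idx (t + 1) 3) F)), Ctx3 f M → (∀ g ∈ M, IsTW g) ∨ Big f M := by
  intro t
  induction t with
  | zero => exact fun M C => Or.inl fun g hg => tw_one C.ctx hg
  | succ t ih =>
    intro M C
    by_cases hbig : Big f M
    · exact Or.inr hbig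
    · exact Or.inl fun g hg => main (C := C) p
        (fun e e' c H s y hy hs => H.flag hbig (fun _ => ih _ (ctx3_Ms C H s)) hy hs) hbig ih hg

end Three

end CfsgLib.Classical22.OPow
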