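/-
Correcting an isometry into the commutator subgroup by products of reflections in orthogonal families.
-/
import Cfsg.Agent.Lib.Classical.SpinorCriterion
import Cfsg.Agent.Lib.Classical.QuadReflect
import Cfsg.Agent.Lib.Classical.QuadEichler

set_option autoImplicit false

namespace CfsgLib.Classical22.OPow

open CfsgLib.Classical

variable {F V : Type*} [Field F] [Fintype F] [AddCommGroup V] [Module F V] [FiniteDimensional F V]
  {Q : QuadraticForm F V}

/-- Two products of an odd number of reflections of opposite spinor sign cover the classes. -/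
theorem exists_correct (hQ : PolarNondeg Q) (hn : 5 ≤ Module.finrank F V) {κ : Type*} [Fintype κ] [DecidableEq κ]
    (hκ : Odd (Fintype.card κ)) {z z' : κ → V} (hz : ∀ i, Q (z i) ≠ 0)
    (horth : ∀ i j, i ≠ j → QuadraticMap.polar Q (z i) (z j) = 0) (hz' : ∀ i, Q (z' i) ≠ 0)
    (horth' : ∀ i j, i ≠ j → QuadraticMap.polar Q (z' i) (z' j) = 0)
    (hns : ¬ IsSquare ((∏ i, Q (z i)) * ∏ i, Q (z' i))) {R : qAut Q → Prop} (h1 : R 1)
    (hmul : ∀ a b, R a → R b → R (a * b))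
    (hR : ∀ h : qAut Q, (∀ x, h.1 x = x - ∑ i, ((Q (z i))⁻¹ * QuadraticMap.polar Q x (z i)) • z i) → R h)
    (hR' : ∀ h : qAut Q, (∀ x, h.1 x = x - ∑ i, ((Q (z' i))⁻¹ * QuadraticMap.polar Q x (z' i)) • z' i) → R h)
    (g : qAut Q) : ∃ h, R h ∧ g * h ∈ eichGroup Q := by
  classical
  have hex : Fintype.card F ≠ 2 ∨ Module.finrank F V ≠ 4 := Or.inr (by omega)
  obtain ⟨θ, hθ, hiff⟩ := Spin.exists_spin Q hQ hex
  obtain ⟨D, hD, hD1⟩ := exists_parity_hom Q hQ (reflGroup_eq_top Q hQ hex)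
  have hmem : ∀ x, x ∈ eichGroup Q ↔ (D.prod θ) x = 1 := fun x => by
    rw [eichGroup_eq_commutator Q hQ hn, hiff, MonoidHom.prod_apply, Prod.ext_iff, Prod.fst_one, Prod.snd_one,
      hD, ← ofAdd_zero, Multiplicative.ofAdd.apply_eq_iff_eq, ZMod.natCast_eq_zero_iff_even]
  have hfam : ∀ w : κ → V, ∀ hw : ∀ i, Q (w i) ≠ 0, (∀ i j, i ≠ j → QuadraticMap.polar Q (w i) (w j) = 0) →
      ∃ h : qAut Q, (∀ x, h.1 x = x - ∑ i, ((Q (w i))⁻¹ * QuadraticMap.polar Q x (w i)) • w i) ∧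
        (D.prod θ) h = (Multiplicative.ofAdd 1, Spin.sqSign (∏ i, Q (w i))) := by
    intro w hw hwo
    obtain ⟨h, hh, hψ⟩ := Spin.exists_refl_family Q (D.prod θ) w hw hwo Finset.univ
    refine ⟨h, hh, hψ.trans ?_⟩
    have e : ∀ s : Finset κ, ∏ i ∈ s, (D.prod θ) (qRefl Q (hw i)) =
        (Multiplicative.ofAdd (s.card : ZMod 2), Spin.sqSign (∏ i ∈ s, Q (w i))) := fun s => by
      induction s using Finset.induction_on with
      | empty => simp [Spin.sqSign_one, Prod.ext_iff]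
      | insert i s his ih =>
        rw [Finset.prod_insert his, ih, Finset.prod_insert his, Finset.card_insert_of_notMem his,
          MonoidHom.prod_apply, hD1, hθ, Prod.mk_mul_mk, ← Spin.sqSign_mul (hw i)
          (Finset.prod_ne_zero_iff.mpr fun j _ => hw j), ← ofAdd_add, Nat.cast_succ, add_comm (1 : ZMod 2)]
    rw [e, Finset.card_univ]
    obtain ⟨j, hj⟩ := hκ
    rw [hj, Nat.cast_add, Nat.cast_mul, Nat.cast_one, show ((2 : ℕ) : ZMod 2) = 0 by decide, zero_mul, zero_add]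
  obtain ⟨h, hh, hψ⟩ := hfam z hz horth
  obtain ⟨h', hh', hψ'⟩ := hfam z' hz' horth'
  have hopp : Spin.sqSign (∏ i, Q (z' i)) = - Spin.sqSign (∏ i, Q (z i)) := by
    have e := Spin.sqSign_of_not hns
    rw [Spin.sqSign_mul (Finset.prod_ne_zero_iff.mpr fun j _ => hz j) (Finset.prod_ne_zero_iff.mpr fun j _ => hz' j)]
      at e
    rw [← one_mul (Spin.sqSign (∏ i, Q (z' i))), ← Int.units_mul_self (Spin.sqSign (∏ i, Q (z i))), mul_assoc, e,
      mul_neg, mul_one]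
  rw [hopp] at hψ'
  have hall : ∀ y : Multiplicative (ZMod 2) × ℤˣ, ∃ x, R x ∧ (D.prod θ) x = y := by
    intro y
    have hprod : (D.prod θ) (h * h') = (1, -1) := by
      rw [map_mul, hψ, hψ', Prod.mk_mul_mk, mul_neg, Int.units_mul_self]
      rfl
    rcases (by decide : ∀ (σ : ℤˣ) (y : Multiplicative (ZMod 2) × ℤˣ), y = (1, 1) ∨ y = (1, -1) ∨
      y = (Multiplicative.ofAdd 1, σ) ∨ y = (Multiplicative.ofAdd 1, -σ)) (Spin.sqSign (∏ i, Q (z i))) y with
      e | e | e | e <;> rw [e]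
    · exact ⟨1, h1, map_one _⟩
    · exact ⟨h * h', hmul _ _ (hR h hh) (hR' h' hh'), hprod⟩
    · exact ⟨h, hR h hh, hψ⟩
    · exact ⟨h', hR' h' hh', hψ'⟩
  obtain ⟨x, hx, hxy⟩ := hall ((D.prod θ) g)⁻¹
  exact ⟨x, hx, (hmem _).mpr (by rw [map_mul, hxy, mul_inv_cancel])⟩

end CfsgLib.Classical22.OPow
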