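/-
Omega of a tensor power form: the elements of the stabiliser it contains, and the dichotomy.
-/
import Cfsg.Agent.Lib.Classical22.OrthPower.Dich
import Cfsg.Agent.Lib.Classical22.OrthPower.Spin
import Cfsg.Agent.Lib.Classical22.OrthMaxMatrix
import Cfsg.Agent.Lib.Classical22.OrthSubfieldMatrix
import Cfsg.Agent.Lib.Classical22.TensorSpInvol
import Cfsg.Agent.Lib.Known.OrthLift.Intrinsic
import Cfsg.Agent.Lib.Classical22.OrthOrthTensor.SmallThree

set_option autoImplicit false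
set_option linter.unusedSectionVars false
set_option linter.unusedSimpArgs false
set_option maxHeartbeats 800000

namespace CfsgLib.Classical22.OPow

open Matrix Cfsg CfsgLib.Transvec CfsgLib.Classical CfsgLib.Classical22.TensorMax
  CfsgLib.Classical22.TensorMax.SympO
open CfsgLib.Classical22.TensorMax.SpO (sym_sub_left sym_sub_right sym_quad_add sym_quad_smul exists_aniso
  exists_value nd_top nd_perpIn mem_perpIn finrank_perpIn perpIn NdSub exists_singular_sym)
open CfsgLib.Classical22.TensorMax.OO (exists_partner_sym exists_aniso_pairW eq_sum_of_orth)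
open CfsgLib.Classical22.TWMax (Idx pv tGL tGL_apply permGL permGL_apply TWData IsTW twData_tGL twData_one slotEl
  slotEl_mul slotEl_data)
open scoped MatrixGroups

variable {F : Type*} [Field F] [Fintype F] {t k : ℕ} {f : (Fin k → F) → (Fin k → F) → F}

section Sq
variable (hf : Cfsg.Geo.IsSymmetricForm f) (h2 : (2 : F) ≠ 0)
include hf h2

lemma finrank_perp_eq {W : Submodule F (Fin k → F)} {z : Fin k → F} (hz : z ∈ W) (hq : f z z ≠ 0) :
    Module.finrank F (perpIn f W z) + 1 = Module.finrank F W := by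
  have h1 := finrank_perpIn hf W z
  have h3 : perpIn f W z < W := lt_of_le_of_ne (fun x hx => ((mem_perpIn hf).mp hx).1)
    fun h => hq ((mem_perpIn hf).mp (by rw [h]; exact hz : z ∈ perpIn f W z)).2
  have := Submodule.finrank_lt_finrank_of_lt h3
  omega

/-- Minus one on the perpendicular of a vector in an odd dimensional subspace, as a product of squares. -/
lemma exists_neg_sq : ∀ (j : ℕ) (W : Submodule F (Fin k → F)), NdSub f W → Module.finrank F W = 2 * j + 1 →
    ∃ v ∈ W, f v v ≠ 0 ∧ ∃ B ∈ isoSq f, B.val *ᵥ v = v ∧ (∀ x ∈ W, f x v = 0 → B.val *ᵥ x = -x) ∧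
      ∀ x, (∀ w ∈ W, f x w = 0) → B.val *ᵥ x = x := by
  intro j
  induction j with
  | zero =>
    intro W hW hd
    obtain ⟨v, hv, hvv⟩ := exists_aniso hf h2 hW (by omega)
    refine ⟨v, hv, hvv, 1, one_mem _, by simp, fun x hx hxv => ?_, fun x _ => by simp⟩
    have hne : (⟨v, hv⟩ : W) ≠ 0 := fun h => hvv (by
      rw [show v = 0 from congrArg Subtype.val h, SpO.sym_zero_left hf])
    obtain ⟨a, ha⟩ := (finrank_eq_one_iff_of_nonzero' _ hne).mp (by omega) ⟨x, hx⟩
    have hax : a • v = x := congrArg Subtype.val ha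
    rw [← hax, hf.bilinear.smul_left, mul_eq_zero] at hxv
    rw [← hax, hxv.resolve_right hvv, zero_smul]
    simp
  | succ j ih =>
    intro W hW hd
    obtain ⟨a, ha, haq⟩ := exists_value hf h2 hW (by omega) 1
    have ha0 : f a a ≠ 0 := by rw [haq]; exact one_ne_zero
    have hd1 := finrank_perp_eq hf h2 ha ha0
    obtain ⟨b, hb, hbq⟩ := exists_value hf h2 (nd_perpIn hf hW ha ha0) (by omega) 1
    have hb0 : f b b ≠ 0 := by rw [hbq]; exact one_ne_zero
    have hd2 := finrank_perp_eq hf h2 hb hb0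
    obtain ⟨hbW, hba⟩ := (mem_perpIn hf).mp hb
    obtain ⟨v, hv, hvv, B, hB, hBv, hBn, hBp⟩ :=
      ih (perpIn f (perpIn f W a) b) (nd_perpIn hf (nd_perpIn hf hW ha ha0) hb hb0) (by omega)
    obtain ⟨hv1, hvb⟩ := (mem_perpIn hf).mp hv
    obtain ⟨hvW, hva⟩ := (mem_perpIn hf).mp hv1
    have hfix : ∀ z x, f z z ≠ 0 → f x z = 0 → (rG hf z).val *ᵥ x = x := fun z x hz h => by
      rw [rG_apply hf hz, h, mul_zero, zero_smul, sub_zero]
    have hneg : ∀ z, f z z = 1 → (rG hf z).val *ᵥ z = -z := fun z hz => by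
      rw [rG_apply hf (by rw [hz]; exact one_ne_zero), hz]
      module
    refine ⟨v, hvW, hvv, rG hf a * rG hf b * B,
      mul_mem (rG_mul_mem hf h2 ha0 hb0 ⟨1, by rw [haq, hbq]⟩) hB, ?_, fun x hx hxv => ?_, fun x hx => ?_⟩
    · rw [Transvec.mul_mulVec, Transvec.mul_mulVec, hBv, hfix b v hb0 hvb, hfix a v ha0 hva]
    · obtain ⟨x', hx'⟩ : ∃ x', x' = x - f x a • a - f x b • b := ⟨_, rfl⟩
      have e1 : f x' a = 0 := by
        rw [hx', sym_sub_left hf, sym_sub_left hf, hf.bilinear.smul_left, hf.bilinear.smul_left, haq, hba]; ring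
      have e2 : f x' b = 0 := by
        rw [hx', sym_sub_left hf, sym_sub_left hf, hf.bilinear.smul_left, hf.bilinear.smul_left, hbq, hf.symm a b, hba]
        ring
      have e3 : f x' v = 0 := by
        rw [hx', sym_sub_left hf, sym_sub_left hf, hf.bilinear.smul_left, hf.bilinear.smul_left, hxv, hf.symm a v, hva,
          hf.symm b v, hvb]
        ring
      have hxW : x' ∈ perpIn f (perpIn f W a) b := (mem_perpIn hf).mpr ⟨(mem_perpIn hf).mpr
        ⟨hx' ▸ W.sub_mem (W.sub_mem hx (W.smul_mem _ ha)) (W.smul_mem _ hbW), e1⟩, e2⟩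
      have hBa : B.val *ᵥ a = a := hBp a fun w hw => by
        rw [hf.symm]; exact ((mem_perpIn hf).mp ((mem_perpIn hf).mp hw).1).2
      have hBb : B.val *ᵥ b = b := hBp b fun w hw => by rw [hf.symm]; exact ((mem_perpIn hf).mp hw).2
      have hxe : x = x' + f x a • a + f x b • b := by rw [hx']; abel
      conv_lhs => rw [hxe]
      rw [mulVec_add, mulVec_add, mulVec_smul, mulVec_smul, Transvec.mul_mulVec, Transvec.mul_mulVec,
        hBn x' hxW e3, mulVec_neg, mulVec_neg, hfix b x' hb0 e2, hfix a x' ha0 e1, Transvec.mul_mulVec,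
        Transvec.mul_mulVec, hBa, hfix b a hb0 (by rw [hf.symm]; exact hba), hneg a haq, Transvec.mul_mulVec,
        Transvec.mul_mulVec, hBb, hneg b hbq, mulVec_neg, hfix a b ha0 hba]
      conv_rhs => rw [hxe]
      module
    · rw [Transvec.mul_mulVec, Transvec.mul_mulVec, hBp x fun w hw => hx w ((mem_perpIn hf).mp
        ((mem_perpIn hf).mp hw).1).1, hfix b x hb0 (hx b hbW), hfix a x ha0 (hx a ha)]

/-- Some signed reflection is a product of squares. -/
theorem exists_eG_sq (hk : Odd k) : ∃ v, f v v ≠ 0 ∧ eG hf v ∈ isoSq f := by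
  obtain ⟨j, hj⟩ := hk
  obtain ⟨v, -, hvv, B, hB, hBv, hBn, -⟩ :=
    exists_neg_sq hf h2 j ⊤ (nd_top hf) (by rw [finrank_top, Module.finrank_fin_fun, hj])
  refine ⟨v, hvv, ?_⟩
  have e : eG hf v = B := Transvec.gl_ext fun x => by
    have h0 : f (x - (f x v / f v v) • v) v = 0 := by
      rw [sym_sub_left hf, hf.bilinear.smul_left]; field_simp; ring
    have hx : x = (x - (f x v / f v v) • v) + (f x v / f v v) • v := by abel
    rw [hx, mulVec_add, mulVec_add, mulVec_smul, mulVec_smul, eG_self hf hvv, hBv, eG_perp hf hvv h0,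
      hBn _ trivial h0]
  exact e ▸ hB

end Sq

variable {Q : QuadraticForm F (Idx (t + 2) k → F)}

section General
variable (hf : Cfsg.Geo.IsSymmetricForm f) (h2 : (2 : F) ≠ 0) (hk : 3 ≤ k)
  (hpol : ∀ x y, QuadraticMap.polar Q x y = bil f x y)
include hf h2 hk hpol

lemma q_half (x : Idx (t + 2) k → F) : Q x = bil f x x / 2 := by
  rw [← hpol, quad_polar_self]; field_simp

lemma q_nondeg : PolarNondeg Q := fun v hv => bil_nd hf fun w => by rw [← hpol, hv]

lemma q_dim : 5 ≤ Fintype.card (Idx (t + 2) k) := by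
  rw [Fintype.card_fun, Fintype.card_fin, Fintype.card_fin]
  calc 5 ≤ 3 ^ 2 := by norm_num
    _ ≤ k ^ (t + 2) := le_trans (Nat.pow_le_pow_left hk 2) (Nat.pow_le_pow_right (by omega) (by omega))

lemma mem_iso {g : GL (Idx (t + 2) k) F} (h : PIso f g) : g ∈ isometryGroup F ⇑Q := fun v _ => by
  change Q (g.val *ᵥ v) = Q v
  rw [q_half hf h2 hk hpol, q_half hf h2 hk hpol, h]

lemma exists_aut {g : GL (Idx (t + 2) k) F} (h : PIso f g) : ∃ a : qAut Q, qHom Q a = g :=
  ⟨isoEquiv Q ⟨g, mem_iso hf h2 hk hpol h⟩, by simp [qHom]⟩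

lemma omega_piso {g : GL (Idx (t + 2) k) F} (hg : g ∈ Cfsg.Geo.omegaGL ⇑Q) : PIso f g := fun x y => by
  rw [omegaGL_eq_map Q (q_nondeg hf h2 hk hpol) (q_dim hf h2 hk hpol)] at hg
  obtain ⟨a, -, rfl⟩ := hg
  rw [qHom_mulVec, qHom_mulVec, ← hpol, ← hpol, qAut_polar]

lemma comm_omega {a b : GL (Idx (t + 2) k) F} (ha : PIso f a) (hb : PIso f b) :
    a * b * a⁻¹ * b⁻¹ ∈ Cfsg.Geo.omegaGL ⇑Q := by
  rw [OrthSubfield.omegaGL_eq_commutator]
  exact Subgroup.commutator_mem_commutator (mem_iso hf h2 hk hpol ha) (mem_iso hf h2 hk hpol hb)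

lemma omega_det {g : GL (Idx (t + 2) k) F} (hg : g ∈ Cfsg.Geo.omegaGL ⇑Q) : g.val.det = 1 := by
  have h : Cfsg.Geo.omegaGL ⇑Q ≤ (Matrix.GeneralLinearGroup.det (n := Idx (t + 2) k) (R := F)).ker := by
    rw [OrthSubfield.omegaGL_eq_commutator, Subgroup.commutator_le]
    intro a _ b _
    rw [MonoidHom.mem_ker, map_commutatorElement, commutatorElement_eq_one_iff_commute]
    exact Commute.all _ _
  exact congrArg Units.val (MonoidHom.mem_ker.mp (h hg))

/-- Omega contains an element outside the stabiliser. -/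
theorem exists_not_tw : ∃ g ∈ Cfsg.Geo.omegaGL ⇑Q, ¬ IsTW g := by
  classical
  obtain ⟨e, he, hee⟩ := exists_singular_sym hf h2 hk
  obtain ⟨e', he'e', hee', he'e⟩ := exists_partner_sym hf h2 he hee
  obtain ⟨r, hre, hre', hrr⟩ := exists_aniso_pairW hf h2 hk hee he'e' hee'
  obtain ⟨P, hP⟩ : ∃ P, P = pv (fun _ : Fin (t + 2) => e) := ⟨_, rfl⟩
  obtain ⟨ws, hws⟩ : ∃ ws : Fin (t + 2) → Fin k → F, ws = Function.update (fun _ => e) 0 r := ⟨_, rfl⟩
  have h10 : (1 : Fin (t + 2)) ≠ 0 := by simp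
  have hPP : bil f P P = 0 := by rw [hP, bil_pv hf]; exact Finset.prod_eq_zero (Finset.mem_univ 0) hee
  have hPW : bil f P (pv ws) = 0 := by
    rw [hP, bil_pv hf, hws]
    exact Finset.prod_eq_zero (Finset.mem_univ 0) (by rw [Function.update_self, hf.symm, hre])
  have hWW : bil f (pv ws) (pv ws) = 0 := by
    rw [bil_pv hf, hws]
    exact Finset.prod_eq_zero (Finset.mem_univ 1) (by rw [Function.update_of_ne h10, hee])
  have hQP : Q P = 0 := by rw [q_half hf h2 hk hpol, hPP, zero_div]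
  have hpW : QuadraticMap.polar Q P (pv ws) = 0 := by rw [hpol, hPW]
  refine ⟨qHom Q (eich Q P (pv ws)), ?_, ?_⟩
  · rw [omegaGL_eq_map Q (q_nondeg hf h2 hk hpol) (q_dim hf h2 hk hpol)]
    exact ⟨_, eich_mem Q hQP hpW, rfl⟩
  rintro ⟨σ, gs, hd⟩
  obtain ⟨cs, hcs⟩ : ∃ cs : Fin (t + 2) → Fin k → F, cs = fun i => (gs i).val *ᵥ e' := ⟨_, rfl⟩
  have hsum : pv (fun _ => e') + pv ws = pv cs := by
    have h1 : (qHom Q (eich Q P (pv ws))).val *ᵥ pv (fun _ => e') = pv cs := by rw [hd, hcs]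
    rw [← h1, qHom_mulVec, eich_apply Q hQP hpW, q_half hf h2 hk hpol (pv ws), hWW, hpol, hpol, hP, bil_pv hf,
      bil_pv hf, Finset.prod_eq_one (fun i _ => he'e),
      Finset.prod_eq_zero (f := fun i => f e' (ws i)) (Finset.mem_univ 0) (by
        rw [hws, Function.update_self, hf.symm, hre'])]
    simp
  obtain ⟨zs, hzs⟩ : ∃ zs : (Fin k → F) → (Fin k → F) → Fin (t + 2) → Fin k → F,
      ∀ a b, zs a b = Function.update (Function.update (fun _ => e + e') 0 a) 1 b := ⟨_, fun a b => rfl⟩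
  have hval : ∀ a b, (∏ i, f e' (zs a b i)) + ∏ i, f (ws i) (zs a b i) = ∏ i, f (cs i) (zs a b i) := fun a b => by
    rw [← bil_pv hf, ← bil_pv hf, ← bil_pv hf, ← bil_add_left, hsum]
  have hprod : ∀ ys : Fin (t + 2) → Fin k → F,
      (∏ i, f (ys i) (zs e e i)) * ∏ i, f (ys i) (zs r e' i) =
        (∏ i, f (ys i) (zs e e' i)) * ∏ i, f (ys i) (zs r e i) := fun ys => by
    rw [← Finset.prod_mul_distrib, ← Finset.prod_mul_distrib]
    refine Finset.prod_congr rfl fun i _ => ?_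
    simp only [hzs]
    by_cases hi : i = 1
    · subst hi; simp only [Function.update_self]; ring
    · simp only [Function.update_of_ne hi]
  have hpp : ∀ (a b : Fin k → F) (ys : Fin (t + 2) → Fin k → F), (∀ i, i ≠ 0 → i ≠ 1 → f (ys i) (e + e') = 1) →
      ∏ i, f (ys i) (zs a b i) = f (ys 0) a * f (ys 1) b := fun a b ys h => by
    rw [hzs, ← Finset.prod_subset (s₁ := {0, 1}) (Finset.subset_univ _) fun i _ hi => by
        simp only [Finset.mem_insert, Finset.mem_singleton, not_or] at hi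
        rw [Function.update_of_ne hi.2, Function.update_of_ne hi.1, h i hi.1 hi.2],
      Finset.prod_pair h10.symm, Function.update_of_ne h10.symm, Function.update_self, Function.update_self]
  have hwsv : ∀ i, i ≠ 0 → i ≠ 1 → f (ws i) (e + e') = 1 := fun i hi _ => by
    rw [hws, Function.update_of_ne hi, hf.bilinear.add_right, hee, hee', zero_add]
  have he'v : ∀ i : Fin (t + 2), i ≠ 0 → i ≠ 1 → f e' (e + e') = 1 := fun i _ _ => by
    rw [hf.bilinear.add_right, he'e, he'e', add_zero]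
  have h4 := hprod cs
  rw [← hval, ← hval, ← hval, ← hval, hpp _ _ _ he'v, hpp _ _ _ he'v, hpp _ _ _ he'v, hpp _ _ _ he'v,
    hpp _ _ _ hwsv, hpp _ _ _ hwsv, hpp _ _ _ hwsv, hpp _ _ _ hwsv, hws, Function.update_self,
    Function.update_of_ne h10, hee, hee', he'e, he'e', hre, hf.symm e' r, hre'] at h4
  exact hrr (by linear_combination h4)

/-- A big group contains Omega. -/
theorem omega_le_of_big {M : Subgroup (GL (Idx (t + 2) k) F)} (C : Ctx f M) (hB : Big f M) :
    Cfsg.Geo.omegaGL ⇑Q ≤ M := by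
  rw [omegaGL_eq_map Q (q_nondeg hf h2 hk hpol) (q_dim hf h2 hk hpol), Subgroup.map_le_iff_le_comap,
    eichGroup, Subgroup.closure_le]
  rintro _ ⟨u, w, hu, huw, rfl⟩
  have hu' : bil f u u = 0 := by rw [← hpol, quad_polar_self, hu, mul_zero]
  obtain ⟨g, hg, hgv⟩ := C.ei_of_big (by omega) hB hu' (by rw [← hpol, huw] : bil f u w = 0)
  have e : qHom Q (eich Q u w) = g := Transvec.gl_ext fun v => by
    rw [qHom_mulVec, eich_apply Q hu huw, hgv, hpol, hpol, q_half hf h2 hk hpol w]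
    module
  rw [SetLike.mem_coe, Subgroup.mem_comap, e]
  exact hg

end General

section Omega
variable (hf : Cfsg.Geo.IsSymmetricForm f) (h2 : (2 : F) ≠ 0) (hk : 3 ≤ k) (hodd : Odd k)
  (hpol : ∀ x y, QuadraticMap.polar Q x y = bil f x y)
include hf h2 hk hodd hpol

/-- Permutations of the slots, corrected by slot isometries. -/
theorem exists_perm_omega (σ : Equiv.Perm (Fin (t + 2))) :
    ∃ g ∈ Cfsg.Geo.omegaGL ⇑Q, ∃ gs, (∀ l, gs l ∈ isoF f) ∧ TWData g σ gs := by
  classical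
  have hQn := q_nondeg hf h2 hk hpol
  have hn := q_dim hf h2 hk hpol
  have hn' : 5 ≤ Module.finrank F (Idx (t + 2) k → F) := by rwa [Module.finrank_pi]
  obtain ⟨p, hp⟩ : ∃ p : GL (Idx (t + 2) k) F, p = permGL σ.symm := ⟨_, rfl⟩
  have hpd : TWData p σ fun _ => 1 := fun xs => by
    rw [hp, permGL_apply]
    simp
  have hpi : PIso f p := piso_of_pv hf fun xs ys => by
    rw [hp, permGL_apply, permGL_apply, bil_pv hf]
    exact Equiv.prod_comp σ fun i => f (xs i) (ys i)
  obtain ⟨P, hP⟩ := exists_aut hf h2 hk hpol hpi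
  obtain ⟨u, hu, huo⟩ := TensorSpInvol.exists_orth_basis h2 hf
  obtain ⟨e, he, hee⟩ := exists_singular_sym hf h2 hk
  obtain ⟨e', he'e', hee', -⟩ := exists_partner_sym hf h2 he hee
  obtain ⟨ν, hν⟩ := FiniteField.exists_nonsquare (F := F) (by
    intro hc
    haveI : CharP F 2 := hc ▸ ringChar.charP F
    exact h2 CharTwo.two_eq_zero)
  have hν0 : ν ≠ 0 := fun h => hν (h ▸ IsSquare.zero)
  have hval : ∀ c : F, f (e + c • e') (e + c • e') = 2 * c := fun c => by
    rw [sym_quad_add hf, sym_quad_smul hf, hf.bilinear.smul_right, hee, hee', he'e']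
    ring
  obtain ⟨z, hz⟩ : ∃ z : F → Idx (t + 1) k → (Idx (t + 2) k → F),
      ∀ c j, z c j = pv (Fin.cons (e + c • e') fun i => u (j i)) := ⟨_, fun c j => rfl⟩
  obtain ⟨π, hπ⟩ : ∃ π : Idx (t + 1) k → F, ∀ j, π j = ∏ i, f (u (j i)) (u (j i)) := ⟨_, fun j => rfl⟩
  have hπ0 : ∀ j, π j ≠ 0 := fun j => by rw [hπ]; exact Finset.prod_ne_zero_iff.mpr fun i _ => hu _
  have hQz : ∀ c j, Q (z c j) = c * π j := fun c j => by
    rw [q_half hf h2 hk hpol, hz, bil_pv hf, Fin.prod_univ_succ, hπ]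
    simp only [Fin.cons_zero, Fin.cons_succ, hval]
    field_simp
  have hQ0 : ∀ c, c ≠ 0 → ∀ j, Q (z c j) ≠ 0 := fun c hc j => by rw [hQz]; exact mul_ne_zero hc (hπ0 j)
  have hzo : ∀ c i j, i ≠ j → QuadraticMap.polar Q (z c i) (z c j) = 0 := fun c i j h => by
    obtain ⟨l, hl⟩ := Function.ne_iff.mp h
    rw [hpol, hz, hz, bil_pv hf]
    exact Finset.prod_eq_zero (Finset.mem_univ l.succ) (by rw [Fin.cons_succ, Fin.cons_succ, huo _ _ hl])
  have hκ : Odd (Fintype.card (Idx (t + 1) k)) := by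
    rw [Fintype.card_fun, Fintype.card_fin, Fintype.card_fin]; exact hodd.pow
  have hns : ¬ IsSquare ((∏ i, Q (z 1 i)) * ∏ i, Q (z ν i)) := by
    rintro ⟨r, hr⟩
    simp only [hQz, one_mul, Finset.prod_mul_distrib, Finset.prod_const, Finset.card_univ] at hr
    obtain ⟨Pr, hPr⟩ : ∃ Pr, Pr = ∏ j, π j := ⟨_, rfl⟩
    have hPr0 : Pr ≠ 0 := hPr ▸ Finset.prod_ne_zero_iff.mpr fun j _ => hπ0 j
    obtain ⟨i, hi⟩ := hκ
    rw [← hPr, hi] at hr
    refine hν ⟨r / (Pr * ν ^ i), ?_⟩
    rw [div_mul_div_comm, eq_div_iff (mul_ne_zero (mul_ne_zero hPr0 (pow_ne_zero _ hν0))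
      (mul_ne_zero hPr0 (pow_ne_zero _ hν0))), ← hr]
    ring
  have hkr : ∀ c, c ≠ 0 → ∀ h : qAut Q,
      (∀ x, h.1 x = x - ∑ i, ((Q (z c i))⁻¹ * QuadraticMap.polar Q x (z c i)) • z c i) →
      ∃ gs, (∀ l, gs l ∈ isoF f) ∧ TWData (qHom Q h) 1 gs := by
    intro c hc h hh
    obtain ⟨v, hv⟩ : ∃ v, v = e + c • e' := ⟨_, rfl⟩
    have hvv : f v v ≠ 0 := by rw [hv, hval]; exact mul_ne_zero h2 hc
    refine ⟨Function.update (fun _ => 1) 0 (rG hf v), fun l => ?_, fun xs => ?_⟩
    · by_cases hl : l = 0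
      · subst hl; rw [Function.update_self]; exact rG_iso hf v
      · rw [Function.update_of_ne hl]; exact one_mem _
    have e1 : (fun i => ((Function.update (fun _ => (1 : GL (Fin k) F)) 0 (rG hf v)) i).val *ᵥ
        xs ((1 : Equiv.Perm (Fin (t + 2))) i)) =
        Function.update xs 0 (xs 0 - (2 / f v v * f (xs 0) v) • v) := funext fun i => by
      by_cases hi : i = 0
      · subst hi; simp [rG_apply hf hvv]
      · simp [hi]
    rw [qHom_mulVec, hh, e1, pv_sub, pv_smul, pv_self]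
    congr 1
    funext p
    have hx : ∀ i : Fin (t + 1), xs i.succ (p i.succ) =
        ∑ l, f (xs i.succ) (u l) / f (u l) (u l) * u l (p i.succ) := fun i => by
      have := congrFun (eq_sum_of_orth hf u (fun i j h => huo i j h) hu (xs i.succ)) (p i.succ)
      simpa using this
    have hps : ∀ g : Fin (t + 2) → F, ∏ i, g i = g 0 * ∏ i : Fin (t + 1), g i.succ := fun g =>
      Fin.prod_univ_succ g
    rw [Pi.smul_apply, smul_eq_mul, Finset.sum_apply]
    simp only [pv, hps, Function.update_self, Function.update_of_ne (Fin.succ_ne_zero _), hx]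
    rw [Fintype.prod_sum, Finset.mul_sum, Finset.mul_sum]
    refine Finset.sum_congr rfl fun j _ => ?_
    rw [Pi.smul_apply, smul_eq_mul, hQz, hpol, hπ, hz, bil_pv hf, ← hv]
    simp only [pv, hps, Fin.cons_zero, Fin.cons_succ, Finset.prod_mul_distrib, Finset.prod_div_distrib,
      show f v v = 2 * c by rw [hv, hval]]
    have := hπ0 j
    rw [hπ] at this
    field_simp
  obtain ⟨h, ⟨gs, hgs, hd⟩, hmem⟩ := exists_correct hQn hn' hκ (hQ0 1 one_ne_zero) (hzo 1) (hQ0 ν hν0) (hzo ν) hns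
    (R := fun h => ∃ gs, (∀ l, gs l ∈ isoF f) ∧ TWData (qHom Q h) 1 gs)
    ⟨fun _ => 1, fun _ => one_mem _, by rw [map_one]; exact twData_one⟩
    (fun a b ⟨as, has, ha⟩ ⟨bs, hbs, hb⟩ => ⟨fun i => as i * bs i, fun l => mul_mem (has l) (hbs l), by
      rw [map_mul]
      simpa using ha.mul hb⟩)
    (hkr 1 one_ne_zero) (hkr ν hν0) P
  refine ⟨qHom Q (P * h), ?_, _, fun l => hgs (σ l), ?_⟩
  · rw [omegaGL_eq_map Q hQn hn]; exact ⟨_, hmem, rfl⟩
  · rw [map_mul, hP]
    simpa using hpd.mul hd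

variable {M : Subgroup (GL (Idx (t + 2) k) F)} (hM : M ≤ Cfsg.Geo.omegaGL ⇑Q)
  (hS : ∀ g ∈ Cfsg.Geo.omegaGL ⇑Q, IsTW g → g ∈ M) (hsmall : k = 3 → 5 ≤ Nat.card F)
include hM hS hsmall

/-- The setting. -/
theorem ctx_omega : Ctx f M := by
  classical
  have hslot : ∀ (s : Fin (t + 2)) (B : GL (Fin k) F), IsTW (slotEl s B) := fun s B => ⟨_, _, slotEl_data s B⟩
  have hsq : ∀ (s : Fin (t + 2)), ∀ B ∈ isoSq f, slotEl s B ∈ M := by
    intro s B hB
    induction hB using Subgroup.closure_induction with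
    | mem x hx =>
      obtain ⟨A, hA, rfl⟩ := hx
      refine hS _ ?_ (hslot s _)
      have hn : 4 ≤ Module.finrank F (Idx (t + 2) k → F) := by
        have := q_dim hf h2 hk hpol
        rw [Module.finrank_pi]; omega
      have hqodd : Fintype.card F ≠ 2 := fun hc => by
        have h0 : ((Fintype.card F : ℕ) : F) = 0 := Nat.cast_card_eq_zero F
        rw [hc] at h0
        exact h2 (by exact_mod_cast h0)
      obtain ⟨a, ha⟩ := exists_aut hf h2 hk hpol (piso_slotEl hf s hA)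
      rw [omegaGL_eq_map Q (q_nondeg hf h2 hk hpol) (q_dim hf h2 hk hpol), ← slotEl_mul, ← ha, ← map_mul]
      exact ⟨_, Known.OrthLift.sq_mem_eichGroup (q_nondeg hf h2 hk hpol) hn (Or.inl hqodd) a, rfl⟩
    | one =>
      have h1 : slotEl s (1 : GL (Fin k) F) = 1 := by
        have := slotEl_mul s (1 : GL (Fin k) F) 1
        rwa [mul_one, mul_eq_left] at this
      rw [h1]; exact M.one_mem
    | mul x y _ _ hx hy => rw [← slotEl_mul]; exact M.mul_mem hx hy
    | inv x _ hx =>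
      have h1 : slotEl s (1 : GL (Fin k) F) = 1 := by
        have := slotEl_mul s (1 : GL (Fin k) F) 1
        rwa [mul_one, mul_eq_left] at this
      have : slotEl s x⁻¹ = (slotEl s x)⁻¹ := eq_inv_of_mul_eq_one_left (by rw [slotEl_mul, inv_mul_cancel, h1])
      rw [this]; exact M.inv_mem hx
  obtain ⟨v₀, hv₀, hv₀sq⟩ := exists_eG_sq hf h2 hodd
  refine
    { sym := hf
      two := h2
      dim := hk
      four := fun h4 => absurd hodd (by rw [h4]; decide)
      small := hsmall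
      iso := fun g hg => omega_piso hf h2 hk hpol (hM hg)
      sq := hsq
      pair := fun v s l _ hsl => ?_
      perm := fun σ _ => ?_
      sim := fun h => absurd h (Nat.not_even_iff_odd.mpr hodd)
      refl := fun h => absurd h (Nat.not_even_iff_odd.mpr hodd)
      adm := ⟨f v₀ v₀, hv₀, fun s v hv hvs => ?_⟩ }
  · obtain ⟨p, hp⟩ : ∃ p : GL (Idx (t + 2) k) F, p = permGL (Equiv.swap s l) := ⟨_, rfl⟩
    have hpd : TWData p (Equiv.swap s l) fun _ => 1 := fun xs => by
      rw [hp, permGL_apply]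
      simp
    have hpi : PIso f p := piso_of_pv hf fun xs ys => by
      rw [hp, permGL_apply, permGL_apply, bil_pv hf]
      exact Equiv.prod_comp (Equiv.swap s l) fun i => f (xs i) (ys i)
    have h := comm_omega hf h2 hk hpol (piso_slotEl hf s (eG_iso hf v)) hpi
    have hinv : (slotEl s (eG hf v))⁻¹ = slotEl s (eG hf v) := inv_eq_of_mul_eq_one_right (by
      rw [slotEl_mul, eG_mul_self]
      have := slotEl_mul s (1 : GL (Fin k) F) 1
      rwa [mul_one, mul_eq_left] at this)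
    have hc := hpd.conj_slotEl l (eG hf v)
    rw [Equiv.swap_apply_right, one_mul, inv_one, mul_one] at hc
    rw [hinv, mul_assoc (slotEl s (eG hf v)), mul_assoc (slotEl s (eG hf v)), hc] at h
    exact hS _ h ⟨_, _, (slotEl_data s _).mul (slotEl_data l _)⟩
  · obtain ⟨g, hg, gs, hgs, hd⟩ := exists_perm_omega hf h2 hk hodd hpol σ
    exact ⟨g, hS g hg ⟨σ, gs, hd⟩, gs, hgs, hd⟩
  · have h1 := M.mul_mem (hsq s _ hv₀sq)
      (hsq s (eG hf v₀ * eG hf v) (by rw [eG_mul]; exact rG_mul_mem hf h2 hv₀ hv hvs))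
    rwa [slotEl_mul, ← mul_assoc, eG_mul_self, one_mul] at h1

/-- A group above the stabiliser consists of tensor wreath elements or is Omega. -/
theorem omega_dich : (∀ g ∈ M, IsTW g) ∨ Cfsg.Geo.omegaGL ⇑Q ≤ M := by
  classical
  have C := ctx_omega hf h2 hk hodd hpol hM hS hsmall
  have hbig : Big f M → Cfsg.Geo.omegaGL ⇑Q ≤ M := omega_le_of_big hf h2 hk hpol C
  suffices h : (∀ g ∈ M, IsTW g) ∨ Big f M from h.imp id hbig
  rcases Nat.lt_or_ge k 5 with h5 | h5
  · obtain rfl : k = 3 := by obtain ⟨i, hi⟩ := hodd; omega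
    obtain ⟨p, hpF⟩ := CharP.exists F
    haveI : Fact p.Prime := ⟨CharP.char_is_prime F p⟩
    refine Three.three_dich p (t + 1) M ⟨C, fun g hg => omega_det hf h2 hk hpol (hM hg), fun s v hv => ?_⟩
    obtain ⟨w, u, T⟩ := Three.exists_tri hf h2 hv
    have e : eG hf v = eG hf w * eG hf u := Units.ext (T.ext hf
      (by rw [Units.val_mul, ← mulVec_mulVec, eG_self hf hv.1, eG_perp hf T.hu.1 T.vu, mulVec_neg,
        eG_perp hf T.hw.1 T.vw, neg_neg])
      (by rw [Units.val_mul, ← mulVec_mulVec, eG_perp hf hv.1 (by rw [hf.symm, T.vw]), eG_perp hf T.hu.1 T.wu,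
        mulVec_neg, eG_self hf T.hw.1])
      (by rw [Units.val_mul, ← mulVec_mulVec, eG_perp hf hv.1 (by rw [hf.symm, T.vu]), eG_self hf T.hu.1,
        eG_perp hf T.hw.1 (by rw [hf.symm, T.wu])]))
    refine C.sq s _ ?_
    rw [e, eG_mul]
    refine rG_mul_mem hf h2 T.hw.1 T.hu.1 ?_
    obtain ⟨a, ha⟩ := T.hw.2
    obtain ⟨b, hb⟩ := T.hu.2
    have hd := Three.det_gram_ne hf
    refine ⟨a * b / (gram f).det, ?_⟩
    field_simp
    linear_combination f u u * (gram f).det * ha + a ^ 2 * hb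
  · exact five_dich h5 (t + 1) M C

end Omega

end CfsgLib.Classical22.OPow
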