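/-
Omega of a tensor power form in even slot dimension and at least three slots: it contains every slot reflection.
-/
import Cfsg.Agent.Lib.Classical22.OrthPower.Omega
import Mathlib.GroupTheory.SpecificGroups.Alternating

set_option autoImplicit false
set_option linter.unusedSectionVars false
set_option linter.unusedSimpArgs false
set_option maxHeartbeats 800000

namespace CfsgLib.Classical22.OPow

open Matrix Cfsg CfsgLib.Transvec CfsgLib.Classical CfsgLib.Classical22.TensorMax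
  CfsgLib.Classical22.TensorMax.SympO
open CfsgLib.Classical22.TensorMax.SpO (sym_quad_smul exists_aniso nd_top)
open CfsgLib.Classical22.TensorMax.OO (eq_sum_of_orth)
open CfsgLib.Classical22.TWMax (Idx pv permGL permGL_apply TWData IsTW twData_one slotEl slotEl_apply
  slotEl_mul slotEl_data)
open scoped MatrixGroups

variable {F : Type*} [Field F] [Fintype F]

/-- A product of an even number of reflections in an orthogonal family with square spinor product is in the
commutator subgroup. -/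
theorem family_mem_eich {V : Type*} [AddCommGroup V] [Module F V] [FiniteDimensional F V] {Q : QuadraticForm F V}
    (hQ : PolarNondeg Q) (hn : 5 ≤ Module.finrank F V) {κ : Type*} [Fintype κ] [DecidableEq κ]
    (hκ : Even (Fintype.card κ)) {z : κ → V} (hz : ∀ i, Q (z i) ≠ 0)
    (horth : ∀ i j, i ≠ j → QuadraticMap.polar Q (z i) (z j) = 0) (hsq : IsSquare (∏ i, Q (z i))) :
    ∃ h ∈ eichGroup Q, ∀ x, h.1 x = x - ∑ i, ((Q (z i))⁻¹ * QuadraticMap.polar Q x (z i)) • z i := by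
  classical
  have hex : Fintype.card F ≠ 2 ∨ Module.finrank F V ≠ 4 := Or.inr (by omega)
  obtain ⟨θ, hθ, hiff⟩ := Spin.exists_spin Q hQ hex
  obtain ⟨D, hD, hD1⟩ := exists_parity_hom Q hQ (reflGroup_eq_top Q hQ hex)
  have hmem : ∀ x, x ∈ eichGroup Q ↔ (D.prod θ) x = 1 := fun x => by
    rw [eichGroup_eq_commutator Q hQ hn, hiff, MonoidHom.prod_apply, Prod.ext_iff, Prod.fst_one, Prod.snd_one,
      hD, ← ofAdd_zero, Multiplicative.ofAdd.apply_eq_iff_eq, ZMod.natCast_eq_zero_iff_even]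
  obtain ⟨h, hh, hψ⟩ := Spin.exists_refl_family Q (D.prod θ) z hz horth Finset.univ
  refine ⟨h, (hmem _).mpr ?_, hh⟩
  have e : ∀ s : Finset κ, ∏ i ∈ s, (D.prod θ) (qRefl Q (hz i)) =
      (Multiplicative.ofAdd (s.card : ZMod 2), Spin.sqSign (∏ i ∈ s, Q (z i))) := fun s => by
    induction s using Finset.induction_on with
    | empty => simp [Spin.sqSign_one, Prod.ext_iff]
    | insert i s his ih =>
      rw [Finset.prod_insert his, ih, Finset.prod_insert his, Finset.card_insert_of_notMem his,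
        MonoidHom.prod_apply, hD1, hθ, Prod.mk_mul_mk, ← Spin.sqSign_mul (hz i)
        (Finset.prod_ne_zero_iff.mpr fun j _ => hz j), ← ofAdd_add, Nat.cast_succ, add_comm (1 : ZMod 2)]
  rw [hψ, e, Finset.card_univ, (ZMod.natCast_eq_zero_iff_even.mpr hκ)]
  obtain ⟨r, hr⟩ := hsq
  have hr0 : r ≠ 0 := fun h0 => Finset.prod_ne_zero_iff.mpr (fun i _ => hz i) (by rw [hr, h0, mul_zero])
  rw [hr, Spin.sqSign_mul hr0 hr0, Int.units_mul_self]
  rfl

variable {t k : ℕ} {f : (Fin k → F) → (Fin k → F) → F} {Q : QuadraticForm F (Idx (t + 2) k → F)}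
  (hf : Cfsg.Geo.IsSymmetricForm f) (h2 : (2 : F) ≠ 0) (hk : 3 ≤ k) (hev : Even k)
  (hpol : ∀ x y, QuadraticMap.polar Q x y = bil f x y)
include hf h2 hk hpol

/-- Omega is normal in the isometries. -/
lemma omega_conj {g a : GL (Idx (t + 2) k) F} (hg : g ∈ Cfsg.Geo.omegaGL ⇑Q) (ha : PIso f a) :
    a * g * a⁻¹ ∈ Cfsg.Geo.omegaGL ⇑Q := by
  have h := (Cfsg.Geo.omegaGL ⇑Q).mul_mem (comm_omega hf h2 hk hpol ha (omega_piso hf h2 hk hpol hg)) hg
  rwa [inv_mul_cancel_right] at h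

/-- Squares of isometries are in Omega. -/
lemma omega_sq {a : GL (Idx (t + 2) k) F} (ha : PIso f a) : a * a ∈ Cfsg.Geo.omegaGL ⇑Q := by
  have hn : 4 ≤ Module.finrank F (Idx (t + 2) k → F) := by
    have := q_dim hf h2 hk hpol
    rw [Module.finrank_pi]; omega
  have hqodd : Fintype.card F ≠ 2 := fun hc => by
    have h0 : ((Fintype.card F : ℕ) : F) = 0 := Nat.cast_card_eq_zero F
    rw [hc] at h0
    exact h2 (by exact_mod_cast h0)
  obtain ⟨b, hb⟩ := exists_aut hf h2 hk hpol ha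
  rw [omegaGL_eq_map Q (q_nondeg hf h2 hk hpol) (q_dim hf h2 hk hpol), ← hb, ← map_mul]
  exact ⟨_, Known.OrthLift.sq_mem_eichGroup (q_nondeg hf h2 hk hpol) hn (Or.inl hqodd) b, rfl⟩

/-- Even permutations of the slots are in Omega. -/
theorem perm_omega (σ : Equiv.Perm (Fin (t + 2))) (hσ : Equiv.Perm.sign σ = 1) :
    ∃ g ∈ Cfsg.Geo.omegaGL ⇑Q, TWData g σ fun _ => 1 := by
  classical
  obtain ⟨H, hH⟩ : ∃ H : Subgroup (Equiv.Perm (Fin (t + 2))), ∀ τ, τ ∈ H ↔
      ∃ g ∈ Cfsg.Geo.omegaGL ⇑Q, TWData g τ fun _ => (1 : GL (Fin k) F) :=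
    ⟨{ carrier := {τ | ∃ g ∈ Cfsg.Geo.omegaGL ⇑Q, TWData g τ fun _ => (1 : GL (Fin k) F)}
       one_mem' := ⟨1, Subgroup.one_mem _, twData_one⟩
       mul_mem' := fun ⟨g, hg, hgd⟩ ⟨h, hh, hhd⟩ => ⟨h * g, Subgroup.mul_mem _ hh hg, by simpa using hhd.mul hgd⟩
       inv_mem' := fun ⟨g, hg, hgd⟩ => ⟨g⁻¹, Subgroup.inv_mem _ hg, by simpa using hgd.inv⟩ }, fun τ => Iff.rfl⟩
  refine (hH σ).mp ?_
  have hmem : σ ∈ alternatingGroup (Fin (t + 2)) := Equiv.Perm.mem_alternatingGroup.mpr hσ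
  rw [← Equiv.Perm.closure_three_cycles_eq_alternating] at hmem
  refine (Subgroup.closure_le H).mpr (fun τ hτ => (hH τ).mpr ?_) hmem
  obtain ⟨τ2, hτ2⟩ : ∃ τ2, τ2 = τ * τ := ⟨_, rfl⟩
  obtain ⟨p, hp⟩ : ∃ p : GL (Idx (t + 2) k) F, p = permGL τ2.symm := ⟨_, rfl⟩
  have hpd : TWData p τ2 fun _ => 1 := fun xs => by
    rw [hp, permGL_apply]
    simp
  have hpi : PIso f p := piso_of_pv hf fun xs ys => by
    rw [hp, permGL_apply, permGL_apply, bil_pv hf]
    exact Equiv.prod_comp τ2 fun i => f (xs i) (ys i)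
  refine ⟨p * p, omega_sq hf h2 hk hpol hpi, ?_⟩
  have e : τ2 * τ2 = τ := by
    have h3 : τ ^ 3 = 1 := by rw [← (hτ : τ.IsThreeCycle).orderOf]; exact pow_orderOf_eq_one τ
    rw [hτ2, show τ * τ * (τ * τ) = τ ^ 3 * τ by simp [pow_succ, mul_assoc], h3, one_mul]
  have h := hpd.mul hpd
  rw [e] at h
  simpa using h

include hev

/-- The products of the norms of a tensor basis of at least two slots are squares. -/
lemma prod_norms (T : ℕ) (hT : 2 ≤ T) (a : Fin k → F) : IsSquare (∏ j : Idx T k, ∏ i, a (j i)) := by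
  classical
  obtain ⟨T', rfl⟩ : ∃ T', T = T' + 2 := ⟨T - 2, by omega⟩
  rw [Finset.prod_comm]
  obtain ⟨m, hm⟩ := hev
  refine Finset.prod_induction _ IsSquare (fun x y hx hy => hx.mul hy) IsSquare.one fun i _ => ?_
  rw [← (Fin.insertNthEquiv (fun _ => Fin k) i).prod_comp, Fintype.prod_prod_type]
  simp only [Fin.insertNthEquiv_apply, Fin.insertNth_apply_same, Finset.prod_const, Finset.card_univ]
  rw [Finset.prod_pow, Fintype.card_fun, Fintype.card_fin, Fintype.card_fin,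
    show k ^ (T' + 1) = m * k ^ T' + m * k ^ T' by rw [pow_succ', ← add_mul, ← hm], pow_add]
  exact ⟨_, rfl⟩

/-- Reflections of the first slot are in Omega. -/
lemma refl_zero_omega (ht : 1 ≤ t) {v : Fin k → F} (hv : f v v ≠ 0) :
    slotEl (0 : Fin (t + 2)) (rG hf v) ∈ Cfsg.Geo.omegaGL ⇑Q := by
  classical
  have hQn := q_nondeg hf h2 hk hpol
  have hn := q_dim hf h2 hk hpol
  have hn' : 5 ≤ Module.finrank F (Idx (t + 2) k → F) := by rwa [Module.finrank_pi]
  obtain ⟨u, hu, huo⟩ := TensorSpInvol.exists_orth_basis h2 hf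
  obtain ⟨z, hz⟩ : ∃ z : Idx (t + 1) k → (Idx (t + 2) k → F),
      ∀ j, z j = pv (Fin.cons v fun i => u (j i)) := ⟨_, fun j => rfl⟩
  obtain ⟨π, hπ⟩ : ∃ π : Idx (t + 1) k → F, ∀ j, π j = ∏ i, f (u (j i)) (u (j i)) := ⟨_, fun j => rfl⟩
  have hπ0 : ∀ j, π j ≠ 0 := fun j => by rw [hπ]; exact Finset.prod_ne_zero_iff.mpr fun i _ => hu _
  have hQz : ∀ j, Q (z j) = (f v v / 2) * π j := fun j => by
    rw [q_half hf h2 hk hpol, hz, bil_pv hf, Fin.prod_univ_succ, hπ]
    simp only [Fin.cons_zero, Fin.cons_succ]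
    field_simp
  have hQ0 : ∀ j, Q (z j) ≠ 0 := fun j => by rw [hQz]; exact mul_ne_zero (div_ne_zero hv h2) (hπ0 j)
  have hzo : ∀ i j, i ≠ j → QuadraticMap.polar Q (z i) (z j) = 0 := fun i j h => by
    obtain ⟨l, hl⟩ := Function.ne_iff.mp h
    rw [hpol, hz, hz, bil_pv hf]
    exact Finset.prod_eq_zero (Finset.mem_univ l.succ) (by rw [Fin.cons_succ, Fin.cons_succ, huo _ _ hl])
  have hκ : Even (Fintype.card (Idx (t + 1) k)) := by
    rw [Fintype.card_fun, Fintype.card_fin, Fintype.card_fin]; exact hev.pow_of_ne_zero (by omega)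
  have hsq : IsSquare (∏ j, Q (z j)) := by
    simp only [hQz, Finset.prod_mul_distrib, Finset.prod_const, Finset.card_univ]
    refine IsSquare.mul ?_ ?_
    · obtain ⟨r, hr⟩ := hκ
      exact ⟨(f v v / 2) ^ r, by rw [hr, pow_add]⟩
    · simp only [hπ]
      exact prod_norms hf h2 hk hev hpol (t + 1) (by omega) fun l => f (u l) (u l)
  obtain ⟨h, hmem, hh⟩ := family_mem_eich hQn hn' hκ hQ0 hzo hsq
  rw [omegaGL_eq_map Q hQn hn]
  refine ⟨h, hmem, Units.ext (TWMax.mat_ext_pv fun xs => ?_)⟩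
  rw [qHom_mulVec, hh, slotEl_apply, rG_apply hf hv, pv_sub, pv_smul, pv_self]
  congr 1
  funext p
  have hx : ∀ i : Fin (t + 1), xs i.succ (p i.succ) =
      ∑ l, f (xs i.succ) (u l) / f (u l) (u l) * u l (p i.succ) := fun i => by
    have := congrFun (eq_sum_of_orth hf u (fun i j h => huo i j h) hu (xs i.succ)) (p i.succ)
    simpa using this
  have hps : ∀ g : Fin (t + 2) → F, ∏ i, g i = g 0 * ∏ i : Fin (t + 1), g i.succ := fun g =>
    Fin.prod_univ_succ g
  rw [Pi.smul_apply, smul_eq_mul, Finset.sum_apply]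
  simp only [pv, hps, Function.update_self, Function.update_of_ne (Fin.succ_ne_zero _), hx]
  rw [Fintype.prod_sum, Finset.mul_sum, Finset.mul_sum]
  refine Finset.sum_congr rfl fun j _ => ?_
  rw [Pi.smul_apply, smul_eq_mul, hQz, hpol, hπ, hz, bil_pv hf]
  simp only [pv, hps, Fin.cons_zero, Fin.cons_succ, Finset.prod_mul_distrib, Finset.prod_div_distrib]
  have := hπ0 j
  rw [hπ] at this
  field_simp

/-- All slot reflections, and their negatives, are in Omega. -/
theorem refl_omega (ht : 1 ≤ t) (s : Fin (t + 2)) {v : Fin k → F} (hv : f v v ≠ 0) :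
    slotEl s (rG hf v) ∈ Cfsg.Geo.omegaGL ⇑Q ∧ slotEl s (eG hf v) ∈ Cfsg.Geo.omegaGL ⇑Q := by
  classical
  have hall : ∀ w, f w w ≠ 0 → slotEl s (rG hf w) ∈ Cfsg.Geo.omegaGL ⇑Q := fun w hw => by
    obtain ⟨p, hp⟩ : ∃ p : GL (Idx (t + 2) k) F, p = permGL (Equiv.swap 0 s) := ⟨_, rfl⟩
    have hpd : TWData p (Equiv.swap 0 s) fun _ => 1 := fun xs => by
      rw [hp, permGL_apply]
      simp
    have hpi : PIso f p := piso_of_pv hf fun xs ys => by
      rw [hp, permGL_apply, permGL_apply, bil_pv hf]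
      exact Equiv.prod_comp (Equiv.swap 0 s) fun i => f (xs i) (ys i)
    have h1 := hpd.conj_slotEl s (rG hf w)
    rw [Equiv.swap_apply_right, one_mul, inv_one, mul_one] at h1
    exact h1 ▸ omega_conj hf h2 hk hpol (refl_zero_omega hf h2 hk hev hpol ht hw) hpi
  refine ⟨hall v hv, ?_⟩
  obtain ⟨u, hu, huo⟩ := TensorSpInvol.exists_orth_basis h2 hf
  have key : ∀ S : Finset (Fin k), ∃ B : GL (Fin k) F, slotEl s B ∈ Cfsg.Geo.omegaGL ⇑Q ∧
      ∀ x, B.val *ᵥ x = x - ∑ i ∈ S, (2 / f (u i) (u i) * f x (u i)) • u i := fun S => by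
    induction S using Finset.induction_on with
    | empty =>
      refine ⟨1, ?_, fun x => by simp⟩
      have h1 : slotEl s (1 : GL (Fin k) F) = 1 := by
        have := slotEl_mul s (1 : GL (Fin k) F) 1
        rwa [mul_one, mul_eq_left] at this
      rw [h1]; exact one_mem _
    | insert i S hi ih =>
      obtain ⟨B, hB, hBx⟩ := ih
      refine ⟨rG hf (u i) * B, ?_, fun x => ?_⟩
      · rw [← slotEl_mul]; exact Subgroup.mul_mem _ (hall _ (hu i)) hB
      · rw [Transvec.mul_mulVec, hBx, mulVec_sub, Matrix.mulVec_sum, rG_apply hf (hu i),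
          Finset.sum_insert hi, Finset.sum_congr rfl fun j hj => by
            rw [mulVec_smul, rG_apply hf (hu i), huo j i (fun h => hi (h ▸ hj)), mul_zero, zero_smul, sub_zero]]
        abel
  obtain ⟨B, hB, hBx⟩ := key Finset.univ
  have hneg : B = -1 := Transvec.gl_ext fun x => by
    rw [hBx, Units.val_neg, Units.val_one, neg_mulVec, one_mulVec]
    have e : ∑ i, (2 / f (u i) (u i) * f x (u i)) • u i = (2 : F) • x := by
      conv_rhs => rw [eq_sum_of_orth hf u (fun i j h => huo i j h) hu x, Finset.smul_sum]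
      exact Finset.sum_congr rfl fun i _ => by rw [smul_smul]; congr 1; ring
    rw [e, two_smul]; abel
  have h := Subgroup.mul_mem _ hB (hall v hv)
  rwa [slotEl_mul, hneg, neg_one_mul] at h

omit hev in
/-- A similitude in one slot and its inverse in another are in Omega, with at least three slots. -/
theorem sim_omega (ht : 1 ≤ t) {s l : Fin (t + 2)} (hsl : s ≠ l) {A : GL (Fin k) F} {μ : F}
    (hA : IsSim f μ A.val) : slotEl s A * slotEl l A⁻¹ ∈ Cfsg.Geo.omegaGL ⇑Q := by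
  classical
  obtain ⟨a, has, hal⟩ : ∃ a : Fin (t + 2), a ≠ s ∧ a ≠ l := by
    obtain ⟨a, ha⟩ : ∃ a, a ∉ ({s, l} : Finset (Fin (t + 2))) := by
      by_contra hc
      push Not at hc
      have h1 := Finset.card_le_card (show (Finset.univ : Finset (Fin (t + 2))) ⊆ {s, l} from fun x _ => hc x)
      rw [Finset.card_univ, Fintype.card_fin] at h1
      have h2 : ({s, l} : Finset (Fin (t + 2))).card ≤ 2 := Finset.card_le_two
      omega
    exact ⟨a, fun h => ha (by simp [h]), fun h => ha (by simp [h])⟩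
  obtain ⟨σ, hσ⟩ : ∃ σ : Equiv.Perm (Fin (t + 2)), σ = Equiv.swap l s * Equiv.swap s a := ⟨_, rfl⟩
  have hσl : σ l = s := by
    rw [hσ, Equiv.Perm.mul_apply, Equiv.swap_apply_of_ne_of_ne hsl.symm hal.symm, Equiv.swap_apply_left]
  obtain ⟨c, hc, hcd⟩ := perm_omega hf h2 hk hpol σ (by
    rw [hσ, map_mul, Equiv.Perm.sign_swap hsl.symm, Equiv.Perm.sign_swap has.symm]; rfl)
  obtain ⟨As, hAs⟩ : ∃ As, As = slotEl s A := ⟨_, rfl⟩
  have hconj : c * As⁻¹ * c⁻¹ = slotEl l A⁻¹ := by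
    have h1 := hcd.conj_slotEl l A⁻¹
    rw [hσl, one_mul, inv_one, mul_one] at h1
    have hinv : As⁻¹ = slotEl s A⁻¹ := by
      rw [hAs, eq_comm]
      refine eq_inv_of_mul_eq_one_left ?_
      rw [slotEl_mul, inv_mul_cancel]
      have := slotEl_mul s (1 : GL (Fin k) F) 1
      rwa [mul_one, mul_eq_left] at this
    rw [hinv]; exact h1
  have hbil : ∀ x y, bil f (As.val *ᵥ x) (As.val *ᵥ y) = μ * bil f x y := by
    have hm : As.valᵀ * CfsgLib.Classical22.TPow.pG (t + 2) f * As.val = μ • CfsgLib.Classical22.TPow.pG (t + 2) f := by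
      refine piso_ext fun xs ys => ?_
      rw [hAs, slotEl_apply, slotEl_apply, bil_pv hf, bil_pv hf, ← Finset.mul_prod_erase _ _ (Finset.mem_univ s),
        ← Finset.mul_prod_erase _ (fun i => f (xs i) (ys i)) (Finset.mem_univ s), Function.update_self,
        Function.update_self, hA.2, Finset.prod_congr rfl fun m hm => by
          rw [Function.update_of_ne (Finset.ne_of_mem_erase hm), Function.update_of_ne (Finset.ne_of_mem_erase hm)]]
      ring
    intro x y
    have e : ((As.valᵀ * CfsgLib.Classical22.TPow.pG (t + 2) f * As.val) *ᵥ y) ⬝ᵥ x =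
        bil f (As.val *ᵥ x) (As.val *ᵥ y) := by
      rw [bil, mul_assoc, ← mulVec_mulVec, ← mulVec_mulVec, mulVec_transpose, ← dotProduct_mulVec]
    rw [← e, hm, smul_mulVec, smul_dotProduct, smul_eq_mul, bil]
  have hnorm : (Cfsg.Geo.omegaGL ⇑Q).map (MulAut.conj As).toMonoidHom ≤ Cfsg.Geo.omegaGL ⇑Q := by
    have hI : (isometryGroup F ⇑Q).map (MulAut.conj As).toMonoidHom ≤ isometryGroup F ⇑Q := by
      rintro _ ⟨g, hg, rfl⟩
      refine mem_iso hf h2 hk hpol fun x y => ?_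
      have hgi : ∀ x y, bil f (g.val *ᵥ x) (g.val *ᵥ y) = bil f x y := fun x y => by
        have hq : ∀ v, Q (g.val *ᵥ v) = Q v := fun v => hg v v
        rw [← hpol, ← hpol, QuadraticMap.polar, QuadraticMap.polar, ← mulVec_add, hq, hq, hq]
      have hμ : ∀ x y, bil f (As⁻¹.val *ᵥ x) (As⁻¹.val *ᵥ y) = μ⁻¹ * bil f x y := fun x y => by
        have h := hbil (As⁻¹.val *ᵥ x) (As⁻¹.val *ᵥ y)
        rw [Transvec.mulVec_inv_cancel, Transvec.mulVec_inv_cancel] at h
        rw [h, inv_mul_cancel_left₀ hA.1]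
      simp only [MulEquiv.coe_toMonoidHom, MulAut.conj_apply, Units.val_mul, ← mulVec_mulVec]
      rw [hbil, hgi, hμ, mul_inv_cancel_left₀ hA.1]
    rw [OrthSubfield.omegaGL_eq_commutator, Subgroup.map_commutator]
    exact Subgroup.commutator_mono hI hI
  have h1 : As * c * As⁻¹ ∈ Cfsg.Geo.omegaGL ⇑Q :=
    hnorm ⟨c, hc, by simp [MulAut.conj_apply]⟩
  have h := Subgroup.mul_mem _ h1 (Subgroup.inv_mem _ hc)
  rwa [show As * c * As⁻¹ * c⁻¹ = As * (c * As⁻¹ * c⁻¹) by group, hconj, hAs] at h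

/-- The setting, in even dimension. -/
theorem ctx_even (ht : 1 ≤ t) (h4 : k ≠ 4) {M : Subgroup (GL (Idx (t + 2) k) F)} (hM : M ≤ Cfsg.Geo.omegaGL ⇑Q)
    (hS : ∀ g ∈ Cfsg.Geo.omegaGL ⇑Q, IsTW g → g ∈ M) : Ctx f M := by
  classical
  have hslot : ∀ (s : Fin (t + 2)) (B : GL (Fin k) F), IsTW (slotEl s B) := fun s B => ⟨_, _, slotEl_data s B⟩
  have hr : ∀ (s : Fin (t + 2)) v, f v v ≠ 0 → slotEl s (eG hf v) ∈ M := fun s v hv =>
    hS _ (refl_omega hf h2 hk hev hpol ht s hv).2 (hslot s _)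
  refine
    { sym := hf
      two := h2
      dim := hk
      four := fun h => absurd h h4
      small := fun h => absurd (h ▸ hev) (by decide)
      iso := fun g hg => omega_piso hf h2 hk hpol (hM hg)
      sq := fun s B hB => ?_
      pair := fun v s l hv _ => M.mul_mem (hr s v hv) (hr l v hv)
      perm := fun σ hσ => ?_
      sim := fun _ s l A μ hsl hA => hS _ (sim_omega hf h2 hk hpol ht hsl hA)
        ⟨_, _, (slotEl_data s A).mul (slotEl_data l A⁻¹)⟩
      refl := fun _ s v hv => hr s v hv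
      adm := ⟨1, one_ne_zero, fun s v hv _ => hr s v hv⟩ }
  · induction hB using Subgroup.closure_induction with
    | mem x hx =>
      obtain ⟨A, hA, rfl⟩ := hx
      refine hS _ ?_ (hslot s _)
      rw [← slotEl_mul]
      exact omega_sq hf h2 hk hpol (piso_slotEl hf s hA)
    | one =>
      have h1 : slotEl s (1 : GL (Fin k) F) = 1 := by
        have := slotEl_mul s (1 : GL (Fin k) F) 1
        rwa [mul_one, mul_eq_left] at this
      rw [h1]; exact M.one_mem
    | mul x y _ _ hx hy => rw [← slotEl_mul]; exact M.mul_mem hx hy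
    | inv x _ hx =>
      have h1 : slotEl s (1 : GL (Fin k) F) = 1 := by
        have := slotEl_mul s (1 : GL (Fin k) F) 1
        rwa [mul_one, mul_eq_left] at this
      have : slotEl s x⁻¹ = (slotEl s x)⁻¹ := eq_inv_of_mul_eq_one_left (by rw [slotEl_mul, inv_mul_cancel, h1])
      rw [this]; exact M.inv_mem hx
  · rcases hσ with ho | ho | hσ
    · exact absurd ho (Nat.not_odd_iff_even.mpr hev)
    · exact absurd ho h4
    obtain ⟨g, hg, hd⟩ := perm_omega hf h2 hk hpol σ hσ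
    exact ⟨g, hS g hg ⟨σ, _, hd⟩, _, fun _ => one_mem _, hd⟩

/-- The dichotomy, in even dimension at least five. -/
theorem even_dich (ht : 1 ≤ t) (h5 : 5 ≤ k) {M : Subgroup (GL (Idx (t + 2) k) F)} (hM : M ≤ Cfsg.Geo.omegaGL ⇑Q)
    (hS : ∀ g ∈ Cfsg.Geo.omegaGL ⇑Q, IsTW g → g ∈ M) : (∀ g ∈ M, IsTW g) ∨ Cfsg.Geo.omegaGL ⇑Q ≤ M := by
  have C := ctx_even hf h2 hk hev hpol ht (by omega) hM hS
  exact (five_dich h5 (t + 1) M C).imp id (omega_le_of_big hf h2 hk hpol C)

end CfsgLib.Classical22.OPow
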