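/-
The stabiliser of a decomposition into two isometric orthogonal tensor factors.
-/
import Cfsg.Agent.Lib.Classical22.OrthOrthTensor.Statement
import Cfsg.Agent.Lib.Classical22.OrthPower.Spin
import Cfsg.Agent.Lib.Classical22.TensorWreathMax.Base
import Cfsg.Agent.Lib.Classical22.TensorSpInvol

set_option autoImplicit false
set_option linter.unusedSectionVars false
set_option maxHeartbeats 800000

namespace CfsgLib.Classical22.OPow

open Matrix Kronecker Cfsg CfsgLib.Classical CfsgLib.Transvec CfsgLib.Classical22.TensorMax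
  CfsgLib.Classical22.TensorMax.SympO CfsgLib.Classical22.TensorMax.SpO CfsgLib.Classical22.TensorMax.OO
open scoped MatrixGroups

variable {F : Type*} [Field F] {k : ℕ}

/-- Two slots as two factors. -/
def sqE (k : ℕ) : (Fin 2 → Fin k) ≃ Fin k × Fin k := finTwoArrowEquiv (Fin k)

/-- The stabiliser of the unordered pair of factors. -/
def twSub (k : ℕ) (F : Type*) [Field F] : Subgroup (GL (Fin k × Fin k) F) :=
  (Cfsg.Geo.tensorWreathStandard k 2 F).map (Cfsg.Geo.glReindex (sqE k)).toMonoidHom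

lemma pv_comp (x u : Fin k → F) : TWMax.pv ![x, u] = pt x u ∘ sqE k := funext fun i => by
  simp [TWMax.pv, pt, sqE, finTwoArrowEquiv, Fin.prod_univ_two]

lemma reindex_apply (g : GL (Fin 2 → Fin k) F) (x u : Fin k → F) :
    (Cfsg.Geo.glReindex (sqE k) g).val *ᵥ pt x u = (g.val *ᵥ TWMax.pv ![x, u]) ∘ (sqE k).symm := by
  change (Matrix.reindexAlgEquiv F F (sqE k) g.val) *ᵥ pt x u = _
  rw [pv_comp, Matrix.reindexAlgEquiv_apply, Matrix.reindex_apply, Matrix.submatrix_mulVec_equiv, Equiv.symm_symm]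

theorem mem_twSub_iff (hk : 0 < k) {g : GL (Fin k × Fin k) F} : g ∈ twSub k F ↔ IsTw g := by
  constructor
  · rintro ⟨g₀, hg₀, rfl⟩
    obtain ⟨σ, gs, hgs⟩ := (TWMax.mem_standard_iff g₀).mp hg₀
    have e : ∀ x u, (Cfsg.Geo.glReindex (sqE k) g₀).val *ᵥ pt x u =
        pt ((gs 0).val *ᵥ ![x, u] (σ 0)) ((gs 1).val *ᵥ ![x, u] (σ 1)) := fun x u => by
      rw [reindex_apply, hgs, show (fun i => (gs i).val *ᵥ ![x, u] (σ i)) =
        ![(gs 0).val *ᵥ ![x, u] (σ 0), (gs 1).val *ᵥ ![x, u] (σ 1)] from funext fun i => by fin_cases i <;> rfl,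
        pv_comp, Function.comp_assoc, Equiv.self_comp_symm, Function.comp_id]
    rcases (by decide : ∀ σ : Equiv.Perm (Fin 2), (σ 0 = 0 ∧ σ 1 = 1) ∨ (σ 0 = 1 ∧ σ 1 = 0)) σ with ⟨a, b⟩ | ⟨a, b⟩
    · refine Or.inl (isKron_of_mat hk hk (gs 0).val (gs 1).val fun x u => (e x u).trans ?_)
      rw [a, b]; rfl
    · refine Or.inr ⟨(gs 0).val, (gs 1).val, fun x u => (e x u).trans ?_⟩
      rw [a, b]; rfl
  · intro hg
    obtain ⟨g₀, rfl⟩ := (Cfsg.Geo.glReindex (sqE k)).surjective g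
    refine ⟨g₀, (TWMax.mem_standard_iff g₀).mpr ?_, rfl⟩
    have e : ∀ xs : Fin 2 → Fin k → F, g₀.val *ᵥ TWMax.pv xs =
        ((Cfsg.Geo.glReindex (sqE k) g₀).val *ᵥ pt (xs 0) (xs 1)) ∘ sqE k := fun xs => by
      rw [reindex_apply, Function.comp_assoc, Equiv.symm_comp_self, Function.comp_id]
      congr 2
      funext i; fin_cases i <;> rfl
    rcases hg with hg | ⟨P, R, hPR⟩
    · obtain ⟨A, B, hAB⟩ := isKron_apply hg
      refine ⟨1, ![A, B], fun xs => ?_⟩
      rw [e, hAB, ← pv_comp]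
      congr 1
      funext i; fin_cases i <;> rfl
    · have hk' : IsKron ((Cfsg.Geo.glReindex (sqE k) g₀) * (Cfsg.Geo.glReindex (sqE k) g₀)) :=
        isKron_swaps_swaps hk hk ⟨P, R, hPR⟩ ⟨P, R, hPR⟩
      have hne : ∀ x u, x ≠ 0 → u ≠ 0 → pt (P *ᵥ u) (R *ᵥ x) ≠ 0 := fun x u hx hu => by
        rw [← hPR]; exact mulVec_ne_zero _ (pt_ne_zero hx hu)
      have hP : IsUnit P := Matrix.mulVec_injective_iff_isUnit.mp fun x y hxy => by
        by_contra hne'
        refine hne (Pi.single ⟨0, hk⟩ 1) (x - y) (sv_ne _) (sub_ne_zero.mpr hne') ?_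
        rw [mulVec_sub, show P *ᵥ x = P *ᵥ y from hxy, sub_self, pt_zero_left]
      have hR : IsUnit R := Matrix.mulVec_injective_iff_isUnit.mp fun x y hxy => by
        by_contra hne'
        refine hne (x - y) (Pi.single ⟨0, hk⟩ 1) (sub_ne_zero.mpr hne') (sv_ne _) ?_
        rw [mulVec_sub, show R *ᵥ x = R *ᵥ y from hxy, sub_self, pt_zero_right]
      refine ⟨Equiv.swap 0 1, ![hP.unit, hR.unit], fun xs => ?_⟩
      rw [e, hPR, ← pv_comp]
      congr 1
      funext i; fin_cases i <;> simp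

variable [Fintype F] {f₁ f₂ : (Fin k → F) → (Fin k → F) → F}

/-- The stabiliser is maximal, in tensor coordinates. -/
theorem sq_maximal (Q : QuadraticForm F (Fin k × Fin k → F)) (hl : Cfsg.Geo.IsSymmetricForm f₁)
    (hr : Cfsg.Geo.IsSymmetricForm f₂) (hpol : ∀ v w, QuadraticMap.polar Q v w = bform f₁ f₂ v w)
    (h2 : (2 : F) ≠ 0) (hk : 5 ≤ k) :
    Cfsg.Geo.IsMaximalIn (Cfsg.Geo.omegaGL ⇑Q) (twSub k F ⊓ Cfsg.Geo.omegaGL ⇑Q) := by
  classical
  have hQq : ∀ v, 2 * Q v = bform f₁ f₂ v v := fun v => by rw [← hpol, quad_polar_self]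
  have hQ0 : ∀ v, bform f₁ f₂ v v = 0 → Q v = 0 := fun v hv =>
    (mul_eq_zero.mp ((hQq v).trans hv)).resolve_left h2
  have hQhalf : ∀ v, Q v = bform f₁ f₂ v v / 2 := fun v => by rw [← hQq]; field_simp
  have hQn : PolarNondeg Q := fun v hv => bform_ndo hl hr fun w => by rw [← hpol, hv]
  have hcard : 12 ≤ Fintype.card (Fin k × Fin k) := by
    rw [Fintype.card_prod, Fintype.card_fin]; nlinarith
  have hrank : Module.finrank F (Fin k × Fin k → F) = Fintype.card (Fin k × Fin k) := Module.finrank_pi F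
  obtain ⟨x, hx, hxx⟩ := exists_singular_sym hl h2 (by omega : 3 ≤ k)
  obtain ⟨x', hx', hxx', -⟩ := exists_partner_sym hl h2 hx hxx
  obtain ⟨y, hyx, hyx', hy⟩ := exists_aniso_pairW hl h2 (by omega : 3 ≤ k) hxx hx' hxx'
  obtain ⟨e, he, hee⟩ := exists_singular_sym hr h2 (by omega : 3 ≤ k)
  obtain ⟨e', he', hee', he'e⟩ := exists_partner_sym hr h2 he hee
  refine isMaximalIn_omegaGL Q hQn (by omega) rfl (fun hle => ?_) fun M hHM hME hMS => ?_
  · -- some Eichler transformation does not stabilise the pair of factors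
    have hu : Q (pt x e) = 0 := hQ0 _ (by rw [bform_ptpt hl hr, hee, mul_zero])
    have huw : QuadraticMap.polar Q (pt x e) (pt y e) = 0 := by rw [hpol, bform_ptpt hl hr, hee, mul_zero]
    have htw : IsTw (qHom Q (eich Q (pt x e) (pt y e))) := (mem_twSub_iff (by omega)).mp (hle (eich_mem Q hu huw))
    have hact : ∀ z u, (qHom Q (eich Q (pt x e) (pt y e))).val *ᵥ pt z u =
        pt z u + f₂ u e • (pt (f₁ z x • y - f₁ z y • x) e) := fun z u => by
      rw [qHom_mulVec, eich_apply Q hu huw, hpol, hpol, hQhalf (pt y e), bform_ptpt hl hr, bform_ptpt hl hr,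
        bform_ptpt hl hr, hee, OO.pt_sub_left, pt_smul_left, pt_smul_left]
      simp only [mul_zero, zero_div, zero_mul, add_zero]
      module
    rcases htw with hkr | ⟨P, R, hPR⟩
    · obtain ⟨A, B, hAB⟩ := isKron_apply hkr
      -- the first factor is scalar
      obtain ⟨l, hl'⟩ : ∃ l : F, ∀ z, A.val *ᵥ z = l • z := by
        refine ⟨(f₂ (B.val *ᵥ e) e')⁻¹, fun z => ?_⟩
        have h := congrArg (s2 f₂ e') (hAB z e)
        rw [hact, hee, zero_smul, add_zero, s2q hr, s2q hr, hee', one_smul] at h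
        have hne : f₂ (B.val *ᵥ e) e' ≠ 0 := fun h0 => by
          have h' := congrArg (s2 f₂ e') (hAB x e)
          rw [hact, hee, zero_smul, add_zero, s2q hr, s2q hr, hee', one_smul, h0, zero_smul] at h'
          exact hx h'
        conv_rhs => rw [h, inv_smul_smul₀ hne]
      obtain ⟨c, hc⟩ : ∃ c : F, y = c • x' := by
        refine ⟨l * f₂ (B.val *ᵥ e') e' - f₂ e' e', ?_⟩
        have h := congrArg (s2 f₂ e') (hAB x' e')
        rw [hact, hl', map_add, map_smul, s2q hr, s2q hr, s2q hr, he'e, one_smul, hee', one_smul, hl.symm x' x, hxx',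
          hl.symm x' y, hyx', one_smul, zero_smul, sub_zero, smul_smul] at h
        linear_combination (norm := module) h
      rw [hc, hl.bilinear.smul_left, hl.symm x' x, hxx', mul_one] at hyx
      exact hy (by rw [hc, hyx, zero_smul, sym_zero_left hl])
    · have h1 : ∀ z, pt z e = pt (P *ᵥ e) (R *ᵥ z) := fun z => by rw [← hPR, hact, hee, zero_smul, add_zero]
      obtain ⟨φ, -, hφ⟩ := exists_functional (E := (⊥ : Submodule F (Fin k → F))) (u := e) (by simpa using he)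
      have h3 : ∀ z, z = (φ ⬝ᵥ (R *ᵥ z)) • (P *ᵥ e) := fun z => by
        have h := congrArg (sl φ) (h1 z)
        rwa [sl_pt, sl_pt, hφ, one_smul] at h
      obtain ⟨c, hc⟩ : ∃ c : F, y = c • x := by
        have hc0 : φ ⬝ᵥ (R *ᵥ x) ≠ 0 := fun h0 => hx (by rw [h3 x, h0, zero_smul])
        refine ⟨(φ ⬝ᵥ (R *ᵥ y)) * (φ ⬝ᵥ (R *ᵥ x))⁻¹, ?_⟩
        have hp : P *ᵥ e = (φ ⬝ᵥ (R *ᵥ x))⁻¹ • x := by
          conv_rhs => arg 2; rw [h3 x]
          rw [inv_smul_smul₀ hc0]
        rw [← smul_smul, ← hp]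
        exact h3 y
      exact hy (by rw [hc, sym_quad_smul hl, hxx, mul_zero])
  -- the setting
  obtain ⟨pc, hpF⟩ := CharP.exists F
  haveI : Fact pc.Prime := ⟨CharP.char_is_prime F pc⟩
  have hpodd : Odd pc := (Fact.out : pc.Prime).odd_of_ne_two (by
    rintro rfl
    exact h2 (by simpa using CharP.cast_eq_zero F 2))
  have hqodd : Fintype.card F ≠ 2 := fun hc => by
    have h0 : ((Fintype.card F : ℕ) : F) = 0 := Nat.cast_card_eq_zero F
    rw [hc] at h0
    exact h2 (by exact_mod_cast h0)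
  by_contra hnle
  have C : Ctx f₁ f₂ ((eichGroup Q).map (qHom Q)) (M.map (qHom Q)) := by
    refine ⟨hl, hr, h2, by omega, le_rfl, by omega, Or.inl hk,
      fun h => absurd h (by omega), Or.inr (Or.inl hk), Or.inr (Or.inr (Or.inl hk)), ?_, ?_, ?_, Subgroup.map_mono hME, ?_⟩
    · rintro _ ⟨h, -, rfl⟩ v w
      rw [← hpol, ← hpol, qHom_mulVec, qHom_mulVec, qAut_polar]
    · intro g hgiso hnil
      haveI : Nonempty (Fin k × Fin k) := Fintype.card_pos_iff.mp (by omega)
      have hmem : g ∈ isometryGroup F ⇑Q := fun v v' => by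
        change Q (g.val *ᵥ v) = Q v
        rw [hQhalf, hQhalf, hgiso]
      obtain ⟨h, hh⟩ : ∃ h : qAut Q, qHom Q h = g := ⟨isoEquiv Q ⟨g, hmem⟩, by simp [qHom]⟩
      obtain ⟨n, hn⟩ := hnil
      have hpow : g ^ pc ^ n = 1 := Units.ext (by
        obtain ⟨d, hd⟩ := Nat.exists_eq_add_of_le (Nat.lt_pow_self (n := n) (Fact.out : pc.Prime).one_lt).le
        have h1 : (g.val - 1) ^ pc ^ n = 0 := by rw [hd, pow_add, hn, zero_mul]
        rwa [sub_pow_char_pow_of_commute _ _ (Commute.one_right _), one_pow, sub_eq_zero,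
          ← Units.val_pow_eq_pow_val] at h1)
      obtain ⟨i, hi⟩ := hpodd.pow (n := n)
      refine ⟨h, ?_, hh⟩
      have he : h = h ^ (i + 1) * h ^ (i + 1) := qHom_injective Q (by
        rw [map_mul, map_pow, hh, ← pow_add, show i + 1 + (i + 1) = (2 * i + 1) + 1 by ring, pow_succ, ← hi, hpow,
          one_mul])
      rw [he]
      exact Known.OrthLift.sq_mem_eichGroup hQn (by omega) (Or.inl hqodd) _
    · rintro g hg ⟨h, hh, rfl⟩
      exact ⟨h, hHM ⟨(mem_twSub_iff (by omega)).mpr (Or.inl hg), hh⟩, rfl⟩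
    · rintro ⟨z, z', hz, hz', hzz', hfz, hfz'⟩
      have hfull : ∀ z, bform f₁ f₂ z z = 0 →
          (∀ w, bform f₁ f₂ z w = 0 → ∃ g ∈ M.map (qHom Q), IsEich f₁ f₂ g z w) → CfsgLib.Classical22.EFull Q M z := by
        intro z hz hf w hw
        obtain ⟨_, ⟨h, hh, rfl⟩, hgv⟩ := hf w (by rw [← hpol, hw])
        have he : eich Q z w = h := qAut_ext fun v => by
          rw [eich_apply Q (hQ0 z hz) hw, ← qHom_mulVec Q h, hgv, hpol, hpol, hQhalf w]
          module
        exact he ▸ hh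
      exact hnle (eichGroup_le_of_full Q hQn (by omega) (hQ0 z hz) (hQ0 z' hz') (by rwa [hpol])
        (hfull z hz hfz) (hfull z' hz' hfz'))
  exact hMS fun h hh => (mem_twSub_iff (by omega)).mpr (kron_main C hk ⟨h, hh, rfl⟩)

/-- The statement in given coordinates. -/
theorem isMaximalIn_orthSquare {ι : Type} [Fintype ι] [DecidableEq ι] (q : QuadraticForm F (ι → F))
    (hq : Odd (Fintype.card F)) (e : ι ≃ (Fin 2 → Fin k)) (P : GL ι F) {g₁ : (Fin k → F) → (Fin k → F) → F}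
    (h₁ : Cfsg.Geo.IsSymmetricForm g₁) (hT : Cfsg.Geo.IsTensorPowerFormStructure id (QuadraticMap.polar ⇑q) g₁ e P)
    (hk : 5 ≤ k) :
    Cfsg.Geo.IsMaximalIn (Cfsg.Geo.omegaGL ⇑q) (Cfsg.Geo.tensorWreathSubgroup k 2 e P ⊓ Cfsg.Geo.omegaGL ⇑q) := by
  obtain ⟨c, hc, hpol⟩ := hT
  obtain ⟨f, hfdef⟩ : ∃ f : (Fin k → F) → (Fin k → F) → F, ∀ x y, f x y = c * g₁ x y := ⟨_, fun x y => rfl⟩
  have hf : Cfsg.Geo.IsSymmetricForm f :=
    { bilinear := ⟨fun x y v => by simp only [hfdef, h₁.bilinear.add_left, mul_add],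
        fun t x v => by simp only [hfdef, h₁.bilinear.smul_left]; ring,
        fun v x y => by simp only [hfdef, h₁.bilinear.add_right, mul_add],
        fun t v x => by simp only [hfdef, h₁.bilinear.smul_right]; ring⟩
      symm := fun v w => by rw [hfdef, hfdef, h₁.symm]
      nondegenerate := fun v hv => ⟨(h₁.nondegenerate v hv).1.imp fun x h => by rw [hfdef]; exact mul_ne_zero hc h,
        (h₁.nondegenerate v hv).2.imp fun x h => by rw [hfdef]; exact mul_ne_zero hc h⟩ }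
  obtain ⟨e₂, he₂⟩ : ∃ e₂, e₂ = e.trans (sqE k) := ⟨_, rfl⟩
  obtain ⟨L, hL⟩ : ∃ L : (Fin k × Fin k → F) →ₗ[F] (ι → F), ∀ x, L x = P.val *ᵥ (x ∘ e₂) :=
    ⟨(Matrix.mulVecLin P.val).comp (LinearMap.funLeft F F e₂), fun x => rfl⟩
  have hpure : ∀ x u y w, QuadraticMap.polar ⇑(q.comp L) (pt x u) (pt y w) = f x y * g₁ u w := fun x u y w => by
    have e1 : QuadraticMap.polar ⇑(q.comp L) (pt x u) (pt y w) =
        QuadraticMap.polar ⇑q (L (pt x u)) (L (pt y w)) := by
      simp only [QuadraticMap.polar, QuadraticMap.comp_apply, map_add]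
    rw [e1, hL, hL, he₂, show pt x u ∘ (e.trans (sqE k)) = TWMax.pv ![x, u] ∘ e by rw [pv_comp]; rfl,
      show pt y w ∘ (e.trans (sqE k)) = TWMax.pv ![y, w] ∘ e by rw [pv_comp]; rfl, hpol]
    have hfm : ∀ p r : Fin k → F, g₁ p r = ∑ i, ∑ j, p i * Cfsg.Geo.gramMatrix g₁ i j * r j := fun p r =>
      TensorRefine.form_eq (σ := id) h₁.bilinear.add_left h₁.bilinear.smul_left h₁.bilinear.add_right
        (fun c v x => h₁.bilinear.smul_right c v x) p r
    rw [hfdef, mul_assoc, hfm x y, hfm u w]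
    congr 1
    rw [← (sqE k).symm.sum_comp, Fintype.sum_prod_type, Finset.sum_mul_sum]
    refine Finset.sum_congr rfl fun i _ => Finset.sum_congr rfl fun i' _ => ?_
    rw [← (sqE k).symm.sum_comp, Fintype.sum_prod_type, Finset.sum_mul_sum]
    refine Finset.sum_congr rfl fun j _ => Finset.sum_congr rfl fun j' _ => ?_
    simp [TWMax.pv, sqE, finTwoArrowEquiv, Fin.prod_univ_two]
    ring
  have hform : ∀ v w, QuadraticMap.polar ⇑(q.comp L) v w = bform f g₁ v w := fun v w => by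
    rw [eq_sum_pt v, eq_sum_pt w, ← QuadraticMap.polarBilin_apply_apply]
    simp only [map_sum, bform_sum_left hf, bform_sum_right hf, bform_ptpt hf h₁, ← hpure, LinearMap.coe_sum,
      Finset.sum_apply, QuadraticMap.polarBilin_apply_apply]
    exact Finset.sum_comm
  have hiso : (isometryGroup F ⇑(q.comp L)).map (coordEquiv e₂ P).toMonoidHom = isometryGroup F ⇑q := by
    ext g
    obtain ⟨g₀, rfl⟩ := (coordEquiv e₂ P).surjective g
    rw [Subgroup.mem_map]
    have hact : ∀ x, (coordEquiv e₂ P g₀).val *ᵥ L x = L (g₀.val *ᵥ x) := fun x => by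
      rw [hL, hL, coordEquiv_mulVec]
    constructor
    · rintro ⟨y, hy, he⟩
      obtain rfl := (coordEquiv e₂ P).injective he
      intro v v'
      obtain ⟨x, rfl⟩ : ∃ x, v = L x := ⟨(P⁻¹.val *ᵥ v) ∘ e₂.symm, by
        rw [hL, Function.comp_assoc, e₂.symm_comp_self, Function.comp_id, Transvec.mulVec_inv_cancel]⟩
      change q ((coordEquiv e₂ P y).val *ᵥ L x) = q (L x)
      rw [hact]
      exact hy x x
    · intro h
      refine ⟨g₀, fun x x' => ?_, rfl⟩
      have h1 := h (L x) (L x)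
      change q ((coordEquiv e₂ P g₀).val *ᵥ L x) = q (L x) at h1
      rwa [hact] at h1
  have hom : (Cfsg.Geo.omegaGL ⇑(q.comp L)).map (coordEquiv e₂ P).toMonoidHom = Cfsg.Geo.omegaGL ⇑q := by
    rw [OrthSubfield.omegaGL_eq_commutator, OrthSubfield.omegaGL_eq_commutator, Subgroup.map_commutator, hiso]
  have hsub : (twSub k F).map (coordEquiv e₂ P).toMonoidHom = Cfsg.Geo.tensorWreathSubgroup k 2 e P := by
    rw [Cfsg.Geo.tensorWreathSubgroup, twSub, Subgroup.map_map, Subgroup.map_map]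
    congr 1
    refine MonoidHom.ext fun g => Units.ext ?_
    subst he₂
    simp only [MonoidHom.coe_comp, MulEquiv.coe_toMonoidHom, Function.comp_apply, coordEquiv_val]
    change _ = P.val * Matrix.reindexAlgEquiv F F e.symm g.val * P⁻¹.val
    congr 2
    ext i j
    simp [Cfsg.Geo.glReindex, Matrix.reindexAlgEquiv]
  have h := isMaximalIn_map (coordEquiv e₂ P)
    (sq_maximal (q.comp L) hf h₁ hform (two_ne_zero_of_oddCard hq) hk)
  rwa [Subgroup.map_inf _ _ _ (coordEquiv e₂ P).injective, hsub, hom] at h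

end CfsgLib.Classical22.OPow
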