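/-
The tensor power stabiliser in given coordinates.
-/
import Cfsg.Agent.Lib.Classical22.OrthPower.OmegaEven

set_option autoImplicit false
set_option linter.unusedSectionVars false

namespace CfsgLib.Classical22.OPow

open Matrix Cfsg CfsgLib.Transvec CfsgLib.Classical CfsgLib.Classical22.TensorMax
  CfsgLib.Classical22.TensorMax.SympO
open CfsgLib.Classical22.TWMax (Idx pv tmat IsTW mem_standard_iff)
open CfsgLib.Classical22.TPow (pG)
open scoped MatrixGroups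

variable {F : Type*} [Field F] [Fintype F] {t k : ℕ} {f : (Fin k → F) → (Fin k → F) → F}

/-- The statement in given coordinates, from the dichotomy. -/
theorem isMaximalIn_of_dich {ι : Type} [Fintype ι] [DecidableEq ι] (q : QuadraticForm F (ι → F))
    (e : ι ≃ (Fin (t + 2) → Fin k)) (P : GL ι F) (hf : Cfsg.Geo.IsSymmetricForm f)
    (hT : Cfsg.Geo.IsTensorPowerFormStructure id (QuadraticMap.polar ⇑q) f e P) (h2 : (2 : F) ≠ 0) (hk : 3 ≤ k)
    (hdich : ∀ (Q : QuadraticForm F (Idx (t + 2) k → F)), (∀ x y, QuadraticMap.polar Q x y = bil f x y) →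
      ∀ M : Subgroup (GL (Idx (t + 2) k) F), M ≤ Cfsg.Geo.omegaGL ⇑Q →
      (∀ g ∈ Cfsg.Geo.omegaGL ⇑Q, IsTW g → g ∈ M) → (∀ g ∈ M, IsTW g) ∨ Cfsg.Geo.omegaGL ⇑Q ≤ M) :
    Cfsg.Geo.IsMaximalIn (Cfsg.Geo.omegaGL ⇑q)
      (Cfsg.Geo.tensorWreathSubgroup k (t + 2) e P ⊓ Cfsg.Geo.omegaGL ⇑q) := by
  obtain ⟨c, hc, hpol⟩ := hT
  obtain ⟨L, hL⟩ : ∃ L : (Idx (t + 2) k → F) →ₗ[F] (ι → F), ∀ x, L x = P.val *ᵥ (x ∘ e) :=
    ⟨(Matrix.mulVecLin P.val).comp (LinearMap.funLeft F F e), fun x => rfl⟩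
  obtain ⟨Q, hQd⟩ : ∃ Q : QuadraticForm F (Idx (t + 2) k → F), Q = c⁻¹ • q.comp L := ⟨_, rfl⟩
  have hQv : ∀ x, Q x = c⁻¹ * q (P.val *ᵥ (x ∘ e)) := fun x => by
    rw [hQd, QuadraticMap.smul_apply, QuadraticMap.comp_apply, hL, smul_eq_mul]
  have hform : ∀ x y, QuadraticMap.polar q (L x) (L y) = c * bil f x y := fun x y => by
    rw [hL, hL, hpol, bil, pG]
    congr 1
    simp only [dotProduct, mulVec, Finset.sum_mul]
    refine Finset.sum_congr rfl fun a _ => Finset.sum_congr rfl fun b _ => ?_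
    simp only [tmat, id_eq]
    ring
  have hQp : ∀ x y, QuadraticMap.polar Q x y = bil f x y := fun x y => by
    rw [show QuadraticMap.polar Q x y = c⁻¹ * QuadraticMap.polar q (L x) (L y) by
      simp only [QuadraticMap.polar, hQv, ← hL, map_add]; ring, hform, inv_mul_cancel_left₀ hc]
  obtain ⟨E, hE⟩ : ∃ E : GL (Idx (t + 2) k) F ≃* GL ι F,
      E = (Cfsg.Geo.glReindex e.symm).trans (MulAut.conj P) := ⟨_, rfl⟩
  have hact : ∀ (g : GL (Idx (t + 2) k) F) x, (E g).val *ᵥ L x = L (g.val *ᵥ x) := by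
    intro g x
    rw [hL, hL, hE]
    change (P.val * Matrix.reindexAlgEquiv F F e.symm g.val * (P⁻¹).val) *ᵥ (P.val *ᵥ (x ∘ e)) = _
    rw [← Matrix.mulVec_mulVec, Matrix.mulVec_mulVec (x ∘ e), Units.inv_mul, Matrix.one_mulVec,
      ← Matrix.mulVec_mulVec, Matrix.reindexAlgEquiv_apply, Matrix.reindex_apply, Equiv.symm_symm,
      Matrix.submatrix_mulVec_equiv]
    simp only [Function.comp_assoc, Equiv.self_comp_symm, Function.comp_id]
  have hiso : (isometryGroup F ⇑Q).map E.toMonoidHom = isometryGroup F ⇑q := by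
    ext g
    obtain ⟨g₀, rfl⟩ := E.surjective g
    constructor
    · rintro ⟨y, hy, he⟩
      obtain rfl := E.injective he
      intro v v'
      obtain ⟨x, rfl⟩ : ∃ x, v = L x := ⟨(P⁻¹.val *ᵥ v) ∘ e.symm, by
        rw [hL, Function.comp_assoc, e.symm_comp_self, Function.comp_id, Transvec.mulVec_inv_cancel]⟩
      change q ((E y).val *ᵥ L x) = q (L x)
      rw [hact, hL, hL]
      have := hy x x
      change Q (y.val *ᵥ x) = Q x at this
      rw [hQv, hQv] at this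
      exact mul_left_cancel₀ (inv_ne_zero hc) this
    · intro h
      refine ⟨g₀, fun x x' => ?_, rfl⟩
      have h1 := h (L x) (L x)
      change q ((E g₀).val *ᵥ L x) = q (L x) at h1
      rw [hact, hL, hL] at h1
      change Q (g₀.val *ᵥ x) = Q x
      rw [hQv, hQv, h1]
  have hom : (Cfsg.Geo.omegaGL ⇑Q).map E.toMonoidHom = Cfsg.Geo.omegaGL ⇑q := by
    rw [OrthSubfield.omegaGL_eq_commutator, OrthSubfield.omegaGL_eq_commutator, Subgroup.map_commutator, hiso]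
  have htw : ∀ g, E g ∈ Cfsg.Geo.tensorWreathSubgroup k (t + 2) e P ↔ IsTW g := fun g => by
    rw [← mem_standard_iff, Cfsg.Geo.tensorWreathSubgroup, Subgroup.map_map, hE]
    exact Subgroup.mem_map_iff_mem (f := ((Cfsg.Geo.glReindex e.symm).trans (MulAut.conj P)).toMonoidHom)
      ((Cfsg.Geo.glReindex e.symm).trans (MulAut.conj P)).injective
  have hmem : ∀ g, E g ∈ Cfsg.Geo.omegaGL ⇑q ↔ g ∈ Cfsg.Geo.omegaGL ⇑Q := fun g => by
    rw [← hom]
    exact Subgroup.mem_map_iff_mem E.injective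
  obtain ⟨g₁, hg₁, hn₁⟩ := exists_not_tw hf h2 hk hQp
  refine ⟨lt_of_le_of_ne inf_le_right fun heq => hn₁ ((htw g₁).mp (heq.ge ((hmem g₁).mpr hg₁)).1),
    fun M hHM hMK => ?_⟩
  rcases hdich Q hQp (M.comap E.toMonoidHom) (fun g hg => (hmem g).mp (hMK hg))
      (fun g hg ht => hHM ⟨(htw g).mpr ht, (hmem g).mpr hg⟩) with h | h
  · left
    refine le_antisymm (fun g hg => ?_) hHM
    obtain ⟨g₀, rfl⟩ := E.surjective g
    exact ⟨(htw g₀).mpr (h g₀ hg), hMK hg⟩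
  · right
    refine le_antisymm hMK fun g hg => ?_
    obtain ⟨g₀, rfl⟩ := E.surjective g
    exact h ((hmem g₀).mp hg)

/-- The statement in given coordinates. -/
theorem isMaximalIn_orthPower {ι : Type} [Fintype ι] [DecidableEq ι] (q : QuadraticForm F (ι → F))
    (e : ι ≃ (Fin (t + 2) → Fin k)) (P : GL ι F) (hf : Cfsg.Geo.IsSymmetricForm f)
    (hT : Cfsg.Geo.IsTensorPowerFormStructure id (QuadraticMap.polar ⇑q) f e P) (h2 : (2 : F) ≠ 0) (hk : 3 ≤ k)
    (hodd : Odd k) (hsmall : k = 3 → 5 ≤ Nat.card F) :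
    Cfsg.Geo.IsMaximalIn (Cfsg.Geo.omegaGL ⇑q)
      (Cfsg.Geo.tensorWreathSubgroup k (t + 2) e P ⊓ Cfsg.Geo.omegaGL ⇑q) :=
  isMaximalIn_of_dich q e P hf hT h2 hk fun _ hQp _ hM hS => omega_dich hf h2 hk hodd hQp hM hS hsmall

/-- The statement for at least three slots of even dimension at least six. -/
theorem isMaximalIn_orthPower_even {ι : Type} [Fintype ι] [DecidableEq ι] (q : QuadraticForm F (ι → F))
    (e : ι ≃ (Fin (t + 2) → Fin k)) (P : GL ι F) (hf : Cfsg.Geo.IsSymmetricForm f)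
    (hT : Cfsg.Geo.IsTensorPowerFormStructure id (QuadraticMap.polar ⇑q) f e P) (h2 : (2 : F) ≠ 0) (hk : 5 ≤ k)
    (hev : Even k) (ht : 1 ≤ t) :
    Cfsg.Geo.IsMaximalIn (Cfsg.Geo.omegaGL ⇑q)
      (Cfsg.Geo.tensorWreathSubgroup k (t + 2) e P ⊓ Cfsg.Geo.omegaGL ⇑q) :=
  isMaximalIn_of_dich q e P hf hT h2 (by omega) fun _ hQp _ hM hS => even_dich hf h2 (by omega) hev hQp ht hk hM hS

end CfsgLib.Classical22.OPow
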